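import Cfsg.Agent.Lib.Spor.ExtraS3A6.FactsX

/-!
Finite facts: the perpendicular of a fixed space.
-/

set_option autoImplicit false

namespace Cfsg.Agent.Spor.XS.Model

theorem x0_perp : ∀ k : Fin 3, ((List.range 256).all fun v => gm (x0 k) v == v ||
    (fixL (x0 k)).any fun w => bN v w) = true := by
  decide +kernel

theorem fixed_sixteen : ∀ k : Fin 3, k ≠ 1 →
    Fintype.card {v : Fin 256 // gm (x0 k) v == (v : ℕ)} = 16 := by
  decide +kernel

end Cfsg.Agent.Spor.XS.Model
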