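import Cfsg.Agent.Lib.Spor.ExtraS3A6.Elts

/-!
Finite facts: the three involutions and their fixed spaces.
-/

set_option autoImplicit false

namespace Cfsg.Agent.Spor.XS.Model

/-- the chosen involution of a quotient -/
def x0 (k : Fin 3) : El := if k = 0 then xA else if k = 1 then xS else xE

/-- the chosen element of order three of a quotient -/
def h0 (k : Fin 3) : El := if k = 1 then hS else hD

theorem x0_mem : ∀ k : Fin 3, x0 k ∈ elsK k ∧ h0 k ∈ elsK k ∧ mulE (x0 k) (x0 k) = oneE ∧
    mulE (h0 k) (mulE (h0 k) (h0 k)) = oneE ∧ mulE (x0 k) (h0 k) = mulE (h0 k) (x0 k) ∧ x0 k ≠ oneE := by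
  decide +kernel

theorem h0_fpf : ∀ k : Fin 3, ((List.range 256).all fun v => gm (h0 k) v != v || v == 0) = true := by
  decide +kernel

theorem xA_fix : ((List.range 256).all fun v => gm xA v != v ||
    (!qN v && (List.range 256).any fun p => gm xA p ^^^ p == v)) = true := by
  decide +kernel

theorem xE_fix : ((List.range 256).all fun v => gm xE v != v ||
    (!qN v && (List.range 256).any fun p => gm xE p ^^^ p == v)) = true := by
  decide +kernel

theorem xR_fix : ((List.range 256).all fun v => gm xR v != v ||
    ((qN v || inX 1 v) && (List.range 256).any fun p => gm xR p ^^^ p == v)) = true := by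
  decide +kernel

theorem xR_mem : xR ∈ elsK 2 := by decide +kernel

theorem xS_im : ((List.range 256).all fun p => [0, 1, 16, 17].contains (gm xS p ^^^ p)) = true := by
  decide +kernel

theorem xS_rad : ((List.range 256).all fun v => gm xS v != v || [0, 1, 16, 17].contains v ||
    (List.range 256).any fun w => gm xS w == w && bN v w) = true := by
  decide +kernel

theorem xS_pair : gm xS 6 = 6 ∧ gm xS 160 = 160 ∧ bN 6 160 = true := by decide +kernel

/-- the fixed vectors of an element -/
def fixL (e : El) : List ℕ := (List.range 256).filter fun v => gm e v == v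

theorem x0_full : ∀ k : Fin 3, ((elsK k).all fun e => e == oneE || e == x0 k ||
    !((fixL (x0 k)).all fun v => gm e v == v)) = true := by
  decide +kernel

theorem x0_hyper : ∀ k : Fin 3, ((elsK k).all fun e => e == oneE || e == x0 k ||
    mulE e (x0 k) != mulE (x0 k) e ||
    decide (2 * (fixL (x0 k)).countP (fun v => gm e v == v) < (fixL (x0 k)).length)) = true := by
  decide +kernel

theorem xA_trans : ((fixL xA).all fun a => a == 0 || (fixL xA).all fun c => c == 0 ||
    (elsK 0).any fun e => gm e a == c && (mulE e xA == mulE xA e) &&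
      ((mulE e (mulE e e) == oneE) || (mulE e (mulE e (mulE e (mulE e e))) == oneE))) = true := by
  decide +kernel

theorem xA_beta : gm xA 16 ^^^ 16 = 1 ∧ gm xA 2 = 2 ∧ gm xA 6 = 6 ∧ gm xA 1 = 1 ∧
    bN 16 2 = true ∧ bN 16 6 = false := by
  decide +kernel

theorem gE_facts : ∃ e ∈ elsK 2, mulE e xE = mulE xE e ∧ mulE e e = gE := by decide +kernel

theorem hD_sq : mulE (mulE hD hD) (mulE hD hD) = hD ∧ mulE hD xE = mulE xE hD ∧
    mulE hD hD ∈ elsK 2 ∧ mulE (mulE hD hD) xE = mulE xE (mulE hD hD) := by
  decide +kernel

theorem xE_planes : ((fixL xE).all fun a => (fixL xE).all fun c => a == 0 || c == 0 || a == c ||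
    !([hD, gE].all fun e => [a, c, a ^^^ c].contains (gm e a) && [a, c, a ^^^ c].contains (gm e c)) ||
    (List.range 256).all fun p => gm xE p ^^^ p != a || !bN p c) = true := by
  decide +kernel

end Cfsg.Agent.Spor.XS.Model
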