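import Cfsg.Agent.Lib.Spor.ExtraS3A6.Model

/-!
The inverse of a code.
-/

set_option autoImplicit false

namespace Cfsg.Agent.Spor.XS.Model

theorem idxOf_getD {l : List ℕ} {n i : ℕ} (hi : i < n) (hl : l.length = n) (hn : l.Nodup) :
    l.idxOf (l.getD i 0) = i := by
  rw [List.getD_eq_getElem _ _ (hl.symm ▸ hi)]
  exact hn.idxOf_getElem i _

theorem lists_spec (n : ℕ) : ∀ (k : ℕ), ∀ l ∈ lists n k, l.length = k ∧ l.Nodup ∧ ∀ a ∈ l, a < n
  | 0, l, h => by simp_all [lists]
  | k + 1, l, h => by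
    simp only [lists, List.mem_flatMap, List.mem_map, List.mem_filter, List.mem_range, Bool.not_eq_true',
      List.contains_eq_mem, decide_eq_false_iff_not] at h
    obtain ⟨l', hl', a, ⟨ha, han⟩, rfl⟩ := h
    obtain ⟨h1, h2, h3⟩ := lists_spec n k l' hl'
    refine ⟨by simp [h1], List.nodup_cons.2 ⟨han, h2⟩, ?_⟩
    simp only [List.mem_cons]
    rintro b (rfl | hb)
    exacts [ha, h3 b hb]

theorem invL_unique {n : ℕ} {f g : List ℕ} (hf : f ∈ lists n n) (hg : g ∈ lists n n)
    (h : mulL f g = List.range n) : (List.range n).map (fun i => f.idxOf i) = g := by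
  obtain ⟨f1, f2, f3⟩ := lists_spec n n f hf
  obtain ⟨g1, g2, g3⟩ := lists_spec n n g hg
  refine List.ext_getElem (by simp [g1]) fun i h1 h2 => ?_
  simp only [List.getElem_map, List.getElem_range]
  have h3 : (mulL f g)[i]'(by simp [mulL]; exact h2) = i := by
    simp only [h, List.getElem_range]
  simp only [mulL, List.getElem_map] at h3
  conv_lhs => rw [← h3]
  exact idxOf_getD (g3 _ (List.getElem_mem h2)) f1 f2

theorem invE_unique : ∀ f ∈ els, ∀ f' ∈ els, mulE f f' = oneE → invE f = f' := by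
  intro f hf f' hf' h
  simp only [els, List.mem_flatMap, List.mem_map] at hf hf'
  obtain ⟨s, hs, p, hp, rfl⟩ := hf
  obtain ⟨s', hs', p', hp', rfl⟩ := hf'
  simp only [mulE, oneE, Prod.mk.injEq] at h
  simp only [invE, Prod.mk.injEq]
  exact ⟨invL_unique hs hs' h.1, invL_unique hp hp' h.2⟩

end Cfsg.Agent.Spor.XS.Model
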