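import Cfsg.Agent.Lib.Spor.ExtraS3A6.FactsStab
import Cfsg.Agent.Lib.Spor.ExtraS3A6.ModelList

/-!
The parity of a code is multiplicative.
-/

set_option autoImplicit false

namespace Cfsg.Agent.Spor.XS.Model

/-- the list of values of a permutation -/
def codeL {n : ℕ} (p : Equiv.Perm (Fin n)) : List ℕ := List.ofFn fun i => (p i : ℕ)

theorem exists_perm {n : ℕ} {l : List ℕ} (h : l ∈ lists n n) : ∃ p : Equiv.Perm (Fin n), codeL p = l := by
  obtain ⟨h1, h2, h3⟩ := lists_spec n n l h
  have hlt : ∀ i : Fin n, l[(i : ℕ)]'(by omega) < n := fun i => h3 _ (List.getElem_mem _)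
  let f : Fin n → Fin n := fun i => ⟨l[(i : ℕ)]'(by omega), hlt i⟩
  have hf : Function.Injective f := fun i j e =>
    Fin.ext ((h2.getElem_inj_iff).1 (congrArg Fin.val e))
  refine ⟨Equiv.ofBijective f (Finite.injective_iff_bijective.1 hf), ?_⟩
  refine List.ext_getElem (by simp [codeL, h1]) fun i h4 h5 => ?_
  simp [codeL, f, Equiv.ofBijective_apply]

theorem mulL_codeL {n : ℕ} (p r : Equiv.Perm (Fin n)) : mulL (codeL p) (codeL r) = codeL (p * r) := by
  simp only [mulL, codeL, List.map_ofFn]
  congr 1
  funext i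
  simp [Function.comp, List.getD_eq_getElem?_getD]

theorem parL_mul {n : ℕ} (hn : ∀ p : Equiv.Perm (Fin n), parL (codeL p) = true ↔ Equiv.Perm.sign p = -1)
    {f g : List ℕ} (hf : f ∈ lists n n) (hg : g ∈ lists n n) :
    parL (mulL f g) = (parL f ^^ parL g) := by
  obtain ⟨p, rfl⟩ := exists_perm hf
  obtain ⟨r, rfl⟩ := exists_perm hg
  rw [mulL_codeL]
  rcases Int.units_eq_one_or (Equiv.Perm.sign p) with ep | ep <;>
    rcases Int.units_eq_one_or (Equiv.Perm.sign r) with er | er
  all_goals
    have hp := hn p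
    have hr := hn r
    have hpr := hn (p * r)
    rw [map_mul, ep, er] at hpr
    rw [ep] at hp
    rw [er] at hr
    revert hp hr hpr
    generalize parL (codeL p) = a
    generalize parL (codeL r) = b
    generalize parL (codeL (p * r)) = c
    cases a <;> cases b <;> cases c <;> decide

/-- the parity which is odd on the chosen involution -/
def parOf (k : Fin 3) (e : El) : Bool := if k = 1 then parL e.2 else parL e.1

theorem parOf_mul (k : Fin 3) {e f : El} (he : e ∈ els) (hf : f ∈ els) :
    parOf k (mulE e f) = (parOf k e ^^ parOf k f) := by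
  simp only [els, List.mem_flatMap, List.mem_map] at he hf
  obtain ⟨s, hs, p, hp, rfl⟩ := he
  obtain ⟨s', hs', p', hp', rfl⟩ := hf
  rw [parOf, parOf, parOf, mulE]
  split_ifs
  · exact parL_mul code_lists hp hp'
  · exact parL_mul code_lists3 hs hs'

end Cfsg.Agent.Spor.XS.Model
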