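import Mathlib.GroupTheory.Transfer
import Mathlib.GroupTheory.PGroup
import Mathlib.GroupTheory.Subgroup.Simple
import Mathlib.Data.ZMod.Basic

/-!
The transfer of an element into a group of exponent two, computed on the cycles which a two-group centralising
the element fixes.
-/

set_option autoImplicit false
set_option linter.unusedSectionVars false

namespace Cfsg.Agent.Spor.XS

universe w u

open scoped _root_.Classical in
/-- A product of an invariant function with values of order at most two is the product over the fixed points. -/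
theorem prod_fixed {α : Type w} [Fintype α] {A : Type u} [CommGroup A] (hA : ∀ a : A, a * a = 1)
    {T : Type w} [Group T] [MulAction T α] (hT : IsPGroup 2 T) (f : α → A)
    (hf : ∀ (p : T) (x : α), f (p • x) = f x) :
    ∏ x : α, f x = ∏ x ∈ Finset.univ.filter (fun x : α => ∀ p : T, p • x = x), f x := by
  haveI : Fact (Nat.Prime 2) := ⟨Nat.prime_two⟩
  rw [← Finset.prod_filter_mul_prod_filter_not Finset.univ (fun x : α => ∀ p : T, p • x = x) f]
  suffices h : ∏ x ∈ Finset.univ.filter (fun x : α => ¬ ∀ p : T, p • x = x), f x = 1 by rw [h, mul_one]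
  rw [← Finset.prod_fiberwise_of_maps_to (g := fun x : α => (Quotient.mk'' x : Quotient (MulAction.orbitRel T α)))
    (t := Finset.univ) (fun x _ => Finset.mem_univ _) f]
  refine Finset.prod_eq_one fun ω _ => ?_
  obtain ⟨y, rfl⟩ := Quotient.mk''_surjective ω
  by_cases hy : ∀ p : T, p • y = y
  · refine Finset.prod_eq_one fun x hx => ?_
    simp only [Finset.mem_filter, Finset.mem_univ, true_and] at hx
    obtain ⟨hx, e⟩ := hx
    obtain ⟨p, rfl⟩ := Quotient.exact' e
    exact absurd (fun r => by show r • p • y = p • y; rw [hy p]; exact hy r) hx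
  · have hset : (Finset.univ.filter (fun x : α => ¬ ∀ p : T, p • x = x)).filter
        (fun x => (Quotient.mk'' x : Quotient (MulAction.orbitRel T α)) = Quotient.mk'' y) =
          (MulAction.orbit T y).toFinset := by
      ext x
      simp only [Finset.mem_filter, Finset.mem_univ, true_and, Set.mem_toFinset]
      constructor
      · exact fun h => Quotient.exact' h.2
      · intro h
        refine ⟨fun hfix => hy fun r => ?_, Quotient.sound' h⟩
        obtain ⟨p, rfl⟩ := h
        have h1 : p⁻¹ • p • y = p • y := hfix p⁻¹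
        rw [inv_smul_smul] at h1
        rw [h1]
        exact hfix r
    rw [hset, Finset.prod_congr rfl (g := fun _ => f y) (fun x hx => by
      obtain ⟨p, rfl⟩ := Set.mem_toFinset.1 hx
      exact hf p y), Finset.prod_const, Set.toFinset_card, ← Nat.card_eq_fintype_card]
    obtain ⟨k, hk⟩ := hT.card_orbit y
    rw [hk]
    rcases k with - | k
    · refine absurd (fun p => ?_) hy
      have h1 := Nat.card_eq_one_iff_unique.1 (by rw [hk, pow_zero])
      exact congrArg Subtype.val (h1.1.elim ⟨p • y, MulAction.mem_orbit y p⟩ ⟨y, MulAction.mem_orbit_self y⟩)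
    · rw [pow_succ', pow_mul, pow_two, hA, one_pow]

variable {G : Type w} [Group G] [Finite G] {A : Type u} [CommGroup A]

open scoped _root_.Classical in
/-- the value of the cycle through the coset of `r` -/
noncomputable def cycVal (K : Subgroup G) (φ : ↥K →* A) (v r : G) : A :=
  if h : r⁻¹ * v ^ Function.minimalPeriod (v • ·) (QuotientGroup.mk r : G ⧸ K) * r ∈ K then φ ⟨_, h⟩ else 1

theorem cycVal_congr (K : Subgroup G) (φ : ↥K →* A) (v : G) {r r' : G}
    (h : (QuotientGroup.mk r : G ⧸ K) = QuotientGroup.mk r') : cycVal K φ v r = cycVal K φ v r' := by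
  classical
  rw [cycVal, cycVal, ← h]
  obtain ⟨k, hk, rfl⟩ : ∃ k ∈ K, r' = r * k := ⟨r⁻¹ * r', QuotientGroup.eq.1 h, by group⟩
  set w := v ^ Function.minimalPeriod (v • ·) (QuotientGroup.mk r : G ⧸ K)
  have e : (r * k)⁻¹ * w * (r * k) = k⁻¹ * (r⁻¹ * w * r) * k := by group
  by_cases hw : r⁻¹ * w * r ∈ K
  · have hw' : (r * k)⁻¹ * w * (r * k) ∈ K := by rw [e]; exact mul_mem (mul_mem (inv_mem hk) hw) hk
    rw [dif_pos hw, dif_pos hw', show (⟨_, hw'⟩ : ↥K) = ⟨k, hk⟩⁻¹ * ⟨_, hw⟩ * ⟨k, hk⟩ from Subtype.ext e,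
      map_mul, map_mul, map_inv, mul_comm (φ ⟨k, hk⟩)⁻¹, inv_mul_cancel_right]
  · have hw' : ¬ (r * k)⁻¹ * w * (r * k) ∈ K := fun h' => hw (by
      have := mul_mem (mul_mem hk h') (inv_mem hk)
      rwa [e, show k * (k⁻¹ * (r⁻¹ * w * r) * k) * k⁻¹ = r⁻¹ * w * r by group] at this)
    rw [dif_neg hw, dif_neg hw']

theorem cycVal_of_fixed (K : Subgroup G) (φ : ↥K →* A) (v : G) {r : G} (h : r⁻¹ * v * r ∈ K) :
    cycVal K φ v r = φ ⟨_, h⟩ := by
  classical
  have h1 : Function.minimalPeriod (v • ·) (QuotientGroup.mk r : G ⧸ K) = 1 := by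
    refine Function.minimalPeriod_eq_one_iff_isFixedPt.2 ?_
    show v • (QuotientGroup.mk r : G ⧸ K) = QuotientGroup.mk r
    rw [MulAction.Quotient.smul_mk, smul_eq_mul, QuotientGroup.eq]
    have := inv_mem h
    rwa [show (r⁻¹ * v * r)⁻¹ = (v * r)⁻¹ * r by group] at this
  have h' : r⁻¹ * v ^ Function.minimalPeriod (v • ·) (QuotientGroup.mk r : G ⧸ K) * r ∈ K := by
    rw [h1, pow_one]; exact h
  rw [cycVal, dif_pos h']
  exact congrArg φ (Subtype.ext (by simp only [h1, pow_one]))

theorem cycVal_comm (K : Subgroup G) (φ : ↥K →* A) {v p : G} (hp : Commute p v) (r : G) :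
    cycVal K φ v (p * r) = cycVal K φ v r := by
  classical
  have hm : Function.minimalPeriod (v • ·) (QuotientGroup.mk (p * r) : G ⧸ K) =
      Function.minimalPeriod (v • ·) (QuotientGroup.mk r : G ⧸ K) := by
    refine Nat.dvd_antisymm ?_ ?_ <;>
    · rw [← Function.isPeriodicPt_iff_minimalPeriod_dvd]
      show (v • ·)^[_] _ = _
      have h0 := Function.isPeriodicPt_minimalPeriod (v • ·) (QuotientGroup.mk r : G ⧸ K)
      have h1 := Function.isPeriodicPt_minimalPeriod (v • ·) (QuotientGroup.mk (p * r) : G ⧸ K)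
      simp only [Function.IsPeriodicPt, Function.IsFixedPt, smul_iterate] at h0 h1 ⊢
      rw [show (QuotientGroup.mk (p * r) : G ⧸ K) = p • QuotientGroup.mk r from rfl] at *
      first
        | (rw [smul_smul, ← (hp.pow_right _).eq, ← smul_smul, h0])
        | (rw [smul_smul, ← (hp.pow_right _).eq, ← smul_smul] at h1
           exact smul_left_cancel p h1)
  have e : ∀ n : ℕ, (p * r)⁻¹ * v ^ n * (p * r) = r⁻¹ * v ^ n * r := fun n => by
    rw [show (p * r)⁻¹ * v ^ n * (p * r) = r⁻¹ * (p⁻¹ * v ^ n * p) * r by group,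
      show p⁻¹ * v ^ n * p = v ^ n by rw [mul_assoc, ← (hp.pow_right n).eq, inv_mul_cancel_left]]
  simp only [cycVal, hm, e]

open scoped _root_.Classical in
/-- The transfer of `v` is the product over the cycles fixed by a two-group commuting with it. -/
theorem transfer_fixed (K : Subgroup G) [K.FiniteIndex] (φ : ↥K →* A) (hA : ∀ a : A, a * a = 1)
    (T : Subgroup G) (hT : IsPGroup 2 T) {v : G} (hcomm : ∀ p ∈ T, Commute p v) :
    ∃ S : Finset (G ⧸ K), MonoidHom.transfer φ v = ∏ x ∈ S, cycVal K φ v x.out ∧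
      (∀ x, x ∈ S → ∀ p ∈ T, ∃ k : ℤ, p • x = v ^ k • x) ∧
      (∀ x, x ∈ S → ∀ y, y ∈ S → ∀ k : ℤ, y = v ^ k • x → y = x) ∧
      (∀ x, (∀ p ∈ T, ∃ k : ℤ, p • x = v ^ k • x) → ∃ y ∈ S, ∃ k : ℤ, y = v ^ k • x) := by
  letI := K.fintypeQuotientOfFiniteIndex
  let Ω := Quotient (MulAction.orbitRel (Subgroup.zpowers v) (G ⧸ K))
  have hrel : ∀ x y : G ⧸ K, (Quotient.mk'' x : Ω) = Quotient.mk'' y ↔ ∃ k : ℤ, x = v ^ k • y := by
    intro x y
    constructor
    · intro h
      obtain ⟨⟨_, k, rfl⟩, e⟩ := Quotient.exact' h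
      exact ⟨k, e.symm⟩
    · rintro ⟨k, rfl⟩
      exact Quotient.sound' ⟨⟨v ^ k, k, rfl⟩, rfl⟩
  have hwell : ∀ (p : ↥T) (x y : G ⧸ K), (Quotient.mk'' x : Ω) = Quotient.mk'' y →
      (Quotient.mk'' ((p : G) • x) : Ω) = Quotient.mk'' ((p : G) • y) := by
    intro p x y h
    obtain ⟨k, rfl⟩ := (hrel x y).1 h
    exact (hrel _ _).2 ⟨k, by rw [smul_smul, smul_smul, ((hcomm p p.2).zpow_right k).eq]⟩
  letI act : MulAction ↥T Ω :=
    { smul := fun p ω => Quotient.map' (fun x => (p : G) • x)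
        (fun x y h => Quotient.exact' (hwell p x y (Quotient.sound' h))) ω
      one_smul := fun ω => by
        obtain ⟨x, rfl⟩ := Quotient.mk''_surjective ω
        show (Quotient.mk'' ((1 : G) • x) : Ω) = Quotient.mk'' x
        rw [one_smul]
      mul_smul := fun p q ω => by
        obtain ⟨x, rfl⟩ := Quotient.mk''_surjective ω
        show (Quotient.mk'' (((p : G) * q) • x) : Ω) = Quotient.mk'' ((p : G) • (q : G) • x)
        rw [mul_smul] }
  let f : Ω → A := fun ω => cycVal K φ v ω.out.out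
  have hfmk : ∀ x : G ⧸ K, f (Quotient.mk'' x) = cycVal K φ v x.out := by
    intro x
    obtain ⟨k, hk⟩ := (hrel _ x).1 (Quotient.out_eq' (Quotient.mk'' x : Ω))
    show cycVal K φ v (Quotient.mk'' x : Ω).out.out = _
    rw [← cycVal_comm K φ (((Commute.refl v).zpow_left k)) x.out]
    refine cycVal_congr K φ v ?_
    rw [QuotientGroup.out_eq']
    refine hk.trans ?_
    conv_lhs => rw [← QuotientGroup.out_eq' x, MulAction.Quotient.smul_mk]
    rfl
  have hfinv : ∀ (p : ↥T) (ω : Ω), f (p • ω) = f ω := by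
    intro p ω
    obtain ⟨x, rfl⟩ := Quotient.mk''_surjective ω
    show f (Quotient.mk'' ((p : G) • x)) = f (Quotient.mk'' x)
    rw [hfmk, hfmk, ← cycVal_comm K φ (hcomm p p.2) x.out]
    refine cycVal_congr K φ v ?_
    rw [QuotientGroup.out_eq']
    conv_lhs => rw [← QuotientGroup.out_eq' x, MulAction.Quotient.smul_mk]
    rfl
  refine ⟨(Finset.univ.filter (fun ω : Ω => ∀ p : ↥T, p • ω = ω)).image Quotient.out, ?_, ?_, ?_, ?_⟩
  · rw [Finset.prod_image (fun a _ b _ h => Quotient.out_injective h),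
      MonoidHom.transfer_eq_prod_quotient_orbitRel_zpowers_quot]
    refine Eq.trans ?_ ((prod_fixed hA hT f hfinv).trans (Finset.prod_congr rfl fun ω _ => rfl))
    refine Finset.prod_congr rfl fun q _ => ?_
    show _ = cycVal K φ v q.out.out
    have hm : q.out.out⁻¹ * v ^ Function.minimalPeriod (v • ·) (QuotientGroup.mk q.out.out : G ⧸ K) * q.out.out
        ∈ K := by
      rw [QuotientGroup.out_eq']
      exact QuotientGroup.out_conj_pow_minimalPeriod_mem K v q.out
    rw [cycVal, dif_pos hm]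
    refine congrArg φ (Subtype.ext ?_)
    simp only [QuotientGroup.out_eq']
  · intro x hx p hp
    obtain ⟨ω, hω, rfl⟩ := Finset.mem_image.1 hx
    have h := (Finset.mem_filter.1 hω).2 ⟨p, hp⟩
    refine (hrel _ _).1 ?_
    conv_rhs => rw [Quotient.out_eq']
    refine Eq.trans ?_ h
    conv_rhs => rw [← Quotient.out_eq' ω]
    rfl
  · intro x hx y hy k e
    obtain ⟨ω, -, rfl⟩ := Finset.mem_image.1 hx
    obtain ⟨ω', -, rfl⟩ := Finset.mem_image.1 hy
    have := (hrel _ _).2 ⟨k, e⟩
    rw [Quotient.out_eq', Quotient.out_eq'] at this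
    rw [this]
  · intro x hx
    refine ⟨(Quotient.mk'' x : Ω).out, Finset.mem_image.2 ⟨Quotient.mk'' x, ?_, rfl⟩,
      (hrel _ _).1 (Quotient.out_eq' _)⟩
    refine Finset.mem_filter.2 ⟨Finset.mem_univ _, fun p => ?_⟩
    obtain ⟨k, hk⟩ := hx p p.2
    exact (hrel _ _).2 ⟨k, hk⟩

open scoped _root_.Classical in
/-- the version in which only the base coset has a fixed cycle -/
theorem transfer_only (K : Subgroup G) [K.FiniteIndex] (φ : ↥K →* A) (hA : ∀ a : A, a * a = 1)
    (T : Subgroup G) (hT : IsPGroup 2 T) (hTK : T ≤ K) {v : G} (hv : v ∈ K) (hcomm : ∀ p ∈ T, Commute p v)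
    (honly : ∀ r : G, (∀ p ∈ T, ∃ k : ℤ, r⁻¹ * (v ^ k)⁻¹ * p * r ∈ K) → r ∈ K) :
    MonoidHom.transfer φ v = φ ⟨v, hv⟩ := by
  obtain ⟨S, hS, h1, h2, h3⟩ := transfer_fixed K φ hA T hT hcomm
  have hall : ∀ x ∈ S, x = (QuotientGroup.mk 1 : G ⧸ K) := by
    intro x hx
    rw [← QuotientGroup.out_eq' x, QuotientGroup.eq, mul_one, inv_mem_iff]
    refine honly _ fun p hp => ?_
    obtain ⟨k, hk⟩ := h1 x hx p hp
    refine ⟨k, ?_⟩
    rw [← QuotientGroup.out_eq' x, MulAction.Quotient.smul_mk, MulAction.Quotient.smul_mk, QuotientGroup.eq,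
      smul_eq_mul, smul_eq_mul] at hk
    have := inv_mem hk
    rwa [show ((p * x.out)⁻¹ * (v ^ k * x.out))⁻¹ = x.out⁻¹ * (v ^ k)⁻¹ * p * x.out by group] at this
  obtain ⟨y, hy, -⟩ := h3 (QuotientGroup.mk 1) fun p hp => ⟨0, by
    rw [zpow_zero, one_smul, MulAction.Quotient.smul_mk, QuotientGroup.eq, smul_eq_mul, mul_one, mul_one]
    exact inv_mem (hTK hp)⟩
  have hSeq : S = {(QuotientGroup.mk 1 : G ⧸ K)} := by
    ext x
    rw [Finset.mem_singleton]
    exact ⟨hall x, fun e => e ▸ hall y hy ▸ hy⟩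
  rw [hS, hSeq, Finset.prod_singleton]
  have hv' : (1 : G)⁻¹ * v * 1 ∈ K := by simpa using hv
  rw [cycVal_congr K φ v (QuotientGroup.out_eq' (QuotientGroup.mk 1 : G ⧸ K)), cycVal_of_fixed K φ v hv']
  exact congrArg φ (Subtype.ext (by simp))

/-- In a non-abelian simple group every transfer into an abelian group is trivial. -/
theorem transfer_trivial [IsSimpleGroup G] (hG : ¬ IsMulCommutative G) (K : Subgroup G) [K.FiniteIndex]
    (φ : ↥K →* A) (v : G) : MonoidHom.transfer φ v = 1 := by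
  have h : (MonoidHom.transfer φ).ker = ⊤ := by
    refine ((IsSimpleGroup.eq_bot_or_eq_top_of_normal _) inferInstance).resolve_left fun h => hG ?_
    have hi := (MonoidHom.ker_eq_bot_iff _).1 h
    exact ⟨⟨fun a b => hi (by rw [map_mul, map_mul, mul_comm])⟩⟩
  exact (MonoidHom.ker_eq_top_iff.1 h) ▸ rfl

end Cfsg.Agent.Spor.XS
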