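import Cfsg.Agent.Lib.Spor.ExtraS3A6.Fused
import Cfsg.Agent.Lib.Spor.ExtraS3A6.FactsX
import Cfsg.Agent.Lib.Spor.ExtraS3A6.FactsPerp
import Cfsg.Agent.Lib.Spor.ExtraS3A6.Parity
import Cfsg.Agent.Lib.Spor.ExtraS3A6.Transfer

/-!
The lift of the chosen involution, its centralizer in the extraspecial group and the cycles of the transfer.
-/

set_option autoImplicit false
set_option linter.style.haveILetI false
set_option linter.unusedSectionVars false

namespace Cfsg.Agent.Spor.XS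

open Model

universe u v

variable {k : Fin 3} {G : Type u} [Group G] [Finite G] {Γ : Type v} [Group Γ] {H : Hyp G Γ}

theorem Crd.gm_xor (S : Crd k H) {e : El} (he : e ∈ elsK k) {a b : ℕ} (ha : a < 256) (hb : b < 256) :
    gm e (a ^^^ b) = gm e a ^^^ gm e b := by
  obtain ⟨c, hc, rfl⟩ := S.exists_ei he
  obtain ⟨x, hx, rfl⟩ := S.vec_surj a ha
  obtain ⟨y, hy, rfl⟩ := S.vec_surj b hb
  simp only [Crd.ei]
  rw [← S.vec_mul x hx y hy, ← S.vec_conj c hc x hx, ← S.vec_conj c hc y hy,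
    ← S.vec_conj c hc _ (mul_mem hx hy), ← S.vec_mul _ (H.conj_mem hc hx) _ (H.conj_mem hc hy), conj_mul]

theorem Crd.gm_lt (S : Crd k H) {e : El} (he : e ∈ elsK k) {a : ℕ} (ha : a < 256) : gm e a < 256 := by
  obtain ⟨c, hc, rfl⟩ := S.exists_ei he
  obtain ⟨x, hx, rfl⟩ := S.vec_surj a ha
  simp only [Crd.ei]
  rw [← S.vec_conj c hc x hx]
  exact S.vec_lt _

theorem Crd.fix_h0 (S : Crd k H) {v : ℕ} (hv : v < 256) (h : gm (h0 k) v = v) : v = 0 := by
  have h1 := List.all_eq_true.1 (h0_fpf k) v (List.mem_range.2 hv)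
  simp only [h, bne_self_eq_false, Bool.false_or, beq_iff_eq] at h1
  exact h1

/-- a lift of the chosen pair of commuting elements -/
structure Lift (S : Crd k H) where
  x : G
  h : G
  hx : x ∈ H.C
  hh : h ∈ H.C
  ex : S.ei x = x0 k
  eh : S.ei h = h0 k
  h3 : h * h * h = 1
  xh : Commute x h
  x2 : x * x = 1 ∨ x * x = H.z

theorem Crd.exists_lift (S : Crd k H) : Nonempty (Lift S) := by
  obtain ⟨hxm, hhm, hxx, hhh, hxh, -⟩ := x0_mem k
  obtain ⟨c, hc, hce⟩ := S.exists_ei hhm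
  have hc3 : c * (c * c) ∈ H.Q := by
    rw [← S.ei_eq_one (mul_mem hc (mul_mem hc hc)), S.ei_mul hc (mul_mem hc hc), S.ei_mul hc hc, hce, hhh]
  set q := c * (c * c) with hq
  have hq4 : q * q * (q * q) = 1 := by
    rcases H.sq_mem hc3 with e | e <;> rw [e]
    · rw [mul_one]
    · exact H.z_sq
  have hcq : Commute c q := by
    rw [hq]
    exact (Commute.refl c).mul_right ((Commute.refl c).mul_right (Commute.refl c))
  set h := c * (q * q * q * q * q) with hh
  have hhC : h ∈ H.C := mul_mem hc (H.Q_le (mul_mem (mul_mem (mul_mem (mul_mem hc3 hc3) hc3) hc3) hc3))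
  have heh : S.ei h = h0 k := by
    rw [hh, S.ei_mul_mem hc (mul_mem (mul_mem (mul_mem (mul_mem hc3 hc3) hc3) hc3) hc3), hce]
  have h3 : h * h * h = 1 := by
    have e5 : Commute c (q * q * q * q * q) :=
      (((hcq.mul_right hcq).mul_right hcq).mul_right hcq).mul_right hcq
    have h16 : q * q * q * q * q = q := by
      calc q * q * q * q * q = q * q * (q * q) * q := by group
        _ = q := by rw [hq4, one_mul]
    rw [hh, h16]
    calc c * q * (c * q) * (c * q) = c * (c * c) * (q * q * q) := by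
          have e := hcq.eq
          calc c * q * (c * q) * (c * q) = c * (q * c) * q * (c * q) := by group
            _ = c * c * (q * q * c) * q := by rw [← e]; group
            _ = c * c * (c * (q * q)) * q := by rw [((hcq.mul_right hcq)).eq]
            _ = c * (c * c) * (q * q * q) := by group
      _ = q * q * (q * q) := by rw [← hq]; group
      _ = 1 := hq4
  obtain ⟨x1, hx1, hx1e⟩ := S.exists_ei hxm
  set d := x1 * h * x1⁻¹ * h⁻¹ with hd
  have hdQ : d ∈ H.Q := by
    rw [← H.img_eq_one (mul_mem (mul_mem (mul_mem hx1 hhC) (inv_mem hx1)) (inv_mem hhC)),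
      H.img_mul (mul_mem (mul_mem hx1 hhC) (inv_mem hx1)) (inv_mem hhC), H.img_conj hx1 hhC, H.img_inv hhC]
    have hcomm : H.img x1 * H.img h = H.img h * H.img x1 := S.el_inj (by
      rw [S.el_mul, S.el_mul, show S.el (H.img x1) = _ from hx1e, show S.el (H.img h) = _ from heh, hxh])
    rw [hcomm, mul_inv_cancel_right, mul_inv_cancel]
  have hinj : Function.Injective fun v : Fin 256 =>
      (⟨(v : ℕ) ^^^ gm (h0 k) v, Nat.xor_lt_two_pow (n := 8) v.2 (S.gm_lt hhm v.2)⟩ : Fin 256) := by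
    intro a b e
    have e' : (a : ℕ) ^^^ gm (h0 k) a = (b : ℕ) ^^^ gm (h0 k) b := congrArg Fin.val e
    refine Fin.ext (Nat.xor_eq_zero_iff.1 (S.fix_h0 (Nat.xor_lt_two_pow (n := 8) a.2 b.2) ?_))
    rw [S.gm_xor hhm a.2 b.2]
    rw [← Nat.xor_eq_zero_iff] at e' ⊢
    rw [← e']
    ac_rfl
  obtain ⟨v, hv⟩ := Finite.injective_iff_surjective.1 hinj ⟨S.vec d, S.vec_lt d⟩
  obtain ⟨p, hp, hpv⟩ := S.vec_surj v v.2
  set d' := p * h * p⁻¹ * h⁻¹ with hd'
  have hd'Q : d' ∈ H.Q := by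
    rw [hd', show p * h * p⁻¹ * h⁻¹ = p * (h * p⁻¹ * h⁻¹) by group]
    exact mul_mem hp (H.conj_mem hhC (inv_mem hp))
  have hvec : S.vec d = S.vec d' := by
    rw [hd', show p * h * p⁻¹ * h⁻¹ = p * (h * p⁻¹ * h⁻¹) by group,
      S.vec_mul _ hp _ (H.conj_mem hhC (inv_mem hp)), S.vec_conj h hhC _ (inv_mem hp), S.vec_inv hp,
      show S.el (H.img h) = _ from heh, hpv]
    exact (congrArg Fin.val hv).symm
  have hcube : ∀ a : G, a * h * a⁻¹ * (a * h * a⁻¹) * (a * h * a⁻¹) = 1 := fun a => by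
    calc _ = a * (h * h * h) * a⁻¹ := by group
      _ = 1 := by rw [h3, mul_one, mul_inv_cancel]
  have heq : d' = d := by
    rcases S.vec_eq hdQ hd'Q hvec with e | e
    · exact e
    exfalso
    have e1 : p * h * p⁻¹ = H.z * (x1 * h * x1⁻¹) := by
      calc p * h * p⁻¹ = d' * h := by rw [hd']; group
        _ = d * H.z * h := by rw [e]
        _ = H.z * d * h := by rw [(H.comm_z hdQ).eq]
        _ = _ := by rw [hd]; group
    have hy : Commute (x1 * h * x1⁻¹) H.z := H.mem_C.1 (mul_mem (mul_mem hx1 hhC) (inv_mem hx1))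
    have h4 := hcube p
    rw [e1] at h4
    set y := x1 * h * x1⁻¹
    refine H.z_ne ?_
    calc H.z = H.z * (y * y * y) := by rw [hcube x1, mul_one]
      _ = (H.z * H.z) * H.z * (y * y * y) := by rw [H.z_sq, one_mul]
      _ = H.z * y * (H.z * y) * (H.z * y) := by
        have e1 : Commute (y * y) H.z := hy.mul_left hy
        calc H.z * H.z * H.z * (y * y * y) = H.z * H.z * (H.z * (y * y)) * y := by group
          _ = H.z * H.z * (y * y * H.z) * y := by rw [e1.eq]
          _ = H.z * (H.z * y) * (y * H.z) * y := by group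
          _ = H.z * (y * H.z) * (y * H.z) * y := by rw [hy.eq]
          _ = H.z * y * (H.z * y) * (H.z * y) := by group
      _ = 1 := h4
  have hxC : p⁻¹ * x1 ∈ H.C := mul_mem (inv_mem (H.Q_le hp)) hx1
  have hex : S.ei (p⁻¹ * x1) = x0 k := by
    rw [Crd.ei, H.img_mul (inv_mem (H.Q_le hp)) hx1, H.img_of_mem (inv_mem hp), one_mul]
    exact hx1e
  have hcomm : Commute (p⁻¹ * x1) h := by
    have e2 : x1 * h * x1⁻¹ = p * h * p⁻¹ := by
      calc x1 * h * x1⁻¹ = d * h := by rw [hd]; group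
        _ = d' * h := by rw [heq]
        _ = _ := by rw [hd']; group
    calc p⁻¹ * x1 * h = p⁻¹ * (x1 * h * x1⁻¹) * x1 := by group
      _ = h * (p⁻¹ * x1) := by rw [e2]; group
  refine ⟨⟨_, h, hxC, hhC, hex, heh, h3, hcomm, ?_⟩⟩
  have hsq : p⁻¹ * x1 * (p⁻¹ * x1) ∈ H.Q := by
    rw [← S.ei_eq_one (mul_mem hxC hxC), S.ei_mul hxC hxC, hex, hxx]
  refine ((S.vec_zero _ hsq).1 (S.fix_h0 (S.vec_lt _) ?_))
  rw [← heh]
  exact S.vec_conj' hhC hsq (hcomm.mul_left hcomm).symm

theorem not_parOf_one : ∀ k : Fin 3, ¬ parOf k oneE = true := by decide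

/-- the character -/
noncomputable def Crd.chi (S : Crd k H) : ↥H.C →* Multiplicative (ZMod 2) where
  toFun c := if parOf k (S.ei (c : G)) then Multiplicative.ofAdd 1 else 1
  map_one' := by
    rw [if_neg]
    rw [show S.ei ((1 : ↥H.C) : G) = oneE from (S.ei_eq_one (one_mem _)).2 (one_mem _)]
    exact not_parOf_one k
  map_mul' a b := by
    rw [Subgroup.coe_mul, S.ei_mul a.2 b.2, parOf_mul k (List.mem_of_mem_filter (S.ei_mem _))
      (List.mem_of_mem_filter (S.ei_mem _))]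
    cases parOf k (S.ei (a : G)) <;> cases parOf k (S.ei (b : G)) <;> decide

variable {S : Crd k H} (L : Lift S)

include L

theorem Lift.x_sq_comm {a : G} (ha : a ∈ H.C) : Commute (L.x * L.x) a := by
  rcases L.x2 with e | e <;> rw [e]
  · exact Commute.one_left a
  · exact (H.mem_C.1 ha).symm

/-- the centralizer of the lift in `Q` is the whole preimage of the fixed space -/
theorem Lift.comm_iff {a : G} (ha : a ∈ H.Q) : Commute a L.x ↔ gm (x0 k) (S.vec a) = S.vec a := by
  constructor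
  · exact fun h => L.ex ▸ S.vec_conj' L.hx ha h.symm
  intro hfix
  obtain ⟨hxm, hhm, -⟩ := x0_mem k
  set a1 := L.h * a * L.h⁻¹
  set a2 := L.h * a1 * L.h⁻¹
  have ha1 : a1 ∈ H.Q := H.conj_mem L.hh ha
  have ha2 : a2 ∈ H.Q := H.conj_mem L.hh ha1
  have h1 : S.vec (L.x * a * L.x⁻¹) = S.vec a := by
    rw [S.vec_conj _ L.hx a ha, show S.el (H.img L.x) = _ from L.ex, hfix]
  rcases S.vec_eq ha (H.conj_mem L.hx ha) h1.symm with e | e
  · exact (mul_inv_eq_iff_eq_mul.1 e).symm
  exfalso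
  have hstep : ∀ b : G, L.x * b * L.x⁻¹ = b * H.z →
      L.x * (L.h * b * L.h⁻¹) * L.x⁻¹ = L.h * b * L.h⁻¹ * H.z := by
    intro b hb
    calc L.x * (L.h * b * L.h⁻¹) * L.x⁻¹ = L.x * L.h * b * (L.x * L.h)⁻¹ := by group
      _ = L.h * (L.x * b * L.x⁻¹) * L.h⁻¹ := by rw [L.xh.eq]; group
      _ = L.h * b * (H.z * L.h⁻¹) := by rw [hb]; group
      _ = _ := by rw [← (H.mem_C.1 (inv_mem L.hh)).eq]; group
  have e1 := hstep a e
  have e2 := hstep a1 e1
  have hv1 : S.vec a1 = gm (h0 k) (S.vec a) := by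
    rw [S.vec_conj _ L.hh a ha, show S.el (H.img L.h) = _ from L.eh]
  have hv2 : S.vec a2 = gm (h0 k) (S.vec a1) := by
    rw [S.vec_conj _ L.hh a1 ha1, show S.el (H.img L.h) = _ from L.eh]
  have hv3 : gm (h0 k) (S.vec a2) = S.vec a := by
    rw [← L.eh, Crd.ei, ← S.vec_conj _ L.hh a2 ha2]
    refine congrArg S.vec ?_
    calc L.h * a2 * L.h⁻¹ = L.h * L.h * L.h * a * (L.h * L.h * L.h)⁻¹ := by simp only [a2, a1]; group
      _ = a := by rw [L.h3]; group
  have hP : S.vec (a * a1 * a2) = 0 := by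
    refine S.fix_h0 (S.vec_lt _) ?_
    rw [S.vec_mul _ (mul_mem ha ha1) _ ha2, S.vec_mul _ ha _ ha1,
      S.gm_xor hhm (Nat.xor_lt_two_pow (n := 8) (S.vec_lt _) (S.vec_lt _)) (S.vec_lt _),
      S.gm_xor hhm (S.vec_lt _) (S.vec_lt _), hv3, ← hv1, ← hv2]
    ac_rfl
  have hcx : L.x * (a * a1 * a2) * L.x⁻¹ = a * a1 * a2 := by
    rcases (S.vec_zero _ (mul_mem (mul_mem ha ha1) ha2)).1 hP with e0 | e0 <;> rw [e0]
    · group
    · rw [(H.mem_C.1 L.hx).eq, mul_inv_cancel_right]
  refine H.z_ne (mul_left_cancel (a := a * a1 * a2) ?_)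
  rw [mul_one]
  conv_rhs => rw [← hcx]
  calc a * a1 * a2 * H.z = a * a1 * a2 * (H.z * H.z * H.z) := by rw [H.z_sq, one_mul]
    _ = a * H.z * (a1 * H.z) * (a2 * H.z) := by
      have z1 := (H.comm_z ha1).eq
      have z2 := (H.comm_z ha2).eq
      symm
      calc a * H.z * (a1 * H.z) * (a2 * H.z) = a * (H.z * a1) * (H.z * a2) * H.z := by group
        _ = a * (a1 * H.z) * (a2 * H.z) * H.z := by rw [← z1, ← z2]
        _ = a * a1 * (H.z * a2) * H.z * H.z := by group
        _ = a * a1 * (a2 * H.z) * H.z * H.z := by rw [← z2]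
        _ = a * a1 * a2 * (H.z * H.z * H.z) := by group
    _ = (L.x * a * L.x⁻¹) * (L.x * a1 * L.x⁻¹) * (L.x * a2 * L.x⁻¹) := by rw [e, e1, e2]
    _ = _ := by group

/-- an involution over the chosen one differs from the lift by an element commuting with it -/
theorem Lift.split {t : G} (ht : t ∈ H.C) (het : S.ei t = x0 k) (ht2 : t * t = 1) :
    L.x⁻¹ * t ∈ H.Q ∧ Commute (L.x⁻¹ * t) L.x := by
  have hq : L.x⁻¹ * t ∈ H.Q := (S.ei_eq_iff L.hx ht).1 (L.ex.trans het.symm)
  refine ⟨hq, (L.comm_iff hq).2 ?_⟩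
  set q := L.x⁻¹ * t
  have htx : t = L.x * q := by simp [q]
  rw [← L.ex, Crd.ei, ← S.vec_conj _ L.hx q hq]
  have h2 : L.x * q * L.x⁻¹ * (L.x * L.x) * q = 1 := by
    rw [← ht2, htx]; group
  have h3 : S.vec (L.x * q * L.x⁻¹ * (L.x * L.x) * q) = 0 := by rw [h2, S.vec_one]
  have hxq : L.x * L.x ∈ H.Q := by
    rcases L.x2 with e | e <;> rw [e]
    exacts [one_mem _, H.z_mem]
  have hzero : S.vec (L.x * L.x) = 0 := by
    rcases L.x2 with e | e <;> rw [e]
    exacts [S.vec_one, S.vec_z]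
  rw [S.vec_mul _ (mul_mem (H.conj_mem L.hx hq) hxq) _ hq, S.vec_mul _ (H.conj_mem L.hx hq) _ hxq, hzero,
    Nat.xor_zero, Nat.xor_eq_zero_iff] at h3
  exact h3

/-- the two-group -/
abbrev Lift.D : Subgroup G := H.centQ L.x

theorem Lift.z_mem_D : H.z ∈ L.D := H.z_mem_centQ (H.mem_C.1 L.hx).symm

/-- the image of a conjugate commuting with the lift and with `D` -/
theorem Lift.ei_full {w : G} (hw : w ∈ H.C) (hD : ∀ p ∈ L.D, Commute w p) :
    S.ei w = oneE ∨ S.ei w = x0 k := by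
  have h1 := List.all_eq_true.1 (x0_full k) _ (S.ei_mem w)
  simp only [Bool.or_eq_true, beq_iff_eq] at h1
  rcases h1 with (h1 | h1) | h1
  · exact Or.inl h1
  · exact Or.inr h1
  rw [Bool.not_eq_true', List.all_eq_false] at h1
  obtain ⟨v, hv, hne⟩ := h1
  rw [fixL, List.mem_filter, List.mem_range, beq_iff_eq] at hv
  obtain ⟨a, ha, rfl⟩ := S.vec_surj v hv.1
  exact absurd (beq_iff_eq.2 (S.vec_conj' hw ha (hD a (H.mem_centQ.2 ⟨ha, (L.comm_iff ha).2 hv.2⟩)))) hne

/-- a conjugate whose cycle is fixed by `D`, with non-trivial value, commutes with the lift and with `D` -/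
theorem Lift.cycle {A : Type*} [CommGroup A] (φ : ↥H.C →* A) (r : G)
    (hfix : ∀ p ∈ L.D, ∃ j : ℤ, p • (QuotientGroup.mk r : G ⧸ H.C) = L.x ^ j • QuotientGroup.mk r)
    (hval : cycVal H.C φ L.x r ≠ 1) :
    r * H.z * r⁻¹ ∈ H.C ∧ Commute (r * H.z * r⁻¹) L.x ∧ ∀ p ∈ L.D, Commute (r * H.z * r⁻¹) p := by
  classical
  set w := r * H.z * r⁻¹ with hw
  set o := (QuotientGroup.mk r : G ⧸ H.C)
  have hsmul : ∀ a : G, a • o = o ↔ Commute w a := by
    intro a
    show (QuotientGroup.mk (a * r) : G ⧸ H.C) = QuotientGroup.mk r ↔ _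
    rw [QuotientGroup.eq, H.mem_C]
    refine (Commute.conj_iff r).symm.trans ?_
    rw [show r * ((a * r)⁻¹ * r) * r⁻¹ = a⁻¹ by group]
    exact ⟨fun h => by simpa using h.symm.inv_right, fun h => h.symm.inv_left⟩
  have hzD := L.z_mem_D
  by_cases hx1 : L.x • o = o
  · have hall : ∀ p ∈ L.D, Commute w p := fun p hp => by
      obtain ⟨j, hj⟩ := hfix p hp
      refine (hsmul p).1 (hj.trans ?_)
      exact MulAction.mem_stabilizer_iff.1 (zpow_mem (MulAction.mem_stabilizer_iff.2 hx1) j)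
    exact ⟨H.mem_C.2 (hall _ hzD), (hsmul _).1 hx1, hall⟩
  exfalso
  have hpow : ∀ n : ℕ, Function.IsPeriodicPt (L.x • ·) n o ↔ L.x ^ n • o = o := fun n => by
    simp [Function.IsPeriodicPt, Function.IsFixedPt, smul_iterate]
  by_cases hx2 : L.x ^ 2 • o = o
  swap
  · -- four cosets in the cycle
    refine hval ?_
    have h4 : L.x ^ 4 = 1 := by
      rw [show (4 : ℕ) = 2 + 2 from rfl, pow_add, pow_two]
      rcases L.x2 with e | e <;> rw [e]
      exacts [mul_one 1, H.z_sq]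
    have hm : Function.minimalPeriod (L.x • ·) o = 2 ^ 2 := by
      haveI : Fact (Nat.Prime 2) := ⟨Nat.prime_two⟩
      refine Function.minimalPeriod_eq_prime_pow (k := 1) ?_ ((hpow _).2 (by rw [show (2 : ℕ) ^ 2 = 4 from rfl, h4, one_smul]))
      rw [pow_one, hpow]
      exact hx2
    rw [cycVal]
    split_ifs with hk
    · rw [← map_one φ]
      refine congrArg φ (Subtype.ext ?_)
      show r⁻¹ * _ * r = 1
      rw [hm, show (2 : ℕ) ^ 2 = 4 from rfl, h4, mul_one, inv_mul_cancel]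
    · rfl
  -- two cosets
  have hm : Function.minimalPeriod (L.x • ·) o = 2 := by
    haveI : Fact (Nat.Prime 2) := ⟨Nat.prime_two⟩
    refine Function.minimalPeriod_eq_prime ((hpow 2).2 hx2) ?_
    exact fun h => hx1 h
  rcases L.x2 with e | e
  · refine hval ?_
    rw [cycVal]
    split_ifs with hk
    · rw [← map_one φ]
      refine congrArg φ (Subtype.ext ?_)
      show r⁻¹ * _ * r = 1
      rw [hm, pow_two, e, mul_one, inv_mul_cancel]
    · rfl
  have hwC : w ∈ H.C := H.mem_C.2 ((hsmul _).1 (by rw [← e, ← pow_two]; exact hx2))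
  have hpq : ∀ p ∈ L.D, Commute w p ∨ Commute w (L.x * p) := by
    intro p hp
    obtain ⟨j, hj⟩ := hfix p hp
    have h2 : ∀ i : ℤ, L.x ^ (2 * i) • o = o := fun i => by
      rw [zpow_mul]
      exact MulAction.mem_stabilizer_iff.1 (zpow_mem (MulAction.mem_stabilizer_iff.2 (by
        rw [zpow_two, ← pow_two]; exact hx2)) i)
    obtain ⟨i, rfl | rfl⟩ := Int.even_or_odd' j
    · exact Or.inl ((hsmul p).1 (hj.trans (h2 i)))
    · refine Or.inr ((hsmul _).1 ?_)
      rw [mul_smul, hj, smul_smul, ← zpow_one_add, show 1 + (2 * i + 1) = 2 * (i + 1) by ring, h2]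
  have hw2 : w * w = 1 := (H.move r).z_sq
  have hmove : ¬ Commute w L.x := fun h => hx1 ((hsmul _).2 h)
  obtain ⟨hxm, -⟩ := x0_mem k
  by_cases hall : ∀ p ∈ L.D, Commute w p
  · rcases L.ei_full hwC hall with hei | hei
    · have hwQ : w ∈ H.Q := (S.ei_eq_one hwC).1 hei
      refine hmove ((L.comm_iff hwQ).2 ?_)
      have h1 := List.all_eq_true.1 (x0_perp k) _ (List.mem_range.2 (S.vec_lt w))
      rw [Bool.or_eq_true, beq_iff_eq] at h1
      refine h1.resolve_right fun h1 => ?_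
      obtain ⟨v, hv, hb⟩ := List.any_eq_true.1 h1
      rw [fixL, List.mem_filter, List.mem_range, beq_iff_eq] at hv
      obtain ⟨a, ha, rfl⟩ := S.vec_surj v hv.1
      rw [(S.vec_b w hwQ a ha).2 (hall a (H.mem_centQ.2 ⟨ha, (L.comm_iff ha).2 hv.2⟩))] at hb
      exact absurd hb (by decide)
    · obtain ⟨-, hc⟩ := L.split hwC hei hw2
      refine hmove ?_
      have h2 := (Commute.refl L.x).mul_left hc
      rwa [mul_inv_cancel_left] at h2
  push Not at hall
  obtain ⟨d0, hd0, hd0w⟩ := hall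
  have hxd := (hpq d0 hd0).resolve_left hd0w
  have hd0Q := (H.mem_centQ.1 hd0).1
  have hex : mulE (S.ei w) (x0 k) = mulE (x0 k) (S.ei w) := by
    have h1 := S.ei_comm hwC (mul_mem L.hx (H.Q_le hd0Q)) hxd
    rwa [S.ei_mul_mem L.hx hd0Q, L.ex] at h1
  have hhyp := List.all_eq_true.1 (x0_hyper k) _ (S.ei_mem w)
  simp only [Bool.or_eq_true, beq_iff_eq, bne_iff_ne, decide_eq_true_eq] at hhyp
  rcases hhyp with ((hei | hei) | hei) | hei
  · have hwQ : w ∈ H.Q := (S.ei_eq_one hwC).1 hei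
    refine hmove ((L.comm_iff hwQ).2 ?_)
    rw [← L.ex, ← S.ei_mul_mem L.hx hd0Q]
    exact S.vec_conj' (mul_mem L.hx (H.Q_le hd0Q)) hwQ hxd.symm
  · obtain ⟨-, hc⟩ := L.split hwC hei hw2
    refine hmove ?_
    have h2 := (Commute.refl L.x).mul_left hc
    rwa [mul_inv_cancel_left] at h2
  · exact hei hex
  · -- more than half of the fixed vectors are fixed
    have hfl : ∀ v ∈ fixL (x0 k), gm (S.ei w) v = v ∨ gm (S.ei w) (v ^^^ S.vec d0) = v ^^^ S.vec d0 := by
      intro v hv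
      rw [fixL, List.mem_filter, List.mem_range, beq_iff_eq] at hv
      obtain ⟨a, ha, rfl⟩ := S.vec_surj v hv.1
      have haD : a ∈ L.D := H.mem_centQ.2 ⟨ha, (L.comm_iff ha).2 hv.2⟩
      rcases hpq a haD with hc | hc
      · exact Or.inl (S.vec_conj' hwC ha hc)
      · right
        rw [← S.vec_mul a ha d0 hd0Q]
        refine S.vec_conj' hwC (mul_mem ha hd0Q) ?_
        have h5 : Commute w (d0⁻¹ * L.x⁻¹ * (L.x * a)) := by
          have := hxd.inv_right
          rw [mul_inv_rev] at this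
          exact this.mul_right hc
        rw [show d0⁻¹ * L.x⁻¹ * (L.x * a) = d0⁻¹ * a by group] at h5
        rcases H.sq_mem hd0Q with ez | ez
        · rw [← inv_eq_of_mul_eq_one_right ez]
          rcases H.comm_mem ha (inv_mem hd0Q) with ec | ec
          · rwa [← ec]
          · rw [ec] at h5
            have := h5.mul_right (H.mem_C.1 hwC)
            rwa [mul_assoc _ H.z H.z, H.z_sq, mul_one] at this
        · have ed : d0 = d0⁻¹ * H.z := by rw [← ez]; group
          rw [ed, ← mul_assoc]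
          rcases H.comm_mem ha (inv_mem hd0Q) with ec | ec
          · rw [← ec]
            exact h5.mul_right (H.mem_C.1 hwC)
          · rwa [ec] at h5
    set l := fixL (x0 k)
    set P : ℕ → Bool := fun v => gm (S.ei w) v == v
    have hnd : l.Nodup := List.nodup_range.filter _
    have hmem : ∀ v ∈ l, v ^^^ S.vec d0 ∈ l := by
      intro v hv
      simp only [l, fixL, List.mem_filter, List.mem_range, beq_iff_eq] at hv ⊢
      refine ⟨Nat.xor_lt_two_pow (n := 8) hv.1 (S.vec_lt _), ?_⟩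
      rw [S.gm_xor hxm hv.1 (S.vec_lt _), hv.2, (L.comm_iff hd0Q).1 (H.mem_centQ.1 hd0).2]
    have hle : (l.filter fun v => !P v).length ≤ (l.filter P).length := by
      have hn1 : ((l.filter fun v => !P v).map (· ^^^ S.vec d0)).Nodup :=
        (hnd.filter _).map fun a b e => by
          have := congrArg (· ^^^ S.vec d0) e
          simpa [Nat.xor_assoc] using this
      have := (hn1.subperm fun v hv => ?_).length_le (l₂ := l.filter P)
      · simpa using this
      · obtain ⟨u, hu, rfl⟩ := List.mem_map.1 hv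
        rw [List.mem_filter] at hu ⊢
        refine ⟨hmem u hu.1, ?_⟩
        rcases hfl u hu.1 with e | e
        · simp [P, e] at hu
        · simp [P, e]
    have hsum := List.length_eq_length_filter_add (l := l) P
    rw [List.countP_eq_length_filter] at hei
    change 2 * (l.filter P).length < l.length at hei
    omega

theorem Lift.chi_eq_of_ei {a b : ↥H.C} (h : S.ei (a : G) = S.ei (b : G)) : S.chi a = S.chi b := by
  show (if parOf k (S.ei (a : G)) then _ else _) = if parOf k (S.ei (b : G)) then _ else _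
  rw [h]

omit L in
theorem parOf_x0 : ∀ k : Fin 3, parOf k (x0 k) = true := by decide

theorem Lift.chi_x : S.chi ⟨L.x, L.hx⟩ ≠ 1 := by
  show (if parOf k (S.ei L.x) then Multiplicative.ofAdd (1 : ZMod 2) else 1) ≠ 1
  rw [L.ex, parOf_x0 k, if_pos rfl]
  decide

omit L in
theorem mult_two : ∀ a : Multiplicative (ZMod 2), a * a = 1 := by decide

/-- the transfer: some other conjugate commutes with the lift and with `D` -/
theorem Lift.exists_other [IsSimpleGroup G] (hG : ¬ IsMulCommutative G) :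
    ∃ w, Fus H w ∧ w ≠ H.z ∧ w ∈ H.C ∧ Commute w L.x ∧ (∀ p ∈ L.D, Commute w p) ∧
      (S.ei w = oneE ∨ S.ei w = x0 k) := by
  classical
  haveI : Fact (Nat.Prime 2) := ⟨Nat.prime_two⟩
  by_contra hno
  have hT : IsPGroup 2 L.D := IsPGroup.to_le (IsPGroup.of_card (n := 9) (by rw [H.Q_card]; norm_num)) inf_le_left
  have hcomm : ∀ p ∈ L.D, Commute p L.x := fun p hp => (H.mem_centQ.1 hp).2
  haveI : H.C.FiniteIndex := inferInstance
  obtain ⟨T, hT1, hT2, hT3, hT4⟩ := transfer_fixed H.C S.chi mult_two L.D hT hcomm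
  rw [transfer_trivial hG] at hT1
  have hbase : ∀ y ∈ T, cycVal H.C S.chi L.x y.out ≠ 1 → y = QuotientGroup.mk 1 := by
    intro y hy hne
    obtain ⟨h1, h2, h3⟩ := L.cycle S.chi y.out (fun p hp => by
      rw [QuotientGroup.out_eq']; exact hT2 y hy p hp) hne
    rw [← QuotientGroup.out_eq' y, QuotientGroup.eq, mul_one, inv_mem_iff, H.mem_C]
    by_contra hc
    refine hno ⟨_, ⟨y.out, rfl⟩, fun e => hc ?_, h1, h2, h3, L.ei_full h1 h3⟩
    exact mul_inv_eq_iff_eq_mul.1 e
  obtain ⟨y, hy, j, hj⟩ := hT4 (QuotientGroup.mk 1) fun p hp => ⟨0, by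
    rw [zpow_zero, one_smul, MulAction.Quotient.smul_mk, QuotientGroup.eq, smul_eq_mul, mul_one, mul_one]
    exact inv_mem (H.Q_le (H.mem_centQ.1 hp).1)⟩
  have hfx : ∀ i : ℤ, L.x ^ i • (QuotientGroup.mk 1 : G ⧸ H.C) = QuotientGroup.mk 1 := fun i => by
    rw [MulAction.Quotient.smul_mk, QuotientGroup.eq, smul_eq_mul, mul_one, mul_one]
    exact inv_mem (zpow_mem L.hx i)
  rw [hfx] at hj
  subst hj
  rw [Finset.prod_eq_single_of_mem _ hy fun b hb hne => by
    by_contra h; exact hne (hbase b hb h)] at hT1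
  refine L.chi_x ?_
  rw [hT1, cycVal_congr H.C S.chi L.x (QuotientGroup.out_eq' (QuotientGroup.mk 1 : G ⧸ H.C)),
    cycVal_of_fixed H.C S.chi L.x (r := 1) (by simpa using L.hx)]
  exact congrArg S.chi (Subtype.ext (by simp))

end Cfsg.Agent.Spor.XS
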