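import Cfsg.Agent.Lib.Spor.ExtraS3A6.AlphaCore

/-!
The middle quotient in the fixed-point-free case: the transfer gives a conjugate over the chosen involution, and
the centralizer of the lift then has no room in the quotient of that conjugate.
-/

set_option autoImplicit false
set_option linter.style.haveILetI false
set_option linter.unusedSectionVars false

namespace Cfsg.Agent.Spor.XS

open Model

universe u v

variable {G : Type u} [Group G] [Finite G] {Γ : Type v} [Group Γ] {H : Hyp G Γ}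

/-! ### The two projections -/

theorem codeL_inj {n : ℕ} : Function.Injective (codeL (n := n)) := fun p q h => by
  refine Equiv.ext fun i => Fin.ext ?_
  have := congrArg (fun l : List ℕ => l[(i : ℕ)]?) h
  simpa [codeL] using this

theorem Crd.el_lists (S : Crd 1 H) (γ : Γ) : (S.el γ).1 ∈ lists 3 3 ∧ (S.el γ).2 ∈ lists 6 6 := by
  have h := List.mem_of_mem_filter (S.el_mem γ)
  simp only [els, List.mem_flatMap, List.mem_map] at h
  obtain ⟨s, hs, p, hp, e⟩ := h
  rw [← e]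
  exact ⟨hs, hp⟩

/-- the first factor -/
noncomputable def Crd.prFst (S : Crd 1 H) : Γ →* Equiv.Perm (Fin 3) :=
  MonoidHom.mk' (fun γ => Classical.choose (exists_perm (S.el_lists γ).1)) fun a b => codeL_inj (by
    rw [← mulL_codeL, Classical.choose_spec (exists_perm (S.el_lists _).1),
      Classical.choose_spec (exists_perm (S.el_lists _).1), Classical.choose_spec (exists_perm (S.el_lists _).1),
      S.el_mul]
    rfl)

/-- the second factor -/
noncomputable def Crd.prSnd (S : Crd 1 H) : Γ →* Equiv.Perm (Fin 6) :=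
  MonoidHom.mk' (fun γ => Classical.choose (exists_perm (S.el_lists γ).2)) fun a b => codeL_inj (by
    rw [← mulL_codeL, Classical.choose_spec (exists_perm (S.el_lists _).2),
      Classical.choose_spec (exists_perm (S.el_lists _).2), Classical.choose_spec (exists_perm (S.el_lists _).2),
      S.el_mul]
    rfl)

theorem Crd.pr_inj (S : Crd 1 H) {γ : Γ} (h1 : S.prFst γ = 1) (h2 : S.prSnd γ = 1) : γ = 1 := by
  refine S.el_inj (Prod.ext ?_ ?_)
  · rw [← Classical.choose_spec (exists_perm (S.el_lists γ).1),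
      ← Classical.choose_spec (exists_perm (S.el_lists 1).1)]
    exact congrArg codeL (h1.trans (map_one S.prFst).symm)
  · rw [← Classical.choose_spec (exists_perm (S.el_lists γ).2),
      ← Classical.choose_spec (exists_perm (S.el_lists 1).2)]
    exact congrArg codeL (h2.trans (map_one S.prSnd).symm)

theorem fixL_xS_len : (fixL (x0 1)).length = 64 := by decide +kernel

theorem x0_one : x0 1 = xS := by decide

variable {S : Crd 1 H} (L : Lift S)

include L

/-- an element of `Q` centralising `D` has its vector on the line -/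
theorem Lift.central_line {a : G} (ha : a ∈ H.Q) (hx : Commute a L.x) (hD : ∀ p ∈ L.D, Commute a p) :
    S.vec a = 0 ∨ S.vec a ∈ lineS := by
  have h1 := List.all_eq_true.1 xS_rad (S.vec a) (List.mem_range.2 (S.vec_lt a))
  have hfix := (L.comm_iff ha).1 hx
  rw [x0_one] at hfix
  simp only [hfix, bne_self_eq_false, Bool.false_or, Bool.or_eq_true, List.any_eq_true, Bool.and_eq_true,
    beq_iff_eq] at h1
  rcases h1 with h1 | ⟨n, hn, hw, hb⟩
  · have h2 : S.vec a ∈ [0, 1, 16, 17] := List.contains_iff_mem.1 h1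
    exact List.mem_cons.1 h2
  · obtain ⟨b, hb', rfl⟩ := S.vec_surj n (List.mem_range.1 hn)
    have hbD : b ∈ L.D := H.mem_centQ.2 ⟨hb', (L.comm_iff hb').2 (by rw [x0_one]; exact hw)⟩
    rw [(S.vec_b a ha b hb').2 (hD b hbD)] at hb
    exact Bool.noConfusion hb

/-- the transfer: a conjugate over the chosen involution commutes with `D` -/
theorem Lift.exists_over [IsSimpleGroup G] (hG : ¬ IsMulCommutative G) :
    ∃ t, Fus H t ∧ t ∈ H.C ∧ (∀ p ∈ L.D, Commute t p) ∧ S.ei t = x0 1 := by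
  classical
  haveI : Fact (Nat.Prime 2) := ⟨Nat.prime_two⟩
  by_contra hno
  have hT : IsPGroup 2 L.D := IsPGroup.to_le (IsPGroup.of_card (n := 9) (by rw [H.Q_card]; norm_num)) inf_le_left
  have hcomm : ∀ p ∈ L.D, Commute p L.x := fun p hp => (H.mem_centQ.1 hp).2
  haveI : H.C.FiniteIndex := inferInstance
  letI := H.C.fintypeQuotientOfFiniteIndex
  obtain ⟨T, hT1, hT2, hT3, hT4⟩ := transfer_fixed H.C S.chi mult_two L.D hT hcomm
  rw [transfer_trivial hG] at hT1
  let W : G ⧸ H.C → G := fun o => o.out * H.z * o.out⁻¹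
  have hsmul : ∀ (o : G ⧸ H.C) (a : G), a • o = o ↔ Commute (W o) a := by
    intro o a
    conv_lhs => rw [← QuotientGroup.out_eq' o]
    show (QuotientGroup.mk (a * o.out) : G ⧸ H.C) = QuotientGroup.mk o.out ↔ _
    rw [QuotientGroup.eq, H.mem_C]
    refine (Commute.conj_iff o.out).symm.trans ?_
    rw [show o.out * ((a * o.out)⁻¹ * o.out) * o.out⁻¹ = a⁻¹ by group]
    exact ⟨fun h => by simpa using h.symm.inv_right, fun h => h.symm.inv_left⟩
  have hW : ∀ (o : G ⧸ H.C) (r : G), (QuotientGroup.mk r : G ⧸ H.C) = o → W o = r * H.z * r⁻¹ := by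
    rintro o r rfl
    obtain ⟨c, hc, e⟩ : ∃ c ∈ H.C, (QuotientGroup.mk r : G ⧸ H.C).out = r * c :=
      ⟨r⁻¹ * (QuotientGroup.mk r : G ⧸ H.C).out, QuotientGroup.eq.1 (QuotientGroup.out_eq' _).symm, by group⟩
    show _ * H.z * _ = _
    rw [e]
    calc r * c * H.z * (r * c)⁻¹ = r * (c * H.z) * c⁻¹ * r⁻¹ := by group
      _ = r * (H.z * c) * c⁻¹ * r⁻¹ := by rw [(H.mem_C.1 hc).eq]
      _ = r * H.z * r⁻¹ := by group
  have hsm : ∀ (o : G ⧸ H.C) (p : G), (QuotientGroup.mk (p * o.out) : G ⧸ H.C) = p • o := fun o p => by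
    conv_rhs => rw [← QuotientGroup.out_eq' o]
    rfl
  let Good : G ⧸ H.C → Prop := fun o => Commute (W o) L.x ∧ ∀ p ∈ L.D, Commute (W o) p
  set B := (Finset.univ : Finset (G ⧸ H.C)).filter Good with hB
  have hmB : ∀ {o}, o ∈ B ↔ Good o := by simp [hB]
  have hBT : B ⊆ T := by
    intro o ho
    rw [hmB] at ho
    obtain ⟨y, hy, j, hj⟩ := hT4 o fun p hp => ⟨0, by rw [zpow_zero, one_smul]; exact (hsmul o p).2 (ho.2 p hp)⟩
    rw [MulAction.mem_stabilizer_iff.1 (zpow_mem (MulAction.mem_stabilizer_iff.2 ((hsmul o L.x).2 ho.1)) j)] at hj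
    exact hj ▸ hy
  have hrest : ∀ y ∈ T, y ∉ B → cycVal H.C S.chi L.x y.out = 1 := by
    intro y hy hyB
    by_contra hne
    obtain ⟨-, h2, h3⟩ := L.cycle S.chi y.out (fun p hp => by
      rw [QuotientGroup.out_eq']; exact hT2 y hy p hp) hne
    exact hyB (hmB.2 ⟨h2, h3⟩)
  rw [← Finset.prod_subset hBT hrest] at hT1
  set o0 := (QuotientGroup.mk 1 : G ⧸ H.C)
  have hW0 : W o0 = H.z := by rw [hW o0 1 rfl, one_mul, inv_one, mul_one]
  have ho0 : o0 ∈ B := hmB.2 ⟨by rw [hW0]; exact (H.mem_C.1 L.hx).symm,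
    fun p hp => by rw [hW0]; exact (H.comm_z (H.mem_centQ.1 hp).1).symm⟩
  -- the other cosets lie over the line
  have hline : ∀ o ∈ B.erase o0, W o ∈ H.Q ∧ W o ≠ H.z ∧ S.vec (W o) ∈ lineS := by
    intro o ho
    obtain ⟨hne, hoB⟩ := Finset.mem_erase.1 ho
    obtain ⟨hox, hoD⟩ := hmB.1 hoB
    have hwC : W o ∈ H.C := H.mem_C.2 (hoD _ L.z_mem_D)
    have hwz : W o ≠ H.z := fun e => hne (by
      rw [← QuotientGroup.out_eq' o]
      refine QuotientGroup.eq.2 ?_
      rw [mul_one, inv_mem_iff, H.mem_C]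
      exact mul_inv_eq_iff_eq_mul.1 e)
    rcases L.ei_full hwC hoD with he | he
    · have hwQ := (S.ei_eq_one hwC).1 he
      exact ⟨hwQ, hwz, (L.central_line hwQ hox hoD).resolve_left (S.vec_ne_zero ⟨o.out, rfl⟩ hwQ hwz)⟩
    · exact absurd ⟨_, ⟨o.out, rfl⟩, hwC, hoD, he⟩ hno
  have hpex : ∀ v : ℕ, ∃ p, (∃ a ∈ H.Q, a ≠ 1 ∧ a ≠ H.z ∧ S.vec a = v) →
      p ∈ H.Q ∧ bN (S.vec p) v = true := by
    intro v
    by_cases h : ∃ a ∈ H.Q, a ≠ 1 ∧ a ≠ H.z ∧ S.vec a = v
    · obtain ⟨a, ha, h1, hz, rfl⟩ := h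
      obtain ⟨r, hr, e⟩ := H.exists_noncommute ha h1 hz
      refine ⟨r, fun _ => ⟨hr, ?_⟩⟩
      by_contra hb
      have hc := (S.vec_b r hr a ha).1 (Bool.eq_false_iff.2 hb)
      rw [hc.eq, eq_comm, mul_eq_left] at e
      exact H.z_ne e
    · exact ⟨1, fun h' => absurd h' h⟩
  choose pv hpv using hpex
  have hpo : ∀ o ∈ B.erase o0, pv (S.vec (W o)) ∈ H.Q ∧
      pv (S.vec (W o)) * W o * (pv (S.vec (W o)))⁻¹ = W o * H.z := by
    intro o ho
    obtain ⟨hq, hz, -⟩ := hline o ho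
    obtain ⟨hp, hb⟩ := hpv _ ⟨W o, hq, (show Fus H (W o) from ⟨o.out, rfl⟩).ne, hz, rfl⟩
    refine ⟨hp, ?_⟩
    rcases H.comm_mem hq hp with e | e
    · rw [(S.vec_b _ hp _ hq).2 (show Commute _ _ from e)] at hb
      exact Bool.noConfusion hb
    · rw [e, mul_assoc (W o), (H.comm_z hp).eq, ← mul_assoc, mul_inv_cancel_right]
  let σ : ∀ o ∈ B.erase o0, G ⧸ H.C := fun o _ => pv (S.vec (W o)) • o
  have hσW : ∀ o ho, W (σ o ho) = W o * H.z := by
    intro o ho
    rw [hW (σ o ho) (pv (S.vec (W o)) * o.out) (hsm o _), ← (hpo o ho).2]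
    show _ = _ * (o.out * H.z * o.out⁻¹) * _
    group
  have hpair : (∏ o ∈ B.erase o0, cycVal H.C S.chi L.x o.out) = 1 := by
    refine Finset.prod_involution σ (fun o ho => ?_) (fun o ho _ e => ?_) (fun o ho => ?_) (fun o ho => ?_)
    · obtain ⟨hq, hz, hl⟩ := hline o ho
      obtain ⟨hox, hoD⟩ := hmB.1 (Finset.mem_erase.1 ho).2
      obtain ⟨hp, -⟩ := hpo o ho
      have hval : cycVal H.C S.chi L.x (σ o ho).out = cycVal H.C S.chi L.x o.out := by
        set p := pv (S.vec (W o))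
        rw [cycVal_congr H.C S.chi L.x (r' := p * o.out) (by rw [QuotientGroup.out_eq', hsm])]
        set r := o.out
        have h1 : r⁻¹ * L.x * r ∈ H.C := by
          rw [H.mem_C]
          refine (Commute.conj_iff r).1 ?_
          rw [show r * (r⁻¹ * L.x * r) * r⁻¹ = L.x by group]
          exact hox.symm
        set d := p⁻¹ * (L.x * p * L.x⁻¹)
        have hdQ : d ∈ H.Q := mul_mem (inv_mem hp) (H.conj_mem L.hx hp)
        have hd : S.vec d = 0 ∨ S.vec d ∈ lineS := by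
          rw [S.vec_mul _ (inv_mem hp) _ (H.conj_mem L.hx hp), S.vec_inv hp, S.vec_conj _ L.hx p hp,
            show S.el (H.img L.x) = xS from L.ex.trans x0_one, Nat.xor_comm]
          exact List.mem_cons.1 (List.contains_iff_mem.1
            (List.all_eq_true.1 xS_im _ (List.mem_range.2 (S.vec_lt p))))
        have hdr : r⁻¹ * d * r ∈ H.Q := H.mem_moveQ.1 (S.line_inter rfl hq hz hl hdQ hd.symm)
        have e2 : (p * r)⁻¹ * L.x * (p * r) = r⁻¹ * d * r * (r⁻¹ * L.x * r) := by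
          simp only [d]; group
        rw [cycVal_of_fixed H.C S.chi L.x (r := p * r) (by rw [e2]; exact mul_mem (H.Q_le hdr) h1),
          cycVal_of_fixed H.C S.chi L.x (r := r) h1]
        refine L.chi_eq_of_ei ?_
        show S.ei ((p * r)⁻¹ * L.x * (p * r)) = S.ei (r⁻¹ * L.x * r)
        rw [e2]
        simp only [Crd.ei, H.img_mul (H.Q_le hdr) h1, H.img_of_mem hdr, one_mul]
      rw [hval]
      exact mult_two _
    · have := hσW o ho
      rw [e] at this
      exact H.z_ne (left_eq_mul.1 this)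
    · obtain ⟨hox, hoD⟩ := hmB.1 (Finset.mem_erase.1 ho).2
      refine Finset.mem_erase.2 ⟨fun e => ?_, hmB.2 ⟨?_, fun a ha => ?_⟩⟩
      · have := hσW o ho
        rw [e, hW0] at this
        exact (show Fus H (W o) from ⟨o.out, rfl⟩).ne (mul_eq_right.1 this.symm)
      · rw [hσW o ho]; exact hox.mul_left (H.mem_C.1 L.hx).symm
      · rw [hσW o ho]; exact (hoD a ha).mul_left (H.comm_z (H.mem_centQ.1 ha).1).symm
    · obtain ⟨hq, hz, -⟩ := hline o ho
      show pv (S.vec (W (σ o ho))) • pv (S.vec (W o)) • o = o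
      rw [hσW o ho, S.vec_mul _ hq _ H.z_mem, S.vec_z, Nat.xor_zero, smul_smul, hsmul]
      rcases H.sq_mem (hpo o ho).1 with e | e <;> rw [e]
      · exact Commute.one_right _
      · exact H.comm_z hq
  rw [← Finset.mul_prod_erase _ _ ho0, hpair, mul_one] at hT1
  refine L.chi_x ?_
  rw [hT1, cycVal_congr H.C S.chi L.x (QuotientGroup.out_eq' o0),
    cycVal_of_fixed H.C S.chi L.x (r := 1) (by simpa using L.hx)]
  exact congrArg S.chi (Subtype.ext (by simp))

/-- a conjugate over the chosen involution cannot commute with `D` -/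
theorem Lift.over_false {t : G} (hf : Fus H t) (htC : t ∈ H.C) (htD : ∀ p ∈ L.D, Commute t p)
    (he : S.ei t = x0 1) : False := by
  classical
  obtain ⟨g, rfl⟩ := hf
  obtain ⟨-, -, -, -, -, hx1⟩ := x0_mem 1
  have hz : H.z ∉ (H.move g).Q := fun h => hx1 (by
    rw [← he]
    exact (S.ei_eq_one htC).2 (S.mem_of_z_mem h))
  have hle : L.D ≤ (H.move g).C := fun a ha => (H.move g).mem_C.2 (htD a ha).symm
  letI := Fintype.ofFinite ↥L.D
  let m : ↥L.D →* Γ := (H.move g).π.comp (Subgroup.inclusion hle)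
  let ψ₃ : ↥L.D →* Equiv.Perm (Fin 3) := S.prFst.comp m
  let ψ₆ : ↥L.D →* Equiv.Perm (Fin 6) := S.prSnd.comp m
  have hD2 : Nat.card L.D ∣ 512 := H.Q_card ▸ Subgroup.card_dvd_of_le inf_le_left
  have h3c : ∀ a b : ↥L.D, Commute (ψ₃ a) (ψ₃ b) := by
    intro a b
    have hd : Nat.card ψ₃.range ∣ 2 := by
      refine dvd_trans (Nat.dvd_gcd ((Subgroup.card_range_dvd ψ₃).trans hD2) (Subgroup.card_subgroup_dvd_card _)) ?_
      rw [Nat.card_perm, Nat.card_fin]
      decide
    haveI : IsCyclic ψ₃.range := by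
      rcases (Nat.dvd_prime Nat.prime_two).1 hd with e | e
      · haveI := (Nat.card_eq_one_iff_unique.1 e).1
        exact isCyclic_of_subsingleton
      · haveI : Fact (Nat.Prime 2) := ⟨Nat.prime_two⟩
        exact isCyclic_of_prime_card e
    exact congrArg Subtype.val (IsCyclic.isMulCommutative.is_comm.comm
      (⟨_, a, rfl⟩ : ψ₃.range) ⟨_, b, rfl⟩)
  have hker : ∀ a : ↥L.D, m a = 1 ↔ (a : G) ∈ (H.move g).Q := fun a => (H.move g).π_ker _
  have hcent : ∀ a ∈ ψ₆.ker, ∀ b : ↥L.D, Commute (a : G) b := by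
    intro a ha b
    rcases H.comm_mem (H.mem_centQ.1 a.2).1 (H.mem_centQ.1 b.2).1 with e | e
    · exact e.symm
    exfalso
    refine hz ?_
    have hm : m (b * a) = m (a * b) := by
      rw [← mul_inv_eq_one]
      refine S.pr_inj ?_ ?_
      · show S.prFst (m (b * a) * (m (a * b))⁻¹) = 1
        rw [map_mul, map_inv, mul_inv_eq_one]
        show ψ₃ (b * a) = ψ₃ (a * b)
        rw [map_mul, map_mul, (h3c b a).eq]
      · rw [map_mul, map_inv, mul_inv_eq_one]
        show ψ₆ (b * a) = ψ₆ (a * b)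
        rw [map_mul, map_mul, MonoidHom.mem_ker.1 ha, mul_one, one_mul]
    have h1 := (hker ((a * b)⁻¹ * (b * a))).1 (by rw [map_mul, map_inv, hm, inv_mul_cancel])
    rw [show (((a * b)⁻¹ * (b * a) : ↥L.D) : G) = H.z by
      push_cast; rw [e, inv_mul_cancel_left]] at h1
    exact h1
  -- the centre is small, the group is big
  let Z : Finset ↥L.D := Finset.univ.filter fun a => ∀ b : ↥L.D, Commute (a : G) b
  have hZ : ∀ a ∈ Z, S.vec (a : G) ∈ (0 :: lineS).toFinset := fun a ha => by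
    rw [List.mem_toFinset, List.mem_cons]
    exact L.central_line (H.mem_centQ.1 a.2).1 (H.mem_centQ.1 a.2).2
      fun p hp => (Finset.mem_filter.1 ha).2 ⟨p, hp⟩
  have hfib : ∀ n, (Z.filter fun a : ↥L.D => S.vec (a : G) = n).card ≤ 2 := by
    intro n
    rcases (Z.filter fun a : ↥L.D => S.vec (a : G) = n).eq_empty_or_nonempty with h | ⟨a, ha⟩
    · simp [h]
    refine le_trans (Finset.card_le_card (t := {a, a * ⟨H.z, L.z_mem_D⟩}) fun b hb => ?_) Finset.card_le_two
    rw [Finset.mem_insert, Finset.mem_singleton]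
    exact (S.vec_eq (H.mem_centQ.1 a.2).1 (H.mem_centQ.1 b.2).1
      ((Finset.mem_filter.1 ha).2.trans (Finset.mem_filter.1 hb).2.symm)).imp (fun e => Subtype.ext e)
      fun e => Subtype.ext e
  have hZ8 : Z.card ≤ 8 := by
    refine le_trans (Finset.card_le_mul_card_image_of_maps_to hZ 2 fun n _ => hfib n) ?_
    have := List.toFinset_card_le (0 :: lineS)
    simp only [lineS, List.length_cons, List.length_nil] at this ⊢
    omega
  have h128 : 128 ≤ Nat.card L.D := by
    rw [Nat.card_eq_fintype_card, ← Finset.card_univ]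
    have hsub : (fixL (x0 1)).toFinset ⊆ (Finset.univ : Finset ↥L.D).image fun a : ↥L.D => S.vec (a : G) := by
      intro n hn
      rw [List.mem_toFinset, fixL, List.mem_filter, List.mem_range, beq_iff_eq] at hn
      obtain ⟨a, ha, rfl⟩ := S.vec_surj n hn.1
      exact Finset.mem_image.2 ⟨⟨a, H.mem_centQ.2 ⟨ha, (L.comm_iff ha).2 hn.2⟩⟩, Finset.mem_univ _, rfl⟩
    have h64 := Finset.card_le_card hsub
    rw [List.toFinset_card_of_nodup (l := fixL (x0 1)) (List.nodup_range.filter _), fixL_xS_len] at h64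
    refine le_trans (Nat.mul_le_mul_left 2 h64) (Finset.mul_card_image_le_card _ 2 fun n hn => ?_)
    obtain ⟨a, -, rfl⟩ := Finset.mem_image.1 hn
    refine Finset.one_lt_card.2 ⟨a, by simp, a * ⟨H.z, L.z_mem_D⟩, ?_, fun e => H.z_ne ?_⟩
    · simp only [Finset.mem_filter, Finset.mem_univ, true_and, Subgroup.coe_mul]
      rw [S.vec_mul _ (H.mem_centQ.1 a.2).1 _ H.z_mem, S.vec_z, Nat.xor_zero]
    · exact congrArg Subtype.val (left_eq_mul.1 e : (⟨H.z, L.z_mem_D⟩ : ↥L.D) = 1)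
  have h6 : Nat.card ψ₆.range ≤ 16 := by
    refine Nat.le_of_dvd (by norm_num) (dvd_trans
      (Nat.dvd_gcd ((Subgroup.card_range_dvd ψ₆).trans hD2) (Subgroup.card_subgroup_dvd_card _)) ?_)
    rw [Nat.card_perm, Nat.card_fin]
    decide
  have hK : 8 ≤ Nat.card ψ₆.ker := by
    have h := ψ₆.ker.card_mul_index
    rw [Subgroup.index_ker] at h
    by_contra hlt
    have := Nat.mul_le_mul (Nat.le_of_lt_succ (not_le.1 hlt)) h6
    omega
  have hKZ : (Finset.univ.filter fun a : ↥L.D => a ∈ ψ₆.ker) = Z := by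
    refine Finset.eq_of_subset_of_card_le (fun a ha => Finset.mem_filter.2
      ⟨Finset.mem_univ _, hcent a (Finset.mem_filter.1 ha).2⟩) (le_trans hZ8 (le_trans hK ?_))
    rw [Nat.card_eq_fintype_card, Fintype.card_subtype]
  have hz6 : (⟨H.z, L.z_mem_D⟩ : ↥L.D) ∈ ψ₆.ker := by
    have h : (⟨H.z, L.z_mem_D⟩ : ↥L.D) ∈ Z := Finset.mem_filter.2
      ⟨Finset.mem_univ _, fun b => (H.comm_z (H.mem_centQ.1 b.2).1).symm⟩
    rw [← hKZ] at h
    exact (Finset.mem_filter.1 h).2
  obtain ⟨h6', h160, hb⟩ := xS_pair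
  obtain ⟨a, ha, ha6⟩ := S.vec_surj 6 (by norm_num)
  obtain ⟨b, hb', hb160⟩ := S.vec_surj 160 (by norm_num)
  have haD : a ∈ L.D := H.mem_centQ.2 ⟨ha, (L.comm_iff ha).2 (by rw [ha6, x0_one, h6'])⟩
  have hbD : b ∈ L.D := H.mem_centQ.2 ⟨hb', (L.comm_iff hb').2 (by rw [hb160, x0_one, h160])⟩
  rcases H.comm_mem ha hb' with e | e
  · rw [← ha6, ← hb160, (S.vec_b a ha b hb').2 (show Commute a b from e.symm)] at hb
    exact Bool.noConfusion hb
  refine hz ((hker ⟨H.z, L.z_mem_D⟩).1 (S.pr_inj ?_ (MonoidHom.mem_ker.1 hz6)))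
  show ψ₃ ⟨H.z, L.z_mem_D⟩ = 1
  rw [show (⟨H.z, L.z_mem_D⟩ : ↥L.D) = (⟨a, haD⟩ * ⟨b, hbD⟩)⁻¹ * (⟨b, hbD⟩ * ⟨a, haD⟩) from
    Subtype.ext (show H.z = (a * b)⁻¹ * (b * a) by rw [e, inv_mul_cancel_left]),
    map_mul, map_inv, map_mul, map_mul, (h3c ⟨b, hbD⟩ ⟨a, haD⟩).eq, inv_mul_cancel]

omit L in
/-- the middle quotient does not occur -/
theorem alpha_S [IsSimpleGroup G] (hG : ¬ IsMulCommutative G) (S : Crd 1 H) : False := by
  obtain ⟨L⟩ := S.exists_lift
  obtain ⟨t, hf, htC, htD, he⟩ := L.exists_over hG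
  exact L.over_false hf htC htD he

end Cfsg.Agent.Spor.XS
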