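import Cfsg.Agent.Lib.Spor.ExtraS3A6.Kind
import Mathlib.Data.Nat.Bitwise

/-!
The model of the space: pairs of even subsets of six points, modulo complements, packed into numbers below 256,
with the action of pairs of permutations given by their lists of values.
-/

set_option autoImplicit false

namespace Cfsg.Agent.Spor.XS.Model

/-- codes of pairs of permutations -/
abbrev El : Type := List ℕ × List ℕ

/-- composition -/
def mulL (p r : List ℕ) : List ℕ := r.map fun i => p.getD i 0

/-- composition of pairs -/
def mulE (e f : El) : El := (mulL e.1 f.1, mulL e.2 f.2)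

/-- the inverse -/
def invE (e : El) : El :=
  ((List.range 3).map fun i => e.1.idxOf i, (List.range 6).map fun i => e.2.idxOf i)

/-- the identity -/
def oneE : El := ([0, 1, 2], [0, 1, 2, 3, 4, 5])

/-- the number of inversions modulo two -/
def parL : List ℕ → Bool
  | [] => false
  | a :: l => (l.countP (fun b => decide (b < a)) % 2 == 1) ^^ parL l

/-- all lists of distinct entries below `n`, of length `k` -/
def lists (n : ℕ) : ℕ → List (List ℕ)
  | 0 => [[]]
  | k + 1 => (lists n k).flatMap fun l =>
      ((List.range n).filter fun a => !l.contains a).map fun a => a :: l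

/-- all pairs -/
def els : List El := (lists 3 3).flatMap fun s => (lists 6 6).map fun p => (s, p)

/-- the three quotients: `0` is `S₃ × A₆`, `1` is `S₃ × S₆`, `2` is the equal sign part -/
def inK (k : Fin 3) (e : El) : Bool :=
  if k = 0 then !parL e.2 else if k = 1 then true else parL e.1 == parL e.2

/-- the elements of a quotient -/
def elsK (k : Fin 3) : List El := els.filter (inK k)

/-- the five coordinates of a half -/
def lift6 (x : ℕ) : List Bool :=
  [x.testBit 0, x.testBit 1, x.testBit 2, x.testBit 3,
    (x.testBit 0 ^^ x.testBit 1) ^^ (x.testBit 2 ^^ x.testBit 3), false]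

/-- a half permuted -/
def pactN (p : List ℕ) (x : ℕ) : ℕ :=
  let l := lift6 x
  let at' : ℕ → Bool := fun i => l.getD (p.idxOf i) false
  let f := at' 5
  (if at' 0 ^^ f then 1 else 0) + (if at' 1 ^^ f then 2 else 0) + (if at' 2 ^^ f then 4 else 0) +
    (if at' 3 ^^ f then 8 else 0)

/-- the coordinates of a point of the line -/
def pt : ℕ → Bool × Bool
  | 0 => (true, false)
  | 1 => (false, true)
  | _ => (true, true)

/-- a pair under a permutation of the three nonzero vectors of the first factor -/
def mactN (s : List ℕ) (a c : ℕ) : ℕ :=
  let f := pt (s.getD 0 0)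
  let g := pt (s.getD 1 0)
  Nat.xor (bif f.1 then a else 0) (bif g.1 then c else 0) +
    16 * Nat.xor (bif f.2 then a else 0) (bif g.2 then c else 0)

/-- the action -/
def gm (e : El) (v : ℕ) : ℕ := mactN e.1 (pactN e.2 (v % 16)) (pactN e.2 (v / 16))

/-- intersection parity -/
def pB (a c : ℕ) : Bool :=
  ((List.range 5).countP fun i => (lift6 a).getD i false && (lift6 c).getD i false) % 2 == 1

/-- the quadratic form -/
def qN (v : ℕ) : Bool := pB (v % 16) (v / 16)

/-- the bilinear form -/
def bN (x y : ℕ) : Bool := (qN (x ^^^ y) ^^ qN x) ^^ qN y

/-- rank one -/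
def pure (v : ℕ) : Bool := v % 16 == 0 || v / 16 == 0 || v % 16 == v / 16

/-- the maximal totally singular subspace attached to a vector of rank one -/
def inX (v x : ℕ) : Bool :=
  let a := v % 16
  let c := v / 16
  let p := x % 16
  let r := x / 16
  if c == 0 then (r == 0 || r == a) && !pB p a
  else if a == 0 then (p == 0 || p == c) && !pB r c
  else ((p ^^^ r) == 0 || (p ^^^ r) == a) && !pB p a

/-- the stabiliser of a vector -/
def stab (k : Fin 3) (v : ℕ) : List El := (elsK k).filter fun e => gm e v == v

/-- the involutions of a stabiliser which commute with all their conjugates there -/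
def good (k : Fin 3) (v : ℕ) : List El :=
  let s := stab k v
  (s.filter fun r => r != oneE && mulE r r == oneE).filter fun r =>
    s.all fun e =>
      let x := mulE (mulE e r) (invE e)
      mulE x r == mulE r x

end Cfsg.Agent.Spor.XS.Model
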