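import Cfsg.Agent.Lib.Spor.ExtraS3A6.Decomp.Model
import Cfsg.Agent.Lib.Spor.ExtraS3A6.Model

/-!
Finite facts linking the coordinates of the decomposition with the packed model.
-/

set_option autoImplicit false
set_option maxRecDepth 100000
set_option linter.style.haveILetI false
set_option linter.unusedSectionVars false

namespace Cfsg.Agent.Spor.XS.Bridge

open Model
open ExtraS3A6 (Pm W qW mact kact dact pact pm)

/-- the code of a pair of permutations -/
def code (x : P36) : El := (List.ofFn fun i => (x.1 i : ℕ), List.ofFn fun i => (x.2 i : ℕ))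

theorem code_one : code 1 = oneE := by decide +kernel

theorem lists_len3 : (lists 3 3).length = 6 := by decide +kernel

theorem lists_len6 : (lists 6 6).length = 720 := by decide +kernel

/-- four bits -/
def pk4 (x : Pm) : ℕ := (x 0).val + 2 * (x 1).val + 4 * (x 2).val + 8 * (x 3).val

/-- eight bits -/
def pk (z : W) : ℕ := pk4 z.1 + 16 * pk4 z.2

/-- the vector of four bits -/
def unpk4 (n : ℕ) : Pm := fun i => if n.testBit i then 1 else 0

theorem pk4_lt : ∀ x : Pm, pk4 x < 16 := by decide +kernel

theorem pk4_add : ∀ x y : Pm, pk4 (x + y) = pk4 x ^^^ pk4 y := by decide +kernel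

theorem unpk4_pk4 : ∀ x : Pm, unpk4 (pk4 x) = x := by decide +kernel

theorem pk4_unpk4 : ∀ n : Fin 16, pk4 (unpk4 n) = n := by decide +kernel

theorem qN_pk : ∀ z : W, qN (pk z) = decide (qW z = 1) := by decide +kernel

-- all permutations and all vectors
theorem pactN_code : ∀ p : Equiv.Perm (Fin 6), ∀ x : Pm,
    pactN (List.ofFn fun i => (p i : ℕ)) (pk4 x) = pk4 (pm p x) := by decide +kernel

theorem mactN_code : ∀ s : Equiv.Perm (Fin 3), ∀ z : W,
    mactN (List.ofFn fun i => (s i : ℕ)) (pk4 z.1) (pk4 z.2) = pk (mact s z) := by decide +kernel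

end Cfsg.Agent.Spor.XS.Bridge
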