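import Cfsg.Agent.Lib.Spor.ExtraS3A6.Space
import Mathlib.GroupTheory.SpecificGroups.Alternating

/-!
The three quotients: subgroups of `S₃ × S₆` containing the even pairs and an element which is odd on the first factor.
-/

set_option autoImplicit false
set_option linter.unusedSectionVars false

namespace Cfsg.Agent.Spor.XS

/-- pairs of permutations -/
abbrev P36 : Type := Equiv.Perm (Fin 3) × Equiv.Perm (Fin 6)

/-- the hypothesis on the quotient -/
structure Kind (K : Subgroup P36) : Prop where
  even : ∀ x : P36, Equiv.Perm.sign x.1 = 1 → Equiv.Perm.sign x.2 = 1 → x ∈ K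
  odd : ∃ x ∈ K, Equiv.Perm.sign x.1 = -1

/-- the three-cycle of the first factor -/
def tauK {K : Subgroup P36} (hK : Kind K) : ↥K :=
  ⟨(finRotate 3, 1), hK.even _ (by decide) (map_one _)⟩

/-- the second factor -/
def altK {K : Subgroup P36} (hK : Kind K) : ↥(alternatingGroup (Fin 6)) →* ↥K where
  toFun p := ⟨(1, p), hK.even _ (map_one _) (Equiv.Perm.mem_alternatingGroup.1 p.2)⟩
  map_one' := rfl
  map_mul' p q := Subtype.ext (Prod.ext (one_mul 1).symm rfl)

theorem altK_injective {K : Subgroup P36} (hK : Kind K) : Function.Injective (altK hK) := fun p q h =>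
  Subtype.ext (congrArg (fun x : ↥K => (x : P36).2) h)

theorem tauK_comm {K : Subgroup P36} (hK : Kind K) (p : ↥(alternatingGroup (Fin 6))) :
    Commute (tauK hK) (altK hK p) :=
  Subtype.ext (Prod.ext ((mul_one _).trans (one_mul _).symm) ((one_mul _).trans (mul_one _).symm))

theorem tauK_cube {K : Subgroup P36} (hK : Kind K) : tauK hK ^ 3 = 1 :=
  Subtype.ext (Prod.ext (by decide : (finRotate 3 : Equiv.Perm (Fin 3)) ^ 3 = 1) (one_pow 3))

theorem tauK_ne {K : Subgroup P36} (hK : Kind K) : tauK hK ≠ 1 := fun h => by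
  have h1 : (finRotate 3 : Equiv.Perm (Fin 3)) = 1 := congrArg (fun x : ↥K => (x : P36).1) h
  revert h1
  decide

end Cfsg.Agent.Spor.XS
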