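import Cfsg.Agent.Lib.Spor.ExtraS3A6.Core
import Cfsg.Agent.Lib.Spor.ExtraS3A6.Transfer
import Cfsg.Agent.Lib.Spor.ExtraS3A6.Kind
import Cfsg.Agent.Lib.Solv.Extraspecial
import Mathlib.GroupTheory.Perm.Cycle.Type
import Mathlib.Data.Fintype.Perm
import Mathlib.GroupTheory.SpecificGroups.Alternating

/-!
The end of the case in which the three-cycle fixes 64 vectors: with a vector fixed by the whole quotient a
transfer into a group of order two is nontrivial.
-/

set_option autoImplicit false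
set_option linter.style.haveILetI false
set_option linter.unusedSectionVars false

namespace Cfsg.Agent.Spor.XS

universe u v

/-! ### The alternating group of degree six -/

/-- a double transposition -/
def dblT : Equiv.Perm (Fin 6) := Equiv.swap 0 1 * Equiv.swap 2 3

/-- the even involutions commuting with it, and the identity -/
def dblList : List (Equiv.Perm (Fin 6)) :=
  [1, dblT, Equiv.swap 0 2 * Equiv.swap 1 3, Equiv.swap 0 3 * Equiv.swap 1 2, Equiv.swap 0 1 * Equiv.swap 4 5,
    Equiv.swap 2 3 * Equiv.swap 4 5]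

theorem dblT_cent_pow : ∀ x : Equiv.Perm (Fin 6), x * dblT = dblT * x → x ^ 16 = 1 := by
  decide +kernel

theorem dblT_cent_inv : ∀ x : Equiv.Perm (Fin 6), x * dblT = dblT * x → x * x = 1 →
    Equiv.Perm.sign x = 1 → x ∈ dblList := by
  decide +kernel

theorem dblList_comm : ∀ u ∈ dblList, ∀ w ∈ dblList, u * w = w * u →
    u = 1 ∨ u = dblT ∨ w = 1 ∨ w = dblT ∨ w = u ∨ w = dblT * u := by
  decide +kernel

theorem cycleType_of_even_inv {t : Equiv.Perm (Fin 6)} (h1 : t ≠ 1) (h2 : t * t = 1)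
    (h3 : Equiv.Perm.sign t = 1) : t.cycleType = Multiset.replicate 2 2 := by
  have ho : orderOf t = 2 := orderOf_eq_prime (p := 2) (by rw [pow_two, h2]) h1
  obtain ⟨n, hn⟩ := Equiv.Perm.cycleType_prime_order (σ := t) (by rw [ho]; exact Nat.prime_two)
  rw [ho] at hn
  have hsum := Equiv.Perm.sum_cycleType t
  have hle : t.support.card ≤ 6 := le_trans (Finset.card_le_univ _) (by simp)
  rw [hn, Multiset.sum_replicate, smul_eq_mul] at hsum
  rw [Equiv.Perm.sign_of_cycleType, hn, Multiset.sum_replicate, Multiset.card_replicate, smul_eq_mul] at h3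
  have : n = 0 ∨ n = 1 ∨ n = 2 := by omega
  rcases this with rfl | rfl | rfl
  · exact absurd h3 (by decide)
  · exact hn
  · exact absurd h3 (by decide)

theorem exists_conj_dblT {t : Equiv.Perm (Fin 6)} (h1 : t ≠ 1) (h2 : t * t = 1)
    (h3 : Equiv.Perm.sign t = 1) : ∃ c, c * t * c⁻¹ = dblT := by
  refine isConj_iff.1 (Equiv.Perm.isConj_iff_cycleType_eq.2 ?_)
  rw [cycleType_of_even_inv h1 h2 h3,
    cycleType_of_even_inv (t := dblT) (by decide) (by decide) (by decide)]

/-- the alternating group -/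
abbrev A6 : Type := ↥(alternatingGroup (Fin 6))

theorem A6_card : Nat.card A6 = 360 := by
  rw [nat_card_alternatingGroup, Nat.card_fin]
  rfl

/-- an element of odd prime order commutes with no involution -/
theorem A6_odd_cent {t x : A6} {p : ℕ} (hp : p.Prime) (hp2 : p ≠ 2) (hx : orderOf x = p) (h1 : t ≠ 1)
    (h2 : t * t = 1) (hc : Commute x t) : False := by
  obtain ⟨c, hct⟩ := exists_conj_dblT (t := (t : Equiv.Perm (Fin 6))) (fun e => h1 (Subtype.ext e))
    (congrArg Subtype.val h2) (Equiv.Perm.mem_alternatingGroup.1 t.2)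
  have hcomm : Commute (c * (x : Equiv.Perm (Fin 6)) * c⁻¹) dblT := by
    rw [← hct]
    exact (Commute.conj_iff c).2 (congrArg Subtype.val hc.eq)
  have h16 := dblT_cent_pow _ hcomm.eq
  rw [conj_pow, conj_eq_one_iff] at h16
  have hd : p ∣ 2 ^ 4 := by
    rw [← hx, ← Subgroup.orderOf_coe x]
    exact orderOf_dvd_of_pow_eq_one h16
  exact hp2 ((Nat.prime_dvd_prime_iff_eq hp Nat.prime_two).1 (hp.dvd_of_dvd_pow hd))

/-- an elementary abelian two-subgroup has at most four elements -/
theorem A6_four (W : Subgroup A6) (hW : ∀ a ∈ W, a * a = 1 ∧ ∀ b ∈ W, Commute a b) : Nat.card W ≤ 4 := by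
  classical
  obtain ⟨t, u, hall⟩ : ∃ t u : ↥W, ∀ w : ↥W, w = 1 ∨ w = t ∨ w = u ∨ w = t * u := by
    by_cases h0 : ∃ t : ↥W, t ≠ 1
    · obtain ⟨t, ht⟩ := h0
      by_cases h1 : ∃ u : ↥W, u ≠ 1 ∧ u ≠ t
      · obtain ⟨u, hu1, hut⟩ := h1
        refine ⟨t, u, fun w => ?_⟩
        obtain ⟨c, hct⟩ := exists_conj_dblT (t := ((t : A6) : Equiv.Perm (Fin 6)))
          (fun e => ht (Subtype.ext (Subtype.ext e))) (congrArg Subtype.val (hW _ t.2).1)
          (Equiv.Perm.mem_alternatingGroup.1 (t : A6).2)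
        let j : ↥W →* Equiv.Perm (Fin 6) :=
          (MulAut.conj c).toMonoidHom.comp ((alternatingGroup (Fin 6)).subtype.comp W.subtype)
        have hj : Function.Injective j :=
          (MulAut.conj c).injective.comp (Subtype.coe_injective.comp Subtype.coe_injective)
        have hjt : j t = dblT := hct
        have hcom : ∀ a b : ↥W, j a * j b = j b * j a := fun a b => by
          rw [← map_mul, ← map_mul, show a * b = b * a from Subtype.ext ((hW _ a.2).2 _ b.2).eq]
        have hmem : ∀ a : ↥W, j a ∈ dblList := fun a => by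
          refine dblT_cent_inv _ (by rw [← hjt]; exact hcom a t) ?_ ?_
          · rw [← map_mul, show a * a = 1 from Subtype.ext (hW _ a.2).1, map_one]
          · show Equiv.Perm.sign (c * ((a : A6) : Equiv.Perm (Fin 6)) * c⁻¹) = 1
            rw [map_mul, map_mul, map_inv, Equiv.Perm.mem_alternatingGroup.1 (a : A6).2, mul_one,
              mul_inv_cancel]
        rcases dblList_comm _ (hmem u) _ (hmem w) (hcom u w) with e | e | e | e | e | e
        · exact absurd (hj (e.trans (map_one j).symm)) hu1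
        · exact absurd (hj (e.trans hjt.symm)) hut
        · exact Or.inl (hj (e.trans (map_one j).symm))
        · exact Or.inr (Or.inl (hj (e.trans hjt.symm)))
        · exact Or.inr (Or.inr (Or.inl (hj e)))
        · exact Or.inr (Or.inr (Or.inr (hj (by rw [map_mul, hjt]; exact e))))
      · push Not at h1
        exact ⟨t, t, fun w => (em (w = 1)).elim Or.inl fun h => Or.inr (Or.inl (h1 w h))⟩
    · push Not at h0
      exact ⟨1, 1, fun w => Or.inl (h0 w)⟩
  refine le_trans (Nat.card_le_card_of_surjective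
    (fun p : Bool × Bool => (if p.1 then t else 1) * if p.2 then u else 1) fun w => ?_) (by simp)
  rcases hall w with rfl | rfl | rfl | rfl
  exacts [⟨(false, false), by simp⟩, ⟨(true, false), by simp⟩, ⟨(false, true), by simp⟩, ⟨(true, true), rfl⟩]

/-- no elementary abelian subgroup of order four is normalised by a group of order divisible by 5 or 9 -/
theorem A6_no_norm (S W : Subgroup A6) (hW : ∀ a ∈ W, a * a = 1 ∧ ∀ b ∈ W, Commute a b)
    (h4 : 4 ≤ Nat.card W) (hn : ∀ s ∈ S, ∀ a ∈ W, s * a * s⁻¹ ∈ W)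
    (h : 5 ∣ Nat.card S ∨ 9 ∣ Nat.card S) : False := by
  classical
  obtain ⟨t, ht⟩ : ∃ t : ↥W, t ≠ 1 := by
    haveI : Nontrivial ↥W := Finite.one_lt_card_iff_nontrivial.1 (by omega)
    exact exists_ne 1
  let X := {a : A6 // a ∈ W ∧ a ≠ 1}
  let cj : ↥S → X → X := fun s a =>
    ⟨(s : A6) * a * (s : A6)⁻¹, hn _ s.2 _ a.2.1, fun e => a.2.2 (conj_eq_one_iff.1 e)⟩
  let φ : ↥S →* Equiv.Perm X :=
    { toFun := fun s =>
        { toFun := cj s
          invFun := cj s⁻¹
          left_inv := fun a => Subtype.ext (by simp [cj, mul_assoc])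
          right_inv := fun a => Subtype.ext (by simp [cj, mul_assoc]) }
      map_one' := Equiv.ext fun a => Subtype.ext (by simp [cj])
      map_mul' := fun s r => Equiv.ext fun a => Subtype.ext (by simp [cj, mul_assoc]) }
  have hX : Nat.card X ≤ 3 := by
    let e : Option X → ↥W := fun o => o.elim 1 fun a => ⟨a.1, a.2.1⟩
    have he : Function.Injective e := by
      rintro (_ | a) (_ | b) hab
      · rfl
      · exact absurd (congrArg Subtype.val hab).symm b.2.2
      · exact absurd (congrArg Subtype.val hab) a.2.2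
      · exact congrArg some (Subtype.ext (congrArg (fun t : ↥W => (t : A6)) hab :))
    have hle := Nat.card_le_card_of_injective e he
    rw [Finite.card_option] at hle
    have := A6_four W hW
    omega
  have hrange : Nat.card φ.range ∣ 6 := by
    refine dvd_trans (Subgroup.card_subgroup_dvd_card _) ?_
    rw [Nat.card_perm]
    exact Nat.factorial_dvd_factorial hX
  have hmul := Subgroup.card_mul_index φ.ker
  rw [Subgroup.index_ker] at hmul
  obtain ⟨p, hp, hp2, hpd⟩ : ∃ p : ℕ, p.Prime ∧ p ≠ 2 ∧ p ∣ Nat.card φ.ker := by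
    rw [← hmul] at h
    rcases h with h | h
    · refine ⟨5, by norm_num, by norm_num, ((Nat.Prime.dvd_mul (by norm_num)).1 h).resolve_right fun h' => ?_⟩
      exact absurd (h'.trans hrange) (by norm_num)
    · refine ⟨3, by norm_num, by norm_num, ?_⟩
      by_contra h3
      have hco : Nat.Coprime 9 (Nat.card φ.ker) := by
        rw [show (9 : ℕ) = 3 ^ 2 by norm_num]
        exact Nat.Coprime.pow_left 2 ((Nat.Prime.coprime_iff_not_dvd (by norm_num)).2 h3)
      exact absurd ((hco.dvd_of_dvd_mul_left h).trans hrange) (by norm_num)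
  haveI := Fact.mk hp
  obtain ⟨x, hx⟩ := exists_prime_orderOf_dvd_card' p hpd
  rw [← Subgroup.orderOf_coe x, ← Subgroup.orderOf_coe (x : ↥S)] at hx
  refine A6_odd_cent hp hp2 hx (fun e => ht (Subtype.ext e)) (hW _ t.2).1 ?_
  have := congrArg (fun e : Equiv.Perm X => (e ⟨t, t.2, fun e => ht (Subtype.ext e)⟩).1)
    (MonoidHom.mem_ker.1 x.2)
  exact mul_inv_eq_iff_eq_mul.1 this

/-- some orbit has length not divisible by a number not dividing the number of points -/
theorem exists_orbit_not_dvd {M : Type u} [Group M] [Finite M] {α : Type v} [MulAction M α] [Finite α] {d : ℕ}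
    (hd : ¬ d ∣ Nat.card α) : ∃ a : α, ¬ d ∣ Nat.card (MulAction.orbit M a) := by
  classical
  by_contra h
  push Not at h
  haveI := Fintype.ofFinite (Quotient (MulAction.orbitRel M α))
  refine hd ?_
  rw [Nat.card_congr (MulAction.selfEquivSigmaOrbits M α), Nat.card_sigma]
  exact Finset.dvd_sum fun ω _ => h _

/-- an abelian subgroup of the extraspecial group has at most 32 elements -/
theorem Hyp.abelian_le {G : Type u} [Group G] [Finite G] {Γ : Type v} [Group Γ] (H : Hyp G Γ) (X : Subgroup G)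
    (hX : X ≤ H.Q) (hc : ∀ a ∈ X, ∀ b ∈ X, Commute a b) : Nat.card X ≤ 32 := by
  haveI : Fact (Nat.Prime 2) := ⟨Nat.prime_two⟩
  set w : ↥H.Q := ⟨H.z, H.z_mem⟩
  have hw : w ∈ Subgroup.center ↥H.Q := Subgroup.mem_center_iff.2 fun g => ((H.ext.central g).eq).symm
  have hcen : Nat.card (Subgroup.center ↥H.Q) = 2 := by
    refine (Nat.card_eq_two_iff' (1 : Subgroup.center ↥H.Q)).2 ⟨⟨w, hw⟩, fun e => H.ext.ne (congrArg Subtype.val e),
      fun a ha => Subtype.ext ((H.ext.center _ fun k => (Subgroup.mem_center_iff.1 a.2 k).symm).resolve_left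
        fun e => ha (Subtype.ext e))⟩
  have hd : commutator ↥H.Q ≤ Subgroup.center ↥H.Q := by
    rw [commutator_def, Subgroup.commutator_le]
    intro g _ k _
    rw [commutatorElement_def]
    rcases H.ext.comm k g with e | e
    · rw [e, mul_assoc (k * g), ← mul_inv_rev, mul_inv_cancel]
      exact one_mem _
    · rw [e, (H.ext.central (k * g)).eq.symm, mul_assoc (w * (k * g)), ← mul_inv_rev, mul_assoc, mul_inv_cancel,
        mul_one]
      exact hw
  obtain ⟨m, hm, hb⟩ := Cfsg.Agent.Solv.card_eq_odd_pow hcen hd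
  rw [H.Q_card] at hm
  obtain rfl : m = 4 := by
    have := Nat.pow_right_injective (le_refl 2) (hm.symm.trans (show 512 = 2 ^ 9 by norm_num))
    omega
  have h2 := Nat.le_of_dvd (by norm_num) (hb (X.subgroupOf H.Q)
    ⟨⟨fun a b => Subtype.ext (Subtype.ext (hc _ a.2 _ b.2).eq)⟩⟩)
  rw [Nat.card_congr (Subgroup.subgroupOfEquivOfLe hX).toEquiv] at h2
  exact h2

/-! ### The claim -/

theorem kind_no128 {K : Subgroup P36} : ¬ 128 ∣ Nat.card ↥K := fun h => by
  have h2 := h.trans (Subgroup.card_subgroup_dvd_card K)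
  rw [Nat.card_prod, Nat.card_perm, Nat.card_perm, Nat.card_fin, Nat.card_fin] at h2
  norm_num [Nat.factorial] at h2

theorem three_rigid : ∀ x : Equiv.Perm (Fin 3), x * x = 1 →
    finRotate 3 * x * (finRotate 3)⁻¹ * x⁻¹ * (finRotate 3 * x * (finRotate 3)⁻¹ * x⁻¹) = 1 → x = 1 := by
  decide +kernel

theorem no_conjugate {G : Type u} [Group G] [Finite G] {K : Subgroup P36} (hK : Kind K) (H : Hyp G ↥K)
    (v : H.Vq) (hv1 : v ≠ 1) (hvt : H.gam (tauK hK) v = v) (S : Subgroup A6)
    (hS : ∀ p ∈ S, H.gam (altK hK p) v = v) (hSc : 5 ∣ Nat.card S ∨ 9 ∣ Nat.card S)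
    (g : G) (ht : g * H.z * g⁻¹ ∈ H.Q) (htv : H.mkV ⟨_, ht⟩ = v) : False := by
  classical
  have hne : g * H.z * g⁻¹ ≠ H.z := fun e => hv1 (by rw [← htv, H.mkV_eq_one_iff]; exact Or.inr e)
  have ht1 : g * H.z * g⁻¹ ≠ 1 := (H.move g).z_ne
  set R := H.imgR g with hR
  have hel := H.imgR_elem ht
  have h8 : 8 ≤ Nat.card R := by
    have h := H.card_imgR kind_no128 ht hne
    rw [← hR] at h
    have hX := H.abelian_le (H.Q ⊓ (H.move g).Q) inf_le_left fun a ha b hb =>
      (H.inter_elem hne a ha.1 ha.2).2 b hb.1 hb.2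
    by_contra hlt
    have := Nat.mul_le_mul (Nat.le_of_lt_succ (not_le.1 hlt)) hX
    omega
  have hnorm : ∀ γ : ↥K, H.gam γ v = v → ∀ a ∈ R, γ * a * γ⁻¹ ∈ R := by
    intro γ hγ a ha
    obtain ⟨c, hc, rfl⟩ := H.exists_img γ
    obtain ⟨c', hc', himg, hct⟩ : ∃ c' ∈ H.C, H.img c' = H.img c ∧ Commute c' (g * H.z * g⁻¹) := by
      rw [H.img_def hc, H.gam_π, ← htv, H.act_mk] at hγ
      obtain ⟨k, hk⟩ := H.mkV_eq_iff.1 hγ.symm
      have hk' : c * (g * H.z * g⁻¹) * c⁻¹ = g * H.z * g⁻¹ * H.tp k := hk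
      rcases bit_cases k with rfl | rfl
      · rw [H.tp_zero, mul_one] at hk'
        exact ⟨c, hc, rfl, mul_inv_eq_iff_eq_mul.1 hk'⟩
      · rw [H.tp_one] at hk'
        obtain ⟨r, hr, hrt⟩ := H.exists_noncommute ht ht1 hne
        refine ⟨r * c, mul_mem (H.Q_le hr) hc, by rw [H.img_mul (H.Q_le hr) hc, H.img_of_mem hr, one_mul], ?_⟩
        refine mul_inv_eq_iff_eq_mul.1 ?_
        calc r * c * (g * H.z * g⁻¹) * (r * c)⁻¹ = r * (c * (g * H.z * g⁻¹) * c⁻¹) * r⁻¹ := by group
          _ = r * (g * H.z * g⁻¹) * (H.z * r⁻¹) := by rw [hk']; simp only [mul_assoc]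
          _ = g * H.z * g⁻¹ := by
            rw [hrt, ← ((H.comm_z hr).inv_left).eq, mul_assoc, ← mul_assoc H.z, ← ((H.comm_z hr).inv_left).eq,
              mul_assoc r⁻¹, H.z_sq, mul_one, mul_inv_cancel_right]
    obtain ⟨r, hr, hrz, rfl⟩ := H.mem_imgR.1 ha
    rw [← himg, ← H.img_conj hc' (H.mem_C.2 hrz)]
    refine H.mem_imgR.2 ⟨_, (H.move g).conj_mem ((H.move g).mem_C.2 hct) hr, ?_, rfl⟩
    exact ((H.mem_C.1 hc').mul_left hrz).mul_left (H.mem_C.1 hc').inv_left
  have hfirst : ∀ a ∈ R, (a : P36).1 = 1 := by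
    intro a ha
    have hm : tauK hK * a * (tauK hK)⁻¹ * a⁻¹ ∈ R := mul_mem (hnorm _ hvt a ha) (inv_mem ha)
    exact three_rigid _ (congrArg (fun x : ↥K => (x : P36).1) (hel a ha).1)
      (congrArg (fun x : ↥K => (x : P36).1) (hel _ hm).1)
  let f : ↥R →* ℤˣ :=
    (Equiv.Perm.sign.comp (MonoidHom.snd (Equiv.Perm (Fin 3)) (Equiv.Perm (Fin 6)))).comp
      (K.subtype.comp R.subtype)
  let e : f.ker → ↥(R.comap (altK hK)) := fun a =>
    ⟨⟨((a : ↥R) : P36).2, Equiv.Perm.mem_alternatingGroup.2 a.2⟩, by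
      rw [Subgroup.mem_comap,
        show altK hK ⟨((a : ↥R) : P36).2, Equiv.Perm.mem_alternatingGroup.2 a.2⟩ = ((a : ↥R) : ↥K) from
          Subtype.ext (Prod.ext (hfirst _ (a : ↥R).2).symm rfl)]
      exact (a : ↥R).2⟩
  have h4 : 4 ≤ Nat.card (R.comap (altK hK)) := by
    refine le_trans ?_ (Nat.card_le_card_of_injective e fun a b hab => ?_)
    · have hm := Subgroup.card_mul_index f.ker
      rw [Subgroup.index_ker] at hm
      have h2 : Nat.card f.range ≤ 2 := (Subgroup.card_le_card_group f.range).trans (by simp)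
      by_contra hlt
      have := Nat.mul_le_mul (Nat.le_of_lt_succ (not_le.1 hlt)) h2
      omega
    · exact Subtype.ext (Subtype.ext (Subtype.ext (Prod.ext
        ((hfirst _ (a : ↥R).2).trans (hfirst _ (b : ↥R).2).symm)
        (congrArg (fun x : ↥(R.comap (altK hK)) => ((x : A6) : Equiv.Perm (Fin 6))) hab))))
  refine A6_no_norm S (R.comap (altK hK)) (fun a ha => ⟨altK_injective hK (by rw [map_mul, map_one]; exact (hel _ ha).1),
    fun b hb => altK_injective hK (by rw [map_mul, map_mul]; exact ((hel _ ha).2 _ hb).eq)⟩) h4 ?_ hSc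
  intro s hs a ha
  rw [Subgroup.mem_comap, map_mul, map_mul, map_inv]
  exact hnorm _ (hS s hs) _ ha

/-! ### The vector -/

open scoped _root_.Classical in
theorem exists_vector {G : Type u} [Group G] [Finite G] {K : Subgroup P36} (hK : Kind K) (H : Hyp G ↥K) (n : H.Vq)
    (hn : n ≠ 1) (hnK : ∀ γ, H.gam γ n = n) (h64 : Nat.card {v : H.Vq // H.gam (tauK hK) v = v} = 64) :
    ∃ v : H.Vq, H.gam (tauK hK) v = v ∧ H.qv v = 0 ∧ H.bf v n = 1 ∧ ∃ S : Subgroup A6,
      (∀ p ∈ S, H.gam (altK hK p) v = v) ∧ (5 ∣ Nat.card S ∨ 9 ∣ Nat.card S) := by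
  haveI := H.sp.finite
  letI := Fintype.ofFinite H.Vq
  set τ := tauK hK
  set B := H.bf with hB
  have hsq : ∀ a : H.Vq, a * a = 1 := H.sp.sq
  have hBr : ∀ a b c, B a (b * c) = B a b + B a c := H.sp.mul_right
  have hBl : ∀ a b c, B (a * b) c = B a c + B b c := H.sp.mul_left
  have hBs : ∀ a b, B a b = B b a := H.sp.symm
  have hcan : ∀ a b : H.Vq, a * b * b = a := fun a b => by rw [mul_assoc, hsq, mul_one]
  have h3 : ∀ x, H.gam τ (H.gam τ (H.gam τ x)) = x := fun x => by
    rw [← H.gam_mul, ← H.gam_mul, show τ * τ * τ = 1 by rw [← pow_three']; exact tauK_cube hK,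
      H.gam_one]
  have hem : ∀ x, H.gam τ (x * H.gam τ x * H.gam τ (H.gam τ x)) = x * H.gam τ x * H.gam τ (H.gam τ x) := fun x => by
    rw [map_mul, map_mul, h3, mul_comm _ x, mul_assoc]
  have hproj : ∀ u, H.gam τ u = u → ∀ x, B u (x * H.gam τ x * H.gam τ (H.gam τ x)) = B u x := fun u hu x => by
    have h1 : B u (H.gam τ x) = B u x := by
      conv_lhs => rw [← hu]
      exact H.gam_bf τ u x
    have h2 : B u (H.gam τ (H.gam τ x)) = B u x := by
      conv_lhs => rw [← hu]
      exact (H.gam_bf τ u _).trans h1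
    rw [hBr, hBr, h1, h2, CharTwo.add_self_eq_zero, zero_add]
  obtain ⟨b0, hb0⟩ := H.sp.exists_one hn
  obtain ⟨b, hbW, hbn⟩ : ∃ b, H.gam τ b = b ∧ B b n = 1 :=
    ⟨_, hem b0, by rw [hBs, hproj n (hnK τ) b0]; exact hb0⟩
  set W := Finset.univ.filter (fun v => H.gam τ v = v) with hW
  set N0 := W.filter (fun v => B v n = 0) with hN0
  set N1 := W.filter (fun v => B v n = 1) with hN1
  have hmW : ∀ {v}, v ∈ W ↔ H.gam τ v = v := by simp [hW]
  have hm0 : ∀ {v}, v ∈ N0 ↔ H.gam τ v = v ∧ B v n = 0 := by simp [hN0, hW]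
  have hm1 : ∀ {v}, v ∈ N1 ↔ H.gam τ v = v ∧ B v n = 1 := by simp [hN1, hW]
  have hc : N0.card = 32 ∧ N1.card = 32 := by
    have e : N0.card = N1.card := Finset.card_equiv (Equiv.mulRight b) fun v => by
      rw [hm0, hm1, Equiv.coe_mulRight, map_mul, hbW, hBl, hbn, mul_left_inj]
      rcases bit_cases (B v n) with h | h <;> rw [h] <;> simp +decide
    have s : N0.card + N1.card = 64 := by
      rw [← h64, Nat.card_eq_fintype_card, Fintype.card_subtype, ← hW,
        ← Finset.card_filter_add_card_filter_not (s := W) (fun v => B v n = 0)]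
      refine congrArg₂ _ rfl (congrArg Finset.card (Finset.filter_congr fun v _ => ?_))
      rcases bit_cases (B v n) with h | h <;> rw [h] <;> simp
    omega
  have hB1 : ∀ {u d}, u ∈ N1 → d ∈ N0 → u * d ∈ N1 := fun hu hd => by
    rw [hm1] at hu ⊢
    rw [hm0] at hd
    exact ⟨by rw [map_mul, hu.1, hd.1], by rw [hBl, hu.2, hd.2, add_zero]⟩
  set Z := N1.filter (fun v => H.qv v = 0) with hZ
  have hfar : ∀ c : ZMod 2, 2 < (N1.filter (fun v => H.qv v ≠ c)).card := by
    intro c
    by_contra hle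
    rw [not_lt] at hle
    set T := N1.filter (fun v => H.qv v ≠ c) with hT
    have hiso : ∀ d ∈ N0, ∀ w ∈ N0, B d w = 0 := by
      intro d hd w hw
      set bad := T ∪ T.image (· * d) ∪ T.image (· * w) ∪ T.image (· * (d * w)) with hbad
      obtain ⟨u, hu, hub⟩ : ∃ u ∈ N1, u ∉ bad := by
        by_contra hno
        simp only [not_exists, not_and, not_not] at hno
        have h1 := Finset.card_le_card (s := N1) (t := bad) hno
        have := Finset.card_union_le (T ∪ T.image (· * d) ∪ T.image (· * w)) (T.image (· * (d * w)))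
        have := Finset.card_union_le (T ∪ T.image (· * d)) (T.image (· * w))
        have := Finset.card_union_le T (T.image (· * d))
        have := Finset.card_image_le (s := T) (f := (· * d))
        have := Finset.card_image_le (s := T) (f := (· * w))
        have := Finset.card_image_le (s := T) (f := (· * (d * w)))
        rw [hbad] at h1
        omega
      simp only [hbad, Finset.mem_union, Finset.mem_image, not_or, not_exists, not_and] at hub
      have hdw : d * w ∈ N0 := by
        rw [hm0] at hd hw ⊢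
        exact ⟨by rw [map_mul, hd.1, hw.1], by rw [hBl, hd.2, hw.2, add_zero]⟩
      have key : ∀ e ∈ N0, (∀ x ∈ T, x * e ≠ u) → H.qv (u * e) = c := fun e he h => by
        by_contra hne
        exact h (u * e) (Finset.mem_filter.2 ⟨hB1 hu he, hne⟩) (hcan u e)
      have q0 : H.qv u = c := by
        by_contra hne
        exact hub.1.1.1 (Finset.mem_filter.2 ⟨hu, hne⟩)
      have q1 := key d hd hub.1.1.2
      have q2 := key w hw hub.1.2
      have q3 := key (d * w) hdw hub.2
      rw [H.qv_mul, q0] at q1 q2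
      rw [H.qv_mul, H.qv_mul, q0, ← hB, hBr] at q3
      linear_combination q3 - q1 - q2
    have hinj : Set.InjOn (fun w => B w b) (N0 : Set H.Vq) := by
      intro x hx y hy hxy
      have hx' := hm0.1 hx
      have hy' := hm0.1 hy
      have hfix : H.gam τ (x * y) = x * y := by rw [map_mul, hx'.1, hy'.1]
      have hz : ∀ w, H.gam τ w = w → B (x * y) w = 0 := by
        have hxyb : B (x * y) b = 0 := by rw [hBl, show B x b = B y b from hxy, CharTwo.add_self_eq_zero]
        have hN : ∀ w ∈ N0, B (x * y) w = 0 := fun w hw => by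
          rw [hBl, hiso x hx w hw, hiso y hy w hw, add_zero]
        intro w hw
        rcases bit_cases (B w n) with h | h
        · exact hN w (hm0.2 ⟨hw, h⟩)
        · have := hN (w * b) (hm0.2 ⟨by rw [map_mul, hw, hbW], by rw [hBl, h, hbn]; decide⟩)
          rwa [hBr, hxyb, add_zero] at this
      have h1 : x * y = 1 := H.sp.nondeg _ fun w => by
        show B (x * y) w = 0
        rw [← hproj _ hfix w]
        exact hz _ (hem w)
      calc x = x * y * y := (hcan x y).symm
        _ = y := by rw [h1, one_mul]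
    have := Finset.card_le_card_of_injOn (s := N0) (t := (Finset.univ : Finset (ZMod 2))) (fun w => B w b)
      (fun _ _ => Finset.mem_coe.2 (Finset.mem_univ _)) hinj
    simp at this
    omega
  have hsplit : Z.card + (N1.filter (fun v => ¬ H.qv v = 0)).card = 32 := by
    rw [hZ, Finset.card_filter_add_card_filter_not, hc.2]
  have hnb := fun v => (hm1 (v := v))
  have hnN : ∀ {v}, v ∈ N1 → v * n ∈ N1 := fun hv => hB1 hv (hm0.2 ⟨hnK τ, H.sp.self n⟩)
  have hndiv : ¬ 15 ∣ Z.card := by
    have hlo : 2 < Z.card := by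
      have := hfar 1
      rwa [show N1.filter (fun v => H.qv v ≠ 1) = Z from Finset.filter_congr fun v _ => by
        rcases bit_cases (H.qv v) with h | h <;> rw [h] <;> simp] at this
    have hhi : 2 < (N1.filter (fun v => ¬ H.qv v = 0)).card := hfar 0
    intro hd
    have h15 : Z.card = 15 := by omega
    rcases bit_cases (H.qv n) with hq | hq
    · have e : Z.card = (N1.filter (fun v => ¬ H.qv v = 0)).card :=
        Finset.card_equiv (Equiv.mulRight n) fun v => by
          simp only [hZ, Finset.mem_filter, Equiv.coe_mulRight]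
          constructor
          · rintro ⟨h1, h2⟩
            refine ⟨hnN h1, ?_⟩
            rw [H.qv_mul, h2, hq, ← hB, (hnb v).1 h1 |>.2]
            decide
          · rintro ⟨h1, h2⟩
            have h1' : v ∈ N1 := by have := hnN h1; rwa [hcan] at this
            refine ⟨h1', (bit_cases _).resolve_right fun h => h2 ?_⟩
            rw [H.qv_mul, h, hq, ← hB, (hnb v).1 h1' |>.2]
            decide
      omega
    · have hst : ∀ v ∈ Z, v * n ∈ Z := fun v hv => by
        rw [hZ, Finset.mem_filter] at hv ⊢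
        refine ⟨hnN hv.1, ?_⟩
        rw [H.qv_mul, hv.2, hq, ← hB, (hnb v).1 hv.1 |>.2]
        decide
      obtain ⟨d, hd1⟩ := H.sp.exists_one hn
      have e : (Z.filter (fun v => B v d = 0)).card = (Z.filter (fun v => ¬ B v d = 0)).card :=
        Finset.card_equiv (Equiv.mulRight n) fun v => by
          have hd' : B n d = 1 := hd1
          simp only [Finset.mem_filter, Equiv.coe_mulRight, hBl, hd']
          constructor
          · rintro ⟨h1, h2⟩
            exact ⟨hst v h1, by rw [h2]; decide⟩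
          · rintro ⟨h1, h2⟩
            refine ⟨by have := hst _ h1; rwa [hcan] at this, (bit_cases _).resolve_right fun h => h2 ?_⟩
            rw [h]
            decide
      have := Finset.card_filter_add_card_filter_not (s := Z) (fun v => B v d = 0)
      omega
  letI act : MulAction A6 {v : H.Vq // v ∈ Z} :=
    { smul := fun p v => ⟨H.gam (altK hK p) v, by
        have hv := v.2
        simp only [hZ, Finset.mem_filter, hm1] at hv ⊢
        refine ⟨⟨?_, ?_⟩, ?_⟩
        · rw [← H.gam_mul, (tauK_comm hK p).eq, H.gam_mul, hv.1.1]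
        · conv_lhs => rw [← hnK (altK hK p)]
          rw [hB, H.gam_bf]
          exact hv.1.2
        · rw [H.gam_qv]; exact hv.2⟩
      one_smul := fun v => Subtype.ext (by
        show H.gam (altK hK 1) v = v
        rw [map_one, H.gam_one])
      mul_smul := fun p r v => Subtype.ext (by
        show H.gam (altK hK (p * r)) v = H.gam (altK hK p) (H.gam (altK hK r) v)
        rw [map_mul, H.gam_mul]) }
  obtain ⟨a, ha⟩ := exists_orbit_not_dvd (M := A6) (α := {v : H.Vq // v ∈ Z}) (d := 15)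
    (by rw [Nat.card_eq_fintype_card, Fintype.card_coe]; exact hndiv)
  have hav := a.2
  simp only [hZ, Finset.mem_filter, hm1] at hav
  refine ⟨a, hav.1.1, hav.2, hav.1.2, MulAction.stabilizer A6 a,
    fun p hp => congrArg Subtype.val (MulAction.mem_stabilizer_iff.1 hp), ?_⟩
  have hm := Subgroup.card_eq_card_quotient_mul_card_subgroup (MulAction.stabilizer A6 a)
  rw [A6_card, ← Nat.card_congr (MulAction.orbitEquivQuotientStabilizer A6 a)] at hm
  by_contra hno
  simp only [not_or] at hno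
  refine ha ?_
  have h5 : 5 ∣ Nat.card (MulAction.orbit A6 a) :=
    ((Nat.Prime.dvd_mul (by norm_num)).1 (hm ▸ (by norm_num : 5 ∣ 360))).resolve_right hno.1
  have h3' : 3 ∣ Nat.card (MulAction.orbit A6 a) := by
    by_contra h
    have hco : Nat.Coprime 9 (Nat.card (MulAction.orbit A6 a)) := by
      rw [show (9 : ℕ) = 3 ^ 2 by norm_num]
      exact Nat.Coprime.pow_left 2 ((Nat.Prime.coprime_iff_not_dvd (by norm_num)).2 h)
    exact hno.2 (hco.dvd_of_dvd_mul_left (hm ▸ (by norm_num : 9 ∣ 360)))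
  exact (by norm_num : Nat.Coprime 3 5).mul_dvd_of_dvd_of_dvd h3' h5

/-! ### The transfer -/

theorem beta_end {G : Type u} [Group G] [Finite G] [IsSimpleGroup G] (hG : ¬ IsMulCommutative G)
    {K : Subgroup P36} (hK : Kind K) (H : Hyp G ↥K) (n : H.Vq) (hn : n ≠ 1) (hnK : ∀ γ, H.gam γ n = n)
    (h64 : Nat.card {v : H.Vq // H.gam (tauK hK) v = v} = 64) : False := by
  classical
  haveI : Fact (Nat.Prime 2) := ⟨Nat.prime_two⟩
  obtain ⟨v, hvt, hvq, hvn, S, hS, hSc⟩ := exists_vector hK H n hn hnK h64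
  obtain ⟨⟨y, hy⟩, rfl⟩ := H.mkV_surj v
  obtain ⟨⟨m, hm⟩, rfl⟩ := H.mkV_surj n
  rw [H.bf_mk] at hvn
  rw [H.qv_mk, H.qf_eq_zero] at hvq
  have hv1 : H.mkV ⟨y, hy⟩ ≠ 1 := fun e => by
    rcases H.mkV_eq_one_iff.1 e with h | h
    · rw [show H.kap y m = 0 from H.kap_eq_zero.2 (by rw [show y = 1 from h]; exact Commute.one_left _)] at hvn
      exact zero_ne_one hvn
    · rw [show H.kap y m = 0 from H.kap_eq_zero.2 (by rw [show y = H.z from h]; exact (H.comm_z hm).symm)] at hvn
      exact zero_ne_one hvn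
  have hy1 : y ≠ 1 := fun h => hv1 (H.mkV_eq_one_iff.2 (Or.inl h))
  have hyz : y ≠ H.z := fun h => hv1 (H.mkV_eq_one_iff.2 (Or.inr h))
  have hclaim : ∀ g : G, g * H.z * g⁻¹ ≠ y ∧ g * H.z * g⁻¹ ≠ y * H.z := fun g => by
    constructor <;> intro e
    · refine no_conjugate hK H _ hv1 hvt S hS hSc g (e ▸ hy) ?_
      exact congrArg H.mkV (Subtype.ext e)
    · refine no_conjugate hK H _ hv1 hvt S hS hSc g (e ▸ mul_mem hy H.z_mem) ?_
      rw [H.mkV_eq_iff]
      exact ⟨1, by show y = g * H.z * g⁻¹ * H.tp 1; rw [e, H.tp_one, mul_assoc, H.z_sq, mul_one]⟩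
  -- the character
  have hk : ∀ c : ↥H.C, ∃ k, (c : G) * m * (c : G)⁻¹ = m * H.tp k := fun c => by
    have h := hnK (H.π c)
    rw [H.gam_π, H.act_mk] at h
    obtain ⟨k, hk⟩ := H.mkV_eq_iff.1 h.symm
    exact ⟨k, hk⟩
  choose κ hκ using hk
  let φ : ↥H.C →* Multiplicative (ZMod 2) :=
    { toFun := fun c => Multiplicative.ofAdd (κ c)
      map_one' := congrArg Multiplicative.ofAdd (H.tp_inj (k := κ 1) (l := 0)
        (mul_left_cancel (a := m) ((hκ 1).symm.trans (by simp [H.tp_zero]))))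
      map_mul' := fun c d => by
        refine (congrArg Multiplicative.ofAdd (H.tp_inj (k := κ (c * d)) (l := κ c + κ d)
          (mul_left_cancel (a := m) ((hκ (c * d)).symm.trans ?_)))).trans (ofAdd_add _ _)
        calc ((c * d : ↥H.C) : G) * m * ((c * d : ↥H.C) : G)⁻¹
            = (c : G) * ((d : G) * m * (d : G)⁻¹) * (c : G)⁻¹ := by push_cast; group
          _ = (c : G) * m * (H.tp (κ d) * (c : G)⁻¹) := by rw [hκ]; simp only [mul_assoc]
          _ = (c : G) * m * (c : G)⁻¹ * H.tp (κ d) := by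
            rw [← ((H.tp_comm c.2 (κ d)).inv_left).eq]; simp only [mul_assoc]
          _ = m * H.tp (κ c + κ d) := by rw [hκ, H.tp_add, mul_assoc] }
  have hyC : y ∈ H.C := H.Q_le hy
  have hφy : φ ⟨y, hyC⟩ ≠ 1 := fun e => by
    have e' : κ ⟨y, hyC⟩ = 0 := e
    have h1 : y * m * y⁻¹ = m * H.tp (κ ⟨y, hyC⟩) := hκ ⟨y, hyC⟩
    have h2 := H.tp_inj (mul_left_cancel (h1.symm.trans (H.conj_eq hy hm)))
    rw [hvn, e'] at h2
    exact zero_ne_one h2
  set T := H.centQ y with hT
  have hTp : IsPGroup 2 ↥T := IsPGroup.of_card (n := 8) (H.card_centQ hy hy1 hyz)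
  have hA : ∀ a : Multiplicative (ZMod 2), a * a = 1 := fun a =>
    congrArg Multiplicative.ofAdd (CharTwo.add_self_eq_zero a.toAdd)
  have hTy : ∀ p ∈ T, Commute p y := fun p hp => (H.mem_centQ.1 hp).2
  obtain ⟨Sc, hprod, h1, -, h3⟩ := transfer_fixed H.C φ hA T hTp hTy
  -- an involution in the class fixed by `T` is the given one
  have hfix : ∀ r : G, (∀ p ∈ T, Commute p (r * H.z * r⁻¹)) → r * H.z * r⁻¹ = H.z := by
    intro r hr
    set w := r * H.z * r⁻¹ with hw
    have hwC : w ∈ H.C := H.mem_C.2 (hr _ (H.z_mem_centQ (H.comm_z hy).symm)).symm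
    have hperp : ∀ u, H.bf (H.mkV ⟨y, hy⟩) u = 0 → H.act ⟨w, hwC⟩ u = u := fun u hu => by
      obtain ⟨⟨a, ha⟩, rfl⟩ := H.mkV_surj u
      rw [H.bf_mk, H.kap_eq_zero] at hu
      have h := hr a (H.mem_centQ.2 ⟨ha, hu.symm⟩)
      rw [H.act_mk]
      exact congrArg H.mkV (Subtype.ext (show w * a * w⁻¹ = a by rw [← h.eq, mul_inv_cancel_right]))
    have htriv : ∀ a, H.act ⟨w, hwC⟩ a = a := by
      intro a
      rcases bit_cases (H.bf (H.mkV ⟨y, hy⟩) a) with hb | hb
      · exact hperp a hb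
      set d := H.act ⟨w, hwC⟩ a * a with hd
      have hcan : H.act ⟨w, hwC⟩ a = d * a := by rw [hd, mul_assoc, H.sp.sq, mul_one]
      have horth : ∀ u, H.bf (H.mkV ⟨y, hy⟩) u = 0 → H.bf d u = 0 := fun u hu => by
        have e := H.act_bf ⟨w, hwC⟩ a u
        rw [hperp u hu] at e
        show H.sp.B d u = 0
        rw [hd, H.sp.mul_left]
        show H.bf _ u + H.bf a u = 0
        rw [e, CharTwo.add_self_eq_zero]
      obtain ⟨⟨b, hbQ⟩, hbd⟩ := H.mkV_surj d
      have hb4 := H.central_centQ hy hbQ fun p hp => H.kap_eq_zero.1 (by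
        obtain ⟨hpQ, hpy⟩ := H.mem_centQ.1 hp
        have := horth (H.mkV ⟨p, hpQ⟩) (by rw [H.bf_mk]; exact H.kap_eq_zero.2 hpy.symm)
        rwa [← hbd, H.bf_mk] at this)
      have hd2 : d = 1 ∨ d = H.mkV ⟨y, hy⟩ := by
        rw [← hbd]
        rcases hb4 with e | e | e | e
        · exact Or.inl (H.mkV_eq_one_iff.2 (Or.inl e))
        · exact Or.inl (H.mkV_eq_one_iff.2 (Or.inr e))
        · exact Or.inr (congrArg H.mkV (Subtype.ext e))
        · exact Or.inr ((H.mkV_eq_iff.2 ⟨1, by show b = y * H.tp 1; rw [e, H.tp_one]⟩).symm)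
      rcases hd2 with e | e
      · rw [hcan, e, one_mul]
      · exfalso
        have eq1 := H.act_qv ⟨w, hwC⟩ a
        rw [hcan, e, H.qv_mul, hb, show H.qv (H.mkV ⟨y, hy⟩) = 0 by rw [H.qv_mk]; exact H.qf_eq_zero.2 hvq,
          zero_add] at eq1
        exact one_ne_zero (add_eq_left.1 eq1)
    have hwQ : w ∈ H.Q := H.mem_of_act_trivial htriv
    rcases H.central_centQ hy hwQ (fun p hp => (hr p hp).symm) with e | e | e | e
    · exact absurd (conj_eq_one_iff.1 e) H.z_ne
    · exact e
    · exact absurd e (hclaim r).1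
    · exact absurd e (hclaim r).2
  have hone : ∀ x ∈ Sc, x ≠ (QuotientGroup.mk 1 : G ⧸ H.C) → cycVal H.C φ y x.out = 1 := by
    intro x hx hx1
    by_cases hyx : y • x = x
    · refine absurd ?_ hx1
      have hpx : ∀ p ∈ T, x.out⁻¹ * p * x.out ∈ H.C := fun p hp => by
        obtain ⟨k, hk⟩ := h1 x hx p hp
        rw [MulAction.mem_stabilizer_iff.1 (zpow_mem (MulAction.mem_stabilizer_iff.2 hyx) k),
          ← QuotientGroup.out_eq' x, MulAction.Quotient.smul_mk, QuotientGroup.eq, smul_eq_mul] at hk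
        have := inv_mem hk
        rwa [show ((p * x.out)⁻¹ * x.out)⁻¹ = x.out⁻¹ * p * x.out by group] at this
      have hz := hfix x.out fun p hp => by
        have := (Commute.conj_iff x.out).2 (H.mem_C.1 (hpx p hp))
        rwa [show x.out * (x.out⁻¹ * p * x.out) * x.out⁻¹ = p by group] at this
      rw [← QuotientGroup.out_eq' x, QuotientGroup.eq, mul_one, inv_mem_iff, H.mem_C]
      exact mul_inv_eq_iff_eq_mul.1 hz
    · have hp2 : Function.minimalPeriod (y • ·) (QuotientGroup.mk x.out : G ⧸ H.C) = 2 := by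
        rw [QuotientGroup.out_eq']
        refine Function.minimalPeriod_eq_prime ?_ hyx
        show (y • ·)^[2] x = x
        rw [smul_iterate, pow_two, hvq]
        exact one_smul G x
      rw [cycVal, dif_pos (by rw [hp2, pow_two, hvq, mul_one, inv_mul_cancel]; exact one_mem _)]
      refine (congrArg φ (Subtype.ext ?_)).trans (map_one φ)
      show x.out⁻¹ * y ^ _ * x.out = 1
      rw [hp2, pow_two, hvq, mul_one, inv_mul_cancel]
  have hbase : (QuotientGroup.mk 1 : G ⧸ H.C) ∈ Sc := by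
    obtain ⟨x, hx, k, e⟩ := h3 (QuotientGroup.mk 1) fun p hp => ⟨0, by
      rw [zpow_zero, one_smul, MulAction.Quotient.smul_mk, QuotientGroup.eq, smul_eq_mul, mul_one, mul_one]
      exact inv_mem (H.Q_le (H.mem_centQ.1 hp).1)⟩
    rw [MulAction.Quotient.smul_mk, smul_eq_mul, mul_one] at e
    rwa [e, show (QuotientGroup.mk (y ^ k) : G ⧸ H.C) = QuotientGroup.mk 1 from
      QuotientGroup.eq.2 (by rw [mul_one]; exact inv_mem (zpow_mem hyC k))] at hx
  refine hφy ?_
  have hv' : (1 : G)⁻¹ * y * 1 ∈ H.C := by simpa using hyC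
  calc φ ⟨y, hyC⟩ = cycVal H.C φ y (1 : G) :=
        ((cycVal_of_fixed H.C φ y hv').trans (congrArg φ (Subtype.ext (by simp)))).symm
    _ = cycVal H.C φ y (QuotientGroup.mk 1 : G ⧸ H.C).out :=
        cycVal_congr H.C φ y (QuotientGroup.out_eq' _).symm
    _ = MonoidHom.transfer φ y := by
        rw [hprod, Finset.prod_eq_single_of_mem _ hbase hone]
    _ = 1 := transfer_trivial hG H.C φ y

end Cfsg.Agent.Spor.XS
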