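import Cfsg.Agent.Lib.Spor.ExtraS3A6.Base

/-!
Two conjugates of the involution: their extraspecial groups and the elements of the centralizer between them.
-/

set_option autoImplicit false
set_option linter.style.haveILetI false
set_option linter.unusedSectionVars false

namespace Cfsg.Agent.Spor.XS

universe u v

variable {G : Type u} [Group G] [Finite G] {Γ : Type v} [Group Γ] (H : Hyp G Γ)

/-- the centralizer of an element in `Q` -/
def Hyp.centQ (t : G) : Subgroup G := H.Q ⊓ Subgroup.centralizer ({t} : Set G)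

theorem Hyp.mem_centQ {t a : G} : a ∈ H.centQ t ↔ a ∈ H.Q ∧ Commute a t := by
  rw [Hyp.centQ, Subgroup.mem_inf, Subgroup.mem_centralizer_singleton_iff]
  exact Iff.rfl

theorem Hyp.z_mem_centQ {t : G} (ht : Commute H.z t) : H.z ∈ H.centQ t := H.mem_centQ.2 ⟨H.z_mem, ht⟩

theorem Hyp.card_centQ {t : G} (ht : t ∈ H.Q) (h1 : t ≠ 1) (hz : t ≠ H.z) : Nat.card (H.centQ t) = 256 := by
  let f : ↥H.Q →* Multiplicative (ZMod 2) :=
    { toFun := fun a => Multiplicative.ofAdd (H.kap (a : G) t)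
      map_one' := by
        show Multiplicative.ofAdd (H.kap 1 t) = 1
        rw [H.kap_eq_zero.2 (Commute.one_left t)]
        rfl
      map_mul' := fun a b => by
        show Multiplicative.ofAdd (H.kap ((a : G) * b) t) = _
        rw [H.kap_mul_left a.2 b.2 ht]
        rfl }
  have hk : f.ker = (H.centQ t).subgroupOf H.Q := by
    ext a
    rw [MonoidHom.mem_ker, Subgroup.mem_subgroupOf, H.mem_centQ]
    show H.kap (a : G) t = 0 ↔ _
    rw [H.kap_eq_zero]
    exact ⟨fun h => ⟨a.2, h⟩, fun h => h.2⟩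
  have hs : Function.Surjective f := by
    intro k
    obtain ⟨r, hr, e⟩ := H.exists_noncommute ht h1 hz
    rcases bit_cases k.toAdd with h | h
    · exact ⟨1, by rw [map_one]; exact (congrArg Multiplicative.ofAdd h).symm⟩
    · refine ⟨⟨r, hr⟩, ?_⟩
      show Multiplicative.ofAdd (H.kap r t) = k
      rw [H.kap_symm, H.kap_eq ht hr (k := 1) (by rw [H.tp_one]; exact e)]
      exact (congrArg Multiplicative.ofAdd h).symm
  have hi := Subgroup.card_mul_index f.ker
  rw [Subgroup.index_ker, MonoidHom.range_eq_top.2 hs, Subgroup.card_top, H.Q_card, hk,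
    Nat.card_congr (Subgroup.subgroupOfEquivOfLe (show H.centQ t ≤ H.Q from inf_le_left)).toEquiv] at hi
  rw [show Nat.card (Multiplicative (ZMod 2)) = 2 by simp] at hi
  omega

/-- an element of `Q` which commutes with the centralizer in `Q` of another one -/
theorem Hyp.central_centQ {t a : G} (ht : t ∈ H.Q) (ha : a ∈ H.Q) (hc : ∀ b ∈ H.centQ t, Commute a b) :
    a = 1 ∨ a = H.z ∨ a = t ∨ a = t * H.z := by
  by_cases h : ∀ b ∈ H.Q, Commute a b
  · rcases H.eq_of_central ha h with e | e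
    exacts [Or.inl e, Or.inr (Or.inl e)]
  push Not at h
  obtain ⟨r, hr, hra⟩ := h
  have hrt : ¬ Commute r t := fun e => hra (hc r (H.mem_centQ.2 ⟨hr, e⟩))
  have one_of : ∀ {x y : G}, ¬ Commute x y → H.kap x y = 1 := fun {x y} h =>
    (bit_cases _).resolve_left fun e => h (H.kap_eq_zero.1 e)
  have hta : H.kap r t = 1 := one_of hrt
  have key : ∀ b ∈ H.Q, Commute (t⁻¹ * a) b := by
    intro b hb
    refine H.kap_eq_zero.1 ?_
    have hinv : H.kap t⁻¹ b = H.kap t b := by
      have h := H.kap_mul_left (inv_mem ht) ht hb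
      rw [inv_mul_cancel, H.kap_eq_zero.2 (Commute.one_left b)] at h
      exact CharTwo.add_eq_zero.1 h.symm
    rw [H.kap_mul_left (inv_mem ht) ha hb, hinv]
    rcases bit_cases (H.kap b t) with hb' | hb'
    · rw [H.kap_symm, hb', H.kap_eq_zero.2 (hc b (H.mem_centQ.2 ⟨hb, H.kap_eq_zero.1 hb'⟩)), add_zero]
    · have hm : b * r ∈ H.centQ t := H.mem_centQ.2 ⟨mul_mem hb hr, H.kap_eq_zero.1 (by
        rw [H.kap_mul_left hb hr ht, hb', hta]; decide)⟩
      have h0 : H.kap a (b * r) = 0 := H.kap_eq_zero.2 (hc _ hm)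
      rw [H.kap_mul_right ha hb hr, one_of hra] at h0
      rw [H.kap_symm t b, hb', CharTwo.add_eq_zero.1 h0]
      decide
  rcases H.eq_of_central (mul_mem (inv_mem ht) ha) key with e | e
  · right; right; left
    exact (inv_mul_eq_one.1 e).symm
  · right; right; right
    exact inv_mul_eq_iff_eq_mul.1 e

theorem Hyp.centQ_norm {t a b : G} (ha : a ∈ H.C) (hta : Commute a t) (hb : b ∈ H.centQ t) :
    a * b * a⁻¹ ∈ H.centQ t := by
  obtain ⟨h1, h2⟩ := H.mem_centQ.1 hb
  refine H.mem_centQ.2 ⟨H.conj_mem ha h1, ?_⟩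
  exact (hta.mul_left h2).mul_left hta.inv_left

/-- the conjugate involution in `Q` sees the involution in its own extraspecial group -/
theorem Hyp.z_mem_move (hΓ : ¬ 128 ∣ Nat.card Γ) {g : G} (ht : g * H.z * g⁻¹ ∈ H.Q) :
    H.z ∈ (H.move g).Q := by
  set t := g * H.z * g⁻¹ with htdef
  by_cases hne : t = H.z
  · rw [← hne]; exact (H.move g).z_mem
  by_contra hz
  have ht1 : t ≠ 1 := (H.move g).z_ne
  set D := H.centQ t
  have hD : D ≤ (H.move g).C := fun a ha => (H.move g).mem_C.2 (H.mem_centQ.1 ha).2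
  have hsmall : ∀ a ∈ D, a ∈ (H.move g).Q → a = 1 ∨ a = t := by
    intro a ha haQ
    have hcen : ∀ b ∈ D, Commute a b := by
      intro b hb
      rcases H.comm_mem (H.mem_centQ.1 hb).1 (H.mem_centQ.1 ha).1 with e | e
      · exact e
      · refine absurd ?_ hz
        have h1 : a⁻¹ * (b⁻¹ * a * b) ∈ (H.move g).Q :=
          mul_mem (inv_mem haQ) ((H.move g).conj_mem' (hD hb) haQ)
        rwa [show a⁻¹ * (b⁻¹ * a * b) = (b * a)⁻¹ * (a * b) by group, e,
          show (b * a)⁻¹ * (b * a * H.z) = H.z by group] at h1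
    rcases H.central_centQ ht (H.mem_centQ.1 ha).1 hcen with e | e | e | e
    · exact Or.inl e
    · exact absurd (e ▸ haQ) hz
    · exact Or.inr e
    · refine absurd ?_ hz
      have h1 := mul_mem (inv_mem ((H.move g).z_mem)) (e ▸ haQ)
      rwa [show (H.move g).z⁻¹ * (t * H.z) = H.z by show (g * H.z * g⁻¹)⁻¹ * (g * H.z * g⁻¹ * H.z) = H.z; group] at h1
  let f : ↥D →* Γ := (H.move g).π.comp (Subgroup.inclusion hD)
  have hker : Nat.card f.ker ≤ 2 := by
    let e : f.ker → Bool := fun a => by classical exact decide (((a : ↥D) : G) = 1)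
    refine le_trans (Nat.card_le_card_of_injective e fun a b hab => ?_) (by simp)
    have h2 : ∀ a : f.ker, ((a : ↥D) : G) = 1 ∨ ((a : ↥D) : G) = t := fun a =>
      hsmall _ (a : ↥D).2 (((H.move g).π_ker _).1 a.2)
    simp only [e, decide_eq_decide] at hab
    refine Subtype.ext (Subtype.ext ?_)
    rcases h2 a with ea | ea <;> rcases h2 b with eb | eb
    · rw [ea, eb]
    · exact absurd ((eb.symm.trans (hab.1 ea))) ht1
    · exact absurd ((ea.symm.trans (hab.2 eb))) ht1
    · rw [ea, eb]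
  refine hΓ (dvd_trans ?_ (Subgroup.card_subgroup_dvd_card f.range))
  have hi := Subgroup.card_mul_index f.ker
  rw [Subgroup.index_ker, H.card_centQ ht ht1 hne] at hi
  have hpos : 0 < Nat.card f.ker := Nat.card_pos
  interval_cases h : Nat.card f.ker
  · exact ⟨2, by omega⟩
  · exact ⟨1, by omega⟩

/-- the common part is elementary abelian -/
theorem Hyp.inter_elem {g : G} (hne : g * H.z * g⁻¹ ≠ H.z) :
    ∀ a ∈ H.Q, a ∈ (H.move g).Q → a * a = 1 ∧ ∀ b ∈ H.Q, b ∈ (H.move g).Q → Commute a b := by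
  intro a ha ha'
  constructor
  · rcases H.sq_mem ha with e | e
    · exact e
    rcases (H.move g).sq_mem ha' with e' | e'
    · exact e'
    exact absurd (e'.symm.trans e) hne
  · intro b hb hb'
    rcases H.comm_mem ha hb with e | e
    · exact e.symm
    rcases (H.move g).comm_mem ha' hb' with e' | e'
    · exact e'.symm
    exact absurd (mul_left_cancel (e'.symm.trans e)) hne

/-- the elements of the second group inside the centralizer, seen in the quotient -/
noncomputable def Hyp.imgR (g : G) : Subgroup Γ :=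
  (((H.move g).centQ H.z).subgroupOf H.C).map H.π

theorem Hyp.mem_imgR {g : G} {γ : Γ} :
    γ ∈ H.imgR g ↔ ∃ r ∈ (H.move g).Q, Commute r H.z ∧ H.img r = γ := by
  constructor
  · rintro ⟨c, hc, rfl⟩
    have hc' := (H.move g).mem_centQ.1 (Subgroup.mem_subgroupOf.1 hc)
    exact ⟨c, hc'.1, hc'.2, H.img_def c.2⟩
  · rintro ⟨r, hr, hrz, rfl⟩
    exact ⟨⟨r, H.mem_C.2 hrz⟩, Subgroup.mem_subgroupOf.2 ((H.move g).mem_centQ.2 ⟨hr, hrz⟩),
      (H.img_def _).symm⟩

theorem Hyp.card_imgR (hΓ : ¬ 128 ∣ Nat.card Γ) {g : G} (ht : g * H.z * g⁻¹ ∈ H.Q)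
    (hne : g * H.z * g⁻¹ ≠ H.z) :
    Nat.card (H.imgR g) * Nat.card (H.Q ⊓ (H.move g).Q : Subgroup G) = 256 := by
  have hle : (H.move g).centQ H.z ≤ H.C := fun a ha => H.mem_C.2 ((H.move g).mem_centQ.1 ha).2
  let f : ↥((H.move g).centQ H.z) →* Γ := H.π.comp (Subgroup.inclusion hle)
  have hrange : f.range = H.imgR g := by
    ext γ
    rw [H.mem_imgR]
    constructor
    · rintro ⟨a, rfl⟩
      have ha := (H.move g).mem_centQ.1 a.2
      exact ⟨a, ha.1, ha.2, H.img_def (hle a.2)⟩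
    · rintro ⟨r, hr, hrz, rfl⟩
      exact ⟨⟨r, (H.move g).mem_centQ.2 ⟨hr, hrz⟩⟩, (H.img_def (H.mem_C.2 hrz)).symm⟩
  have hker : f.ker = (H.Q ⊓ (H.move g).Q).subgroupOf ((H.move g).centQ H.z) := by
    ext a
    rw [MonoidHom.mem_ker, Subgroup.mem_subgroupOf, Subgroup.mem_inf]
    show H.π _ = 1 ↔ _
    rw [H.π_ker]
    exact ⟨fun h => ⟨h, ((H.move g).mem_centQ.1 a.2).1⟩, fun h => h.1⟩
  have hinf : H.Q ⊓ (H.move g).Q ≤ (H.move g).centQ H.z := fun a ha =>
    (H.move g).mem_centQ.2 ⟨ha.2, H.comm_z ha.1⟩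
  have h256 : Nat.card ((H.move g).centQ H.z) = 256 :=
    (H.move g).card_centQ (H.z_mem_move hΓ ht) H.z_ne (fun e => hne e.symm)
  have hi := Subgroup.card_mul_index f.ker
  rw [Subgroup.index_ker, h256, hrange, hker,
    Nat.card_congr (Subgroup.subgroupOfEquivOfLe hinf).toEquiv] at hi
  rw [mul_comm, hi]

/-- squares and commutators fall into `⟨t⟩`, so the image is elementary abelian -/
theorem Hyp.imgR_elem {g : G} (ht : g * H.z * g⁻¹ ∈ H.Q) :
    ∀ a ∈ H.imgR g, a * a = 1 ∧ ∀ b ∈ H.imgR g, Commute a b := by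
  intro a ha
  obtain ⟨r, hr, hrz, rfl⟩ := H.mem_imgR.1 ha
  have hrC : r ∈ H.C := H.mem_C.2 hrz
  constructor
  · rw [← H.img_mul hrC hrC]
    rcases (H.move g).sq_mem hr with e | e <;> rw [e]
    · exact H.img_one
    · exact H.img_of_mem ht
  · intro b hb
    obtain ⟨s, hs, hsz, rfl⟩ := H.mem_imgR.1 hb
    have hsC : s ∈ H.C := H.mem_C.2 hsz
    rcases (H.move g).comm_mem hs hr with e | e
    · rw [Commute, SemiconjBy, ← H.img_mul hrC hsC, e, H.img_mul hsC hrC]
    · rw [Commute, SemiconjBy, ← H.img_mul hrC hsC, e, H.img_mul (b := (H.move g).z) (mul_mem hsC hrC) (H.Q_le ht),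
        H.img_of_mem (show (H.move g).z ∈ H.Q from ht), mul_one, H.img_mul hsC hrC]

/-- commutators with the centralizer in `Q` fall into the common part -/
theorem Hyp.comm_inter {g r q : G} (hr : r ∈ (H.move g).Q) (hrz : Commute r H.z) (hq : q ∈ H.Q)
    (hqt : Commute q (g * H.z * g⁻¹)) :
    r * q * r⁻¹ * q⁻¹ ∈ H.Q ∧ r * q * r⁻¹ * q⁻¹ ∈ (H.move g).Q := by
  refine ⟨mul_mem (H.conj_mem (H.mem_C.2 hrz) hq) (inv_mem hq), ?_⟩
  have hqC : q ∈ (H.move g).C := (H.move g).mem_C.2 hqt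
  have h := mul_mem hr ((H.move g).conj_mem hqC (inv_mem hr))
  rwa [show r * (q * r⁻¹ * q⁻¹) = r * q * r⁻¹ * q⁻¹ by group] at h

end Cfsg.Agent.Spor.XS
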