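import Cfsg.Agent.Lib.Spor.ExtraS3A6.Model
import Cfsg.Agent.Lib.Spor.ExtraS3A6.Core
import Cfsg.Agent.Lib.Spor.ExtraS3A6.BetaEnd

/-!
A setting with coordinates in the model.
-/

set_option autoImplicit false
set_option linter.style.haveILetI false
set_option linter.unusedSectionVars false

namespace Cfsg.Agent.Spor.XS

open Model

universe u v

/-- coordinates for a setting -/
structure Crd (k : Fin 3) {G : Type u} [Group G] {Γ : Type v} [Group Γ] (H : Hyp G Γ) where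
  vec : G → ℕ
  el : Γ → El
  el_mul : ∀ γ δ, el (γ * δ) = mulE (el γ) (el δ)
  el_one : el 1 = oneE
  el_inj : Function.Injective el
  el_mem : ∀ γ, el γ ∈ elsK k
  el_surj : ∀ e ∈ elsK k, ∃ γ, el γ = e
  card_dvd : Nat.card Γ ∣ 4320
  card_dvd' : k ≠ 1 → Nat.card Γ ∣ 2160
  vec_lt : ∀ a, vec a < 256
  vec_mul : ∀ a ∈ H.Q, ∀ b ∈ H.Q, vec (a * b) = vec a ^^^ vec b
  vec_surj : ∀ n, n < 256 → ∃ a ∈ H.Q, vec a = n
  vec_zero : ∀ a ∈ H.Q, vec a = 0 ↔ a = 1 ∨ a = H.z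
  vec_q : ∀ a ∈ H.Q, qN (vec a) = false ↔ a * a = 1
  vec_b : ∀ a ∈ H.Q, ∀ b ∈ H.Q, bN (vec a) (vec b) = false ↔ Commute a b
  vec_conj : ∀ c ∈ H.C, ∀ a ∈ H.Q, vec (c * a * c⁻¹) = gm (el (H.img c)) (vec a)

variable {k : Fin 3} {G : Type u} [Group G] {Γ : Type v} [Group Γ] {H : Hyp G Γ} (S : Crd k H)

/-- the code of the image -/
noncomputable def Crd.ei (c : G) : El := S.el (H.img c)

theorem Crd.ei_mul {a b : G} (ha : a ∈ H.C) (hb : b ∈ H.C) : S.ei (a * b) = mulE (S.ei a) (S.ei b) := by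
  rw [Crd.ei, H.img_mul ha hb, S.el_mul]
  rfl

theorem Crd.ei_eq_one {a : G} (ha : a ∈ H.C) : S.ei a = oneE ↔ a ∈ H.Q := by
  rw [← H.img_eq_one ha, Crd.ei, ← S.el_one]
  exact S.el_inj.eq_iff

theorem Crd.ei_eq_iff {a b : G} (ha : a ∈ H.C) (hb : b ∈ H.C) : S.ei a = S.ei b ↔ a⁻¹ * b ∈ H.Q := by
  rw [← H.img_eq_iff ha hb]
  exact S.el_inj.eq_iff

theorem Crd.ei_mem (a : G) : S.ei a ∈ elsK k := S.el_mem _

theorem Crd.exists_ei {e : El} (he : e ∈ elsK k) : ∃ c ∈ H.C, S.ei c = e := by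
  obtain ⟨γ, hγ⟩ := S.el_surj e he
  obtain ⟨c, hc, hcγ⟩ := H.exists_img γ
  exact ⟨c, hc, by rw [Crd.ei, hcγ, hγ]⟩

theorem Crd.ei_comm {a b : G} (ha : a ∈ H.C) (hb : b ∈ H.C) (h : Commute a b) :
    mulE (S.ei a) (S.ei b) = mulE (S.ei b) (S.ei a) := by
  rw [← S.ei_mul ha hb, ← S.ei_mul hb ha, h.eq]

theorem Crd.ei_mul_mem {a q : G} (ha : a ∈ H.C) (hq : q ∈ H.Q) : S.ei (a * q) = S.ei a := by
  rw [Crd.ei, H.img_mul ha (H.Q_le hq), H.img_of_mem hq, mul_one]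
  rfl

theorem Crd.vec_one : S.vec 1 = 0 := (S.vec_zero 1 (one_mem _)).2 (Or.inl rfl)

theorem Crd.vec_z : S.vec H.z = 0 := (S.vec_zero _ H.z_mem).2 (Or.inr rfl)

theorem Crd.vec_inv {a : G} (ha : a ∈ H.Q) : S.vec a⁻¹ = S.vec a := by
  have h := S.vec_mul a ha a⁻¹ (inv_mem ha)
  rw [mul_inv_cancel, S.vec_one] at h
  exact (Nat.xor_eq_zero_iff.1 h.symm).symm

theorem Crd.vec_eq {a b : G} (ha : a ∈ H.Q) (hb : b ∈ H.Q) (h : S.vec a = S.vec b) : b = a ∨ b = a * H.z := by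
  have h1 : S.vec (a⁻¹ * b) = 0 := by rw [S.vec_mul _ (inv_mem ha) _ hb, S.vec_inv ha, h, Nat.xor_self]
  rcases (S.vec_zero _ (mul_mem (inv_mem ha) hb)).1 h1 with e | e
  · exact Or.inl (inv_mul_eq_one.1 e).symm
  · exact Or.inr (inv_mul_eq_iff_eq_mul.1 e)

theorem Crd.vec_conj' {c a : G} (hc : c ∈ H.C) (ha : a ∈ H.Q) (h : Commute c a) :
    gm (S.ei c) (S.vec a) = S.vec a := by
  rw [Crd.ei, ← S.vec_conj c hc a ha, h.eq, mul_inv_cancel_right]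

theorem Crd.no128 (S : Crd k H) : ¬ 128 ∣ Nat.card Γ := fun h => by
  have := h.trans S.card_dvd
  norm_num at this

/-- the coordinates seen from a conjugate of the involution -/
def Crd.move (g : G) : Crd k (H.move g) where
  vec a := S.vec (g⁻¹ * a * g)
  el := S.el
  el_mul := S.el_mul
  el_one := S.el_one
  el_inj := S.el_inj
  el_mem := S.el_mem
  el_surj := S.el_surj
  card_dvd := S.card_dvd
  card_dvd' := S.card_dvd'
  vec_lt a := S.vec_lt _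
  vec_mul a ha b hb := by
    rw [show g⁻¹ * (a * b) * g = g⁻¹ * a * g * (g⁻¹ * b * g) by group]
    exact S.vec_mul _ (H.mem_moveQ.1 ha) _ (H.mem_moveQ.1 hb)
  vec_surj n hn := by
    obtain ⟨a, ha, rfl⟩ := S.vec_surj n hn
    refine ⟨g * a * g⁻¹, H.mem_moveQ.2 ?_, congrArg S.vec (by group)⟩
    rwa [show g⁻¹ * (g * a * g⁻¹) * g = a by group]
  vec_zero a ha := by
    rw [S.vec_zero _ (H.mem_moveQ.1 ha)]
    refine or_congr ⟨fun h => ?_, fun h => ?_⟩ ⟨fun h => ?_, fun h => ?_⟩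
    · rw [show a = g * (g⁻¹ * a * g) * g⁻¹ by group, h, mul_one, mul_inv_cancel]
    · rw [h, mul_one, inv_mul_cancel]
    · rw [show a = g * (g⁻¹ * a * g) * g⁻¹ by group, h]; rfl
    · rw [h, H.move_z]; group
  vec_q a ha := by
    rw [S.vec_q _ (H.mem_moveQ.1 ha),
      show g⁻¹ * a * g * (g⁻¹ * a * g) = g⁻¹ * (a * a) * g by group]
    constructor
    · intro h
      rw [show a * a = g * (g⁻¹ * (a * a) * g) * g⁻¹ by group, h, mul_one, mul_inv_cancel]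
    · intro h
      rw [h, mul_one, inv_mul_cancel]
  vec_b a ha b hb := by
    rw [S.vec_b _ (H.mem_moveQ.1 ha) _ (H.mem_moveQ.1 hb)]
    refine (Commute.conj_iff g).symm.trans ?_
    rw [show g * (g⁻¹ * a * g) * g⁻¹ = a by group, show g * (g⁻¹ * b * g) * g⁻¹ = b by group]
  vec_conj c hc a ha := by
    have hm : g⁻¹ * c * g ∈ H.C := by
      rw [H.mem_C]
      refine (Commute.conj_iff g).1 ?_
      rw [show g * (g⁻¹ * c * g) * g⁻¹ = c by group]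
      exact (H.move g).mem_C.1 hc
    rw [H.move_img hc, ← S.vec_conj _ hm _ (H.mem_moveQ.1 ha)]
    exact congrArg S.vec (by group)

end Cfsg.Agent.Spor.XS
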