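import Cfsg.Agent.Lib.Spor.ExtraS3A6.Elts

/-!
Finite facts: stabilisers of singular vectors.
-/

set_option autoImplicit false

namespace Cfsg.Agent.Spor.XS.Model

theorem good_one : ∀ k : Fin 3, k = 1 ∨ ((good k 1).all fun r => (good1 k).contains r) = true := by
  decide +kernel

theorem good_one_len : ∀ k : Fin 3, (good1 k).length = 7 := by decide +kernel

theorem good_span : ∀ k : Fin 3, k = 1 ∨ ([6, 10, 16].all fun b => (good1 k).any fun r =>
    (List.range 256).any fun p => !bN p 1 && (gm r p ^^^ p == b)) = true := by
  decide +kernel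

theorem X_one_span : ((List.range 256).all fun x => inX 1 x ==
    ([0, 1, 6, 7, 10, 11, 12, 13, 16, 17, 22, 23, 26, 27, 28, 29].contains x)) = true := by
  decide +kernel

theorem pure_orbit : ∀ k : Fin 3, k = 1 ∨ ((List.range 256).all fun v => v == 0 || qN v || !pure v ||
    (elsK k).any fun e => gm e v == 1 && (List.range 256).all fun x => inX v x == inX 1 (gm e x)) = true := by
  decide +kernel

theorem mixed_orbit : ∀ k : Fin 3, k = 1 ∨ ((List.range 256).all fun v => v == 0 || qN v || pure v ||
    (elsK k).any fun e => gm e v == 22) = true := by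
  decide +kernel

theorem good_mixed : ∀ k : Fin 3, k = 1 ∨ (good k 22).length ≤ 6 := by decide +kernel

theorem coset_fixed : ∀ k : Fin 3, k = 1 ∨
    ((stab k 1).all fun e => inX 1 (gm e 4 ^^^ 4)) = true := by
  decide +kernel

theorem centre_stab : ∀ k : Fin 3, k = 1 ∨ ((elsK k).all fun r => r == oneE ||
    mulE r r != oneE || gm r 1 != 1 || !((stab k 1).all fun e => mulE r e == mulE e r) ||
    r == (if k = 0 then xA else xR)) = true := by
  decide +kernel

theorem base_pairs : ((List.range 256).all fun r => r == 0 || qN r || !pure r || bN 1 r || inX 1 r ||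
    !pure (1 ^^^ r) || (inX 1 (r ^^^ 4) &&
      (List.range 32).any fun c => (List.range 32).any fun d => c != 0 && d != 0 && !qN c && !qN d && pure c &&
        pure d && inX 1 c && inX r c && inX 1 d && inX r d && !inX c d)) = true := by
  decide +kernel

/-- the three vectors of the line `U ⊗ a` -/
def lineS : List ℕ := [1, 16, 17]

theorem badS_ok : (lineS.all fun v => (good 1 v).all fun r => (badS v).contains r ||
    lineS.any fun w => w != v && (List.range 256).any fun p => !bN p v && (gm r p ^^^ p == w)) = true := by
  decide +kernel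

theorem badS_small : (lineS.all fun v => decide (((badS v).filter fun r =>
    decide (8 ≤ (badS v).countP fun s => (badS v).contains (mulE r s))).length ≤ 2)) = true := by
  decide +kernel

theorem code_lists : ∀ p : Equiv.Perm (Fin 6), (parL (List.ofFn fun i => (p i : ℕ)) = true) ↔
    Equiv.Perm.sign p = -1 := by
  decide +kernel

theorem code_lists3 : ∀ p : Equiv.Perm (Fin 3), (parL (List.ofFn fun i => (p i : ℕ)) = true) ↔
    Equiv.Perm.sign p = -1 := by
  decide +kernel

theorem els_mem : ∀ (s : Equiv.Perm (Fin 3)), (List.ofFn fun i => (s i : ℕ)) ∈ lists 3 3 := by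
  decide +kernel

theorem els_mem6 : ∀ (p : Equiv.Perm (Fin 6)), (List.ofFn fun i => (p i : ℕ)) ∈ lists 6 6 := by
  decide +kernel

end Cfsg.Agent.Spor.XS.Model
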