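import Cfsg.Agent.Lib.Spor.ExtraS3A6.Decomp.Frame
import Cfsg.Agent.Lib.Spor.ExtraS3A6.BridgeFacts
import Cfsg.Agent.Lib.Spor.ExtraS3A6.Crd
import Cfsg.Agent.Lib.Spor.ExtraS3A6.FactsStab

/-!
From the coordinates of the decomposition to the packed model.
-/

set_option autoImplicit false
set_option maxRecDepth 100000
set_option linter.style.haveILetI false
set_option linter.unusedSectionVars false

namespace Cfsg.Agent.Spor.XS.Bridge

open Model
open ExtraS3A6 (Pm W qW mact kact dact pact pm)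

theorem mulL_ofFn {n : ℕ} (p r : Equiv.Perm (Fin n)) :
    mulL (List.ofFn fun i => (p i : ℕ)) (List.ofFn fun i => (r i : ℕ)) = List.ofFn fun i => ((p * r) i : ℕ) := by
  refine List.ext_getElem (by simp [mulL]) fun i h1 h2 => ?_
  simp only [mulL, List.getElem_map, List.getElem_ofFn, Equiv.Perm.mul_apply]
  rw [List.getD_eq_getElem _ _ (by simp), List.getElem_ofFn]

theorem code_mul (x y : P36) : code (x * y) = mulE (code x) (code y) :=
  Prod.ext (mulL_ofFn x.1 y.1).symm (mulL_ofFn x.2 y.2).symm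

theorem code_inj : Function.Injective code := fun x y h => by
  refine Prod.ext (Equiv.ext fun i => ?_) (Equiv.ext fun i => ?_)
  · have e : (List.ofFn fun i => (x.1 i : ℕ)) = List.ofFn fun i => (y.1 i : ℕ) := congrArg Prod.fst h
    exact Fin.ext (congrFun (List.ofFn_injective e) i)
  · have e : (List.ofFn fun i => (x.2 i : ℕ)) = List.ofFn fun i => (y.2 i : ℕ) := congrArg Prod.snd h
    exact Fin.ext (congrFun (List.ofFn_injective e) i)

theorem code_mem (x : P36) : code x ∈ els := by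
  simp only [els, List.mem_flatMap, List.mem_map]
  exact ⟨_, els_mem x.1, _, els_mem6 x.2, rfl⟩

theorem lists_perm {n : ℕ} (hlen : (lists n n).length = Nat.factorial n)
    (hmem : ∀ p : Equiv.Perm (Fin n), (List.ofFn fun i => (p i : ℕ)) ∈ lists n n) {l : List ℕ} (hl : l ∈ lists n n) :
    ∃ p : Equiv.Perm (Fin n), (List.ofFn fun i => (p i : ℕ)) = l := by
  classical
  have hinj : Function.Injective fun p : Equiv.Perm (Fin n) => List.ofFn fun i => (p i : ℕ) := fun p r h =>
    Equiv.ext fun i => Fin.ext (congrFun (List.ofFn_injective h) i)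
  have he : Finset.univ.image (fun p : Equiv.Perm (Fin n) => List.ofFn fun i => (p i : ℕ)) = (lists n n).toFinset := by
    refine Finset.eq_of_subset_of_card_le (fun l hl => ?_) ?_
    · obtain ⟨p, -, rfl⟩ := Finset.mem_image.1 hl
      exact List.mem_toFinset.2 (hmem p)
    · rw [Finset.card_image_of_injective _ hinj, Finset.card_univ, Fintype.card_perm, Fintype.card_fin, ← hlen]
      exact List.toFinset_card_le _
  obtain ⟨p, -, hp⟩ := Finset.mem_image.1 (he ▸ List.mem_toFinset.2 hl)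
  exact ⟨p, hp⟩

theorem code_surj {e : El} (he : e ∈ els) : ∃ x : P36, code x = e := by
  simp only [els, List.mem_flatMap, List.mem_map] at he
  obtain ⟨s, hs, p, hp, rfl⟩ := he
  obtain ⟨σ, rfl⟩ := lists_perm (by rw [lists_len3]; rfl) els_mem hs
  obtain ⟨π, rfl⟩ := lists_perm (by rw [lists_len6]; rfl) els_mem6 hp
  exact ⟨(σ, π), rfl⟩

theorem pk_lt (z : W) : pk z < 256 := by
  have h1 := pk4_lt z.1
  have h2 := pk4_lt z.2
  rw [pk]
  omega

theorem pk_mod (z : W) : pk z % 16 = pk4 z.1 := by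
  have h1 := pk4_lt z.1
  rw [pk]
  omega

theorem pk_div (z : W) : pk z / 16 = pk4 z.2 := by
  have h1 := pk4_lt z.1
  rw [pk]
  omega

theorem pk_add (z w : W) : pk (z + w) = pk z ^^^ pk w := by
  refine ((Nat.mod_add_div _ 16).symm.trans ?_).trans (Nat.mod_add_div _ 16)
  rw [show (16 : ℕ) = 2 ^ 4 from rfl, Nat.xor_mod_two_pow, Nat.xor_div_two_pow, show (2 : ℕ) ^ 4 = 16 from rfl,
    pk_mod, pk_mod, pk_mod, pk_div, pk_div, pk_div, Prod.fst_add, Prod.snd_add, pk4_add, pk4_add]

theorem pk_inj : Function.Injective pk := fun z w h => by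
  refine Prod.ext ?_ ?_
  · rw [← unpk4_pk4 z.1, ← pk_mod, h, pk_mod, unpk4_pk4]
  · rw [← unpk4_pk4 z.2, ← pk_div, h, pk_div, unpk4_pk4]

theorem pk_surj {n : ℕ} (hn : n < 256) : ∃ z : W, pk z = n := by
  refine ⟨(unpk4 (n % 16), unpk4 (n / 16)), ?_⟩
  have h1 := pk4_unpk4 ⟨n % 16, by omega⟩
  have h2 := pk4_unpk4 ⟨n / 16, by omega⟩
  rw [pk]
  simp only at h1 h2
  rw [h1, h2]
  omega

theorem gm_code (x : P36) (z : W) : gm (code x) (pk z) = pk (kact x z) := by
  rw [gm, pk_mod, pk_div, kact]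
  show mactN (List.ofFn fun i => (x.1 i : ℕ)) (pactN (List.ofFn fun i => (x.2 i : ℕ)) (pk4 z.1))
    (pactN (List.ofFn fun i => (x.2 i : ℕ)) (pk4 z.2)) = _
  rw [pactN_code, pactN_code]
  exact mactN_code x.1 (dact x.2 z)

/-- the three quotients -/
theorem kind_cases {K : Subgroup P36} (hK : Kind K) :
    ∃ k : Fin 3, (∀ x : P36, x ∈ K ↔ inK k (code x) = true) ∧ (k ≠ 1 → Nat.card K ∣ 2160) := by
  have hs : ∀ u : ℤˣ, u = 1 ∨ u = -1 := Int.units_eq_one_or
  have h2 : ∀ x : P36, parL (code x).2 = true ↔ Equiv.Perm.sign x.2 = -1 := fun x => code_lists x.2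
  have h1 : ∀ x : P36, parL (code x).1 = true ↔ Equiv.Perm.sign x.1 = -1 := fun x => code_lists3 x.1
  -- an element is determined by its signs
  have hmove : ∀ {x y : P36}, y ∈ K → Equiv.Perm.sign y.1 = Equiv.Perm.sign x.1 →
      Equiv.Perm.sign y.2 = Equiv.Perm.sign x.2 → x ∈ K := by
    intro x y hy e1 e2
    have h : y⁻¹ * x ∈ K := hK.even _ (by simp [e1]) (by simp [e2])
    rw [show x = y * (y⁻¹ * x) by group]
    exact K.mul_mem hy h
  have hcard : Nat.card P36 = 4320 := by
    rw [Nat.card_prod, Nat.card_perm, Nat.card_perm, Nat.card_fin, Nat.card_fin]; rfl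
  have hker : ∀ χ : P36 →* ℤˣ, (∀ x, x ∈ K ↔ χ x = 1) → (∃ x, χ x = -1) → Nat.card K ∣ 2160 := by
    intro χ hχ hne
    have hK' : K = χ.ker := by
      ext x
      rw [MonoidHom.mem_ker]
      exact hχ x
    have hsur : Function.Surjective χ := fun u => by
      rcases hs u with rfl | rfl
      exacts [⟨1, map_one χ⟩, hne]
    have h := χ.ker.card_mul_index
    rw [Subgroup.index_ker, MonoidHom.range_eq_top.2 hsur, Subgroup.card_top, hcard,
      show Nat.card ℤˣ = 2 by rw [Nat.card_eq_fintype_card]; rfl] at h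
    exact ⟨1, by rw [hK', mul_one]; omega⟩
  obtain ⟨y, hy, hy1⟩ := hK.odd
  by_cases c0 : ∀ x ∈ K, Equiv.Perm.sign x.2 = 1
  · refine ⟨0, fun x => ?_, fun _ => ?_⟩
    · have hk : inK 0 (code x) = !parL (code x).2 := if_pos rfl
      rw [hk]
      constructor
      · intro hx
        rcases Bool.eq_false_or_eq_true (parL (code x).2) with e | e
        · rw [h2 x, c0 x hx] at e
          exact absurd e (by decide)
        · rw [e]; rfl
      · intro hx
        have hx2 : Equiv.Perm.sign x.2 = 1 := (hs _).resolve_right fun e => by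
          rw [(h2 x).2 e] at hx; exact absurd hx (by decide)
        rcases hs (Equiv.Perm.sign x.1) with e | e
        · exact hK.even x e hx2
        · exact hmove hy (hy1.trans e.symm) ((c0 y hy).trans hx2.symm)
    · refine hker (Equiv.Perm.sign.comp (MonoidHom.snd _ _)) (fun x => ?_)
        ⟨((1 : Equiv.Perm (Fin 3)), Equiv.swap (0 : Fin 6) 1), ?_⟩
      · rw [MonoidHom.comp_apply, MonoidHom.coe_snd]
        constructor
        · exact c0 x
        · intro hx
          rcases hs (Equiv.Perm.sign x.1) with e | e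
          · exact hK.even x e hx
          · exact hmove hy (hy1.trans e.symm) ((c0 y hy).trans hx.symm)
      · rw [MonoidHom.comp_apply, MonoidHom.coe_snd]
        exact Equiv.Perm.sign_swap (by decide)
  push Not at c0
  obtain ⟨w, hw, hw2⟩ := c0
  replace hw2 : Equiv.Perm.sign w.2 = -1 := (hs _).resolve_left hw2
  by_cases c2 : ∀ x ∈ K, Equiv.Perm.sign x.1 = Equiv.Perm.sign x.2
  · have hmem : ∀ x : P36, x ∈ K ↔ Equiv.Perm.sign x.1 = Equiv.Perm.sign x.2 := by
      refine fun x => ⟨c2 x, fun hx => ?_⟩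
      rcases hs (Equiv.Perm.sign x.1) with e | e
      · exact hK.even x e (hx ▸ e)
      · exact hmove hy (hy1.trans e.symm) (((c2 y hy).symm.trans hy1).trans (hx ▸ e).symm)
    refine ⟨2, fun x => ?_, fun _ => ?_⟩
    · have hk : inK 2 (code x) = (parL (code x).1 == parL (code x).2) := by
        rw [inK, if_neg (by decide), if_neg (by decide)]
      rw [hk, hmem, beq_iff_eq, Bool.eq_iff_iff, h1, h2]
      constructor
      · intro e; rw [e]
      · intro e
        rcases hs (Equiv.Perm.sign x.2) with e2 | e2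
        · rw [e2]; exact (hs _).resolve_right fun e1 => absurd ((e.1 e1).symm.trans e2) (by decide)
        · rw [e2]; exact e.2 e2
    · refine hker (Equiv.Perm.sign.comp (MonoidHom.fst _ _) * Equiv.Perm.sign.comp (MonoidHom.snd _ _))
        (fun x => ?_) ⟨((1 : Equiv.Perm (Fin 3)), Equiv.swap (0 : Fin 6) 1), ?_⟩
      · rw [hmem]
        show _ ↔ Equiv.Perm.sign x.1 * Equiv.Perm.sign x.2 = 1
        rcases hs (Equiv.Perm.sign x.1) with e | e <;> rcases hs (Equiv.Perm.sign x.2) with e' | e' <;>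
          rw [e, e'] <;> decide
      · show Equiv.Perm.sign (1 : Equiv.Perm (Fin 3)) * Equiv.Perm.sign (Equiv.swap (0 : Fin 6) 1) = -1
        rw [map_one, one_mul, Equiv.Perm.sign_swap (by decide)]
  -- everything
  refine ⟨1, fun x => ⟨fun _ => by rw [inK, if_neg (by decide), if_pos rfl], fun _ => ?_⟩, fun h => absurd rfl h⟩
  push Not at c2
  obtain ⟨v, hv, hv12⟩ := c2
  obtain ⟨a, ha, ha1, ha2⟩ : ∃ a ∈ K, Equiv.Perm.sign a.1 = -1 ∧ Equiv.Perm.sign a.2 = 1 := by
    rcases hs (Equiv.Perm.sign y.2) with e | e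
    · exact ⟨y, hy, hy1, e⟩
    rcases hs (Equiv.Perm.sign v.1) with e1 | e1
    · exact ⟨y * v, K.mul_mem hy hv, by simp [hy1, e1],
        by simp [e, (hs (Equiv.Perm.sign v.2)).resolve_left fun e2 => hv12 (e1.trans e2.symm)]⟩
    · exact ⟨v, hv, e1, (hs _).resolve_right fun e2 => hv12 (e1.trans e2.symm)⟩
  obtain ⟨b, hb, hb1, hb2⟩ : ∃ b ∈ K, Equiv.Perm.sign b.1 = 1 ∧ Equiv.Perm.sign b.2 = -1 := by
    rcases hs (Equiv.Perm.sign w.1) with e | e
    · exact ⟨w, hw, e, hw2⟩
    · exact ⟨a * w, K.mul_mem ha hw, by simp [ha1, e], by simp [ha2, hw2]⟩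
  rcases hs (Equiv.Perm.sign x.1) with e1 | e1 <;> rcases hs (Equiv.Perm.sign x.2) with e2 | e2
  · exact hK.even x e1 e2
  · exact hmove hb (hb1.trans e1.symm) (hb2.trans e2.symm)
  · exact hmove ha (ha1.trans e1.symm) (ha2.trans e2.symm)
  · exact hmove (K.mul_mem ha hb) (by simp [ha1, hb1, e1]) (by simp [ha2, hb2, e2])

universe u

open scoped _root_.Classical in
/-- coordinates in the packed model -/
theorem exists_crd {G : Type u} [Group G] [Finite G] {K : Subgroup P36} (hK : Kind K) (H : Hyp G ↥K)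
    (hfpf : ∀ v, H.gam (tauK hK) v = v → v = 1) : ∃ k : Fin 3, Nonempty (Crd k H) := by
  obtain ⟨K', hK', ν, e, hbij, hadd, hq, hgam⟩ := H.alpha_coords hK hfpf
  obtain ⟨k, hmem, hdvd⟩ := kind_cases hK'
  have hcK : Nat.card ↥K = Nat.card ↥K' := Nat.card_congr ν.toEquiv
  have he1 : e 1 = 0 := by
    have h := hadd 1 1
    rw [mul_one] at h
    exact left_eq_add.mp h
  let vec : G → ℕ := fun a => if h : a ∈ H.Q then pk (e (H.mkV ⟨a, h⟩)) else 0
  have hvec : ∀ a (h : a ∈ H.Q), vec a = pk (e (H.mkV ⟨a, h⟩)) := fun a h => dif_pos h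
  have hmul : ∀ a ∈ H.Q, ∀ b ∈ H.Q, vec (a * b) = vec a ^^^ vec b := fun a ha b hb => by
    rw [hvec _ (mul_mem ha hb), hvec _ ha, hvec _ hb, ← pk_add, ← hadd, ← map_mul]
    rfl
  have hz : ∀ s : ZMod 2, (decide (s = 1) = false) ↔ s = 0 := by decide
  refine ⟨k, ⟨{
    vec := vec
    el := fun γ => code (ν γ : P36)
    el_mul := fun γ δ => by rw [map_mul, Subgroup.coe_mul, code_mul]
    el_one := by rw [map_one, Subgroup.coe_one, code_one]
    el_inj := fun γ δ h => ν.injective (Subtype.ext (code_inj h))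
    el_mem := fun γ => List.mem_filter.2 ⟨code_mem _, (hmem _).1 (ν γ).2⟩
    el_surj := fun d hd => by
      obtain ⟨hd1, hd2⟩ := List.mem_filter.1 hd
      obtain ⟨x, rfl⟩ := code_surj hd1
      exact ⟨ν.symm ⟨x, (hmem x).2 hd2⟩, by rw [ν.apply_symm_apply]⟩
    card_dvd := by
      refine (Subgroup.card_subgroup_dvd_card K).trans (dvd_of_eq ?_)
      rw [Nat.card_prod, Nat.card_perm, Nat.card_perm, Nat.card_fin, Nat.card_fin]; rfl
    card_dvd' := fun h => hcK ▸ hdvd h
    vec_lt := fun a => by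
      by_cases h : a ∈ H.Q
      · rw [hvec _ h]; exact pk_lt _
      · show dite _ _ _ < 256
        rw [dif_neg h]; norm_num
    vec_mul := hmul
    vec_surj := fun n hn => by
      obtain ⟨z, rfl⟩ := pk_surj hn
      obtain ⟨v, rfl⟩ := hbij.2 z
      obtain ⟨a, rfl⟩ := H.mkV_surj v
      exact ⟨a, a.2, hvec _ a.2⟩
    vec_zero := fun a ha => by
      rw [hvec _ ha]
      refine Iff.trans ?_ (H.mkV_eq_one_iff (a := ⟨a, ha⟩))
      constructor
      · intro h
        refine hbij.1 ?_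
        rw [he1]
        exact pk_inj (h.trans (by decide))
      · intro h; rw [h, he1]; decide
    vec_q := fun a ha => by
      rw [hvec _ ha, qN_pk, show qW (e (H.mkV ⟨a, ha⟩)) = H.qf a from (hq _).symm.trans (H.qv_mk _), hz]
      exact H.qf_eq_zero
    vec_b := fun a ha b hb => by
      rw [bN, ← hmul a ha b hb, hvec _ (mul_mem ha hb), hvec _ ha, hvec _ hb, qN_pk, qN_pk, qN_pk]
      have hh : ∀ c (hc : c ∈ H.Q), qW (e (H.mkV ⟨c, hc⟩)) = H.qf c := fun c hc => (hq _).symm.trans (H.qv_mk _)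
      rw [hh, hh, hh, H.qf_mul ha hb, ← H.kap_eq_zero]
      generalize H.qf a = p, H.qf b = r, H.kap a b = s
      revert p r s
      decide
    vec_conj := fun c hc a ha => by
      rw [hvec _ (H.conj_mem hc ha), hvec _ ha, gm_code, ← hgam, H.img_def hc, H.gam_π]
      rfl }⟩⟩

end Cfsg.Agent.Spor.XS.Bridge
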