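import Cfsg.Agent.Lib.Spor.ExtraS3A6.Kind
import Cfsg.Agent.Lib.Solv.Component
import Cfsg.Agent.Lib.Solv.Cores

/-!
From the hypotheses of the statements to the setting.
-/

set_option autoImplicit false
set_option linter.style.haveILetI false

namespace Cfsg.Agent.Spor.XS

universe u

/-- `S₃ × A₆` -/
def KA : Subgroup P36 := (⊤ : Subgroup (Equiv.Perm (Fin 3))).prod (alternatingGroup (Fin 6))

theorem kind_KA : Kind KA := by
  refine ⟨fun x _ h2 => ⟨Subgroup.mem_top _, Equiv.Perm.mem_alternatingGroup.2 h2⟩,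
    (Equiv.swap 0 1, 1), ⟨Subgroup.mem_top _, one_mem _⟩, Equiv.Perm.sign_swap (by decide)⟩

theorem kind_top : Kind (⊤ : Subgroup P36) :=
  ⟨fun _ _ _ => Subgroup.mem_top _, (Equiv.swap 0 1, 1), Subgroup.mem_top _, Equiv.Perm.sign_swap (by decide)⟩

/-- equal signs -/
abbrev KE : Subgroup P36 :=
  MonoidHom.ker (Equiv.Perm.sign.comp (MonoidHom.fst (Equiv.Perm (Fin 3)) (Equiv.Perm (Fin 6))) *
    Equiv.Perm.sign.comp (MonoidHom.snd (Equiv.Perm (Fin 3)) (Equiv.Perm (Fin 6))))

theorem kind_KE : Kind KE := by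
  refine ⟨fun x h1 h2 => ?_, (Equiv.swap 0 1, Equiv.swap 0 1), ?_, Equiv.Perm.sign_swap (by decide)⟩
  · show Equiv.Perm.sign x.1 * Equiv.Perm.sign x.2 = 1
    rw [h1, h2, mul_one]
  · show Equiv.Perm.sign (Equiv.swap (0 : Fin 3) 1) * Equiv.Perm.sign (Equiv.swap (0 : Fin 6) 1) = 1
    rw [Equiv.Perm.sign_swap (by decide), Equiv.Perm.sign_swap (by decide)]
    decide

/-- the setting, and that the group is not abelian -/
theorem reduce {G : Type u} [Group G] [Finite G] [IsSimpleGroup G] (z : G) (hz : orderOf z = 2)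
    (P : Subgroup ↥(Subgroup.centralizer ({z} : Set G))) [P.Normal]
    (hQ : Cfsg.IsExtraspecial 2 ↥P) (hQ9 : Nat.card ↥P = 2 ^ 9)
    (hcc : Subgroup.centralizer (P : Set ↥(Subgroup.centralizer ({z} : Set G))) ≤ P)
    {K : Subgroup P36} (hK : Kind K) (e : (↥(Subgroup.centralizer ({z} : Set G)) ⧸ P) ≃* ↥K) :
    ¬ IsMulCommutative G ∧ Nonempty (Hyp G ↥K) := by
  refine ⟨fun hc => ?_, ?_⟩
  · have hmap : (P.map (Subgroup.centralizer ({z} : Set G)).subtype).Normal :=
      ⟨fun n hn g => by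
        rwa [hc.is_comm.comm g n, mul_inv_cancel_right]⟩
    have hC : Subgroup.centralizer ({z} : Set G) = ⊤ := by
      rw [eq_top_iff]
      exact fun g _ => Subgroup.mem_centralizer_singleton_iff.2 (hc.is_comm.comm g z)
    rcases IsSimpleGroup.eq_bot_or_eq_top_of_normal _ hmap with h | h
    · have h1 := Subgroup.card_map_of_injective (K := P) (Subgroup.centralizer ({z} : Set G)).subtype_injective
      rw [h, Subgroup.card_bot, hQ9] at h1
      norm_num at h1
    · have hP : P = ⊤ := by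
        refine Subgroup.map_injective (Subgroup.subtype_injective _) ?_
        rw [h, ← MonoidHom.range_eq_map, Subgroup.range_subtype, hC]
      haveI : Subsingleton ↥K :=
        (e.symm.toEquiv.subsingleton_congr).2 (QuotientGroup.subsingleton_iff.2 hP)
      exact tauK_ne hK (Subsingleton.elim _ _)
  · obtain ⟨H, -, -⟩ := exists_hyp z hz P hQ hQ9 hcc e
    exact ⟨H⟩

end Cfsg.Agent.Spor.XS
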