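import Cfsg.Agent.Lib.Spor.ExtraS3A6.Pair
import Cfsg.Agent.Lib.Spor.ExtraS3A6.Bridge
import Cfsg.Agent.Lib.Spor.ExtraS3A6.Decomp.Frame
import Cfsg.Agent.Lib.Spor.ExtraS3A6.Reduce

/-!
No simple group has such a centralizer, given the middle quotient.
-/

set_option autoImplicit false
set_option linter.style.haveILetI false

namespace Cfsg.Agent.Spor.XS

universe u

theorem main_of {G : Type u} [Group G] [Finite G] [IsSimpleGroup G] (hG : ¬ IsMulCommutative G)
    {K : Subgroup P36} (hK : Kind K) (H : Hyp G ↥K) (hS : Crd 1 H → False) : False := by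
  by_cases hfix : ∃ v : H.Vq, v ≠ 1 ∧ H.gam (tauK hK) v = v
  · obtain ⟨n, hn, hnK, h64⟩ := H.beta_fixed hK hfix
    exact beta_end hG hK H n hn hnK h64
  · push Not at hfix
    obtain ⟨k, ⟨S⟩⟩ := Bridge.exists_crd hK H fun v hv => by
      by_contra hne
      exact hfix v hne hv
    by_cases hk : k = 1
    · subst hk
      exact hS S
    · exact alpha_outer S hG hk

end Cfsg.Agent.Spor.XS
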