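import Cfsg.Agent.Lib.Solv.ExtraspecialTwo
import Cfsg.Agent.Lib.Spor.LargeExtraspecial

/-!
An involution whose centraliser is an extension of an extraspecial group of order `2 ^ 9`, containing its
own centraliser, by a given finite group: the setting, the bit calculus and the change of base point.
-/

set_option autoImplicit false
set_option linter.style.haveILetI false
set_option linter.unusedSectionVars false

namespace Cfsg.Agent.Spor.XS

open Solv.ExtTwo

universe u v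

/-- The setting. -/
structure Hyp (G : Type u) [Group G] (Γ : Type v) [Group Γ] where
  z : G
  Q : Subgroup G
  π : ↥(Subgroup.centralizer ({z} : Set G)) →* Γ
  z_sq : z * z = 1
  z_ne : z ≠ 1
  Q_le : Q ≤ Subgroup.centralizer ({z} : Set G)
  z_mem : z ∈ Q
  Q_card : Nat.card Q = 512
  ext : Ext2 ↥Q ⟨z, z_mem⟩
  π_surj : Function.Surjective π
  π_ker : ∀ c, π c = 1 ↔ (c : G) ∈ Q
  self_cent : ∀ g : G, (∀ q ∈ Q, g * q = q * g) → g = 1 ∨ g = z
  trivial_mem : ∀ g : G, Commute g z → (∀ q ∈ Q, g * q * g⁻¹ = q ∨ g * q * g⁻¹ = q * z) → g ∈ Q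

variable {G : Type u} [Group G] {Γ : Type v} [Group Γ] (H : Hyp G Γ)

/-- the centralizer -/
abbrev Hyp.C : Subgroup G := Subgroup.centralizer ({H.z} : Set G)

theorem Hyp.mem_C {g : G} : g ∈ H.C ↔ Commute g H.z := Subgroup.mem_centralizer_singleton_iff

theorem Hyp.z_mem_C : H.z ∈ H.C := H.Q_le H.z_mem

theorem Hyp.z_inv : H.z⁻¹ = H.z := inv_eq_of_mul_eq_one_right H.z_sq

theorem Hyp.comm_z {q : G} (hq : q ∈ H.Q) : Commute q H.z := H.mem_C.1 (H.Q_le hq)

theorem Hyp.sq_mem {q : G} (hq : q ∈ H.Q) : q * q = 1 ∨ q * q = H.z := by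
  rcases H.ext.sq ⟨q, hq⟩ with h | h
  · exact Or.inl (congrArg Subtype.val h)
  · exact Or.inr (congrArg Subtype.val h)

theorem Hyp.comm_mem {a b : G} (ha : a ∈ H.Q) (hb : b ∈ H.Q) :
    b * a = a * b ∨ b * a = a * b * H.z := by
  rcases H.ext.comm ⟨a, ha⟩ ⟨b, hb⟩ with h | h
  · exact Or.inl (congrArg Subtype.val h)
  · exact Or.inr (congrArg Subtype.val h)

theorem Hyp.eq_of_central {a : G} (ha : a ∈ H.Q) (h : ∀ b ∈ H.Q, Commute a b) : a = 1 ∨ a = H.z :=
  (H.self_cent a fun b hb => (h b hb).eq)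

/-- the image of an element of the centralizer -/
noncomputable def Hyp.img (g : G) : Γ := by
  classical exact if h : g ∈ H.C then H.π ⟨g, h⟩ else 1

theorem Hyp.img_def {g : G} (h : g ∈ H.C) : H.img g = H.π ⟨g, h⟩ := dif_pos h

theorem Hyp.img_mul {a b : G} (ha : a ∈ H.C) (hb : b ∈ H.C) : H.img (a * b) = H.img a * H.img b := by
  rw [H.img_def ha, H.img_def hb, H.img_def (mul_mem ha hb), ← map_mul]
  rfl

theorem Hyp.img_inv {a : G} (ha : a ∈ H.C) : H.img a⁻¹ = (H.img a)⁻¹ := by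
  rw [H.img_def ha, H.img_def (inv_mem ha), ← map_inv]
  rfl

theorem Hyp.img_one : H.img 1 = 1 := by
  rw [H.img_def (one_mem _)]
  exact map_one H.π

theorem Hyp.img_eq_one {a : G} (ha : a ∈ H.C) : H.img a = 1 ↔ a ∈ H.Q := by
  rw [H.img_def ha]
  exact H.π_ker _

theorem Hyp.img_of_mem {a : G} (ha : a ∈ H.Q) : H.img a = 1 := (H.img_eq_one (H.Q_le ha)).2 ha

theorem Hyp.img_eq_iff {a b : G} (ha : a ∈ H.C) (hb : b ∈ H.C) : H.img a = H.img b ↔ a⁻¹ * b ∈ H.Q := by
  rw [← H.img_eq_one (mul_mem (inv_mem ha) hb), H.img_mul (inv_mem ha) hb, H.img_inv ha, inv_mul_eq_one]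

theorem Hyp.img_conj {c a : G} (hc : c ∈ H.C) (ha : a ∈ H.C) :
    H.img (c * a * c⁻¹) = H.img c * H.img a * (H.img c)⁻¹ := by
  rw [H.img_mul (mul_mem hc ha) (inv_mem hc), H.img_mul hc ha, H.img_inv hc]

theorem Hyp.exists_img (γ : Γ) : ∃ g ∈ H.C, H.img g = γ := by
  obtain ⟨c, rfl⟩ := H.π_surj γ
  exact ⟨c, c.2, H.img_def c.2⟩

theorem Hyp.conj_mem {c q : G} (hc : c ∈ H.C) (hq : q ∈ H.Q) : c * q * c⁻¹ ∈ H.Q := by
  rw [← H.img_eq_one (mul_mem (mul_mem hc (H.Q_le hq)) (inv_mem hc)), H.img_conj hc (H.Q_le hq),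
    H.img_of_mem hq, mul_one, mul_inv_cancel]

theorem Hyp.conj_mem' {c q : G} (hc : c ∈ H.C) (hq : q ∈ H.Q) : c⁻¹ * q * c ∈ H.Q := by
  have := H.conj_mem (inv_mem hc) hq
  rwa [inv_inv] at this

theorem Hyp.exists_noncommute {q : G} (hq : q ∈ H.Q) (h1 : q ≠ 1) (hz : q ≠ H.z) :
    ∃ r ∈ H.Q, r * q = q * r * H.z := by
  by_contra hno
  simp only [not_exists, not_and] at hno
  rcases H.eq_of_central hq fun r hr => ((H.comm_mem hq hr).resolve_right (hno r hr)).symm with h | h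
  exacts [h1 h, hz h]

/-! ### Bits -/

open Classical in
/-- the commutator form -/
noncomputable def Hyp.kap (_H : Hyp G Γ) (a b : G) : ZMod 2 := if a * b = b * a then 0 else 1

open Classical in
/-- the squaring form -/
noncomputable def Hyp.qf (_H : Hyp G Γ) (a : G) : ZMod 2 := if a * a = 1 then 0 else 1

/-- the power of the central involution -/
def Hyp.tp (k : ZMod 2) : G := if k = 0 then 1 else H.z

theorem Hyp.tp_zero : H.tp 0 = 1 := if_pos rfl

theorem Hyp.tp_one : H.tp 1 = H.z := if_neg (by decide)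

theorem bit_cases (k : ZMod 2) : k = 0 ∨ k = 1 := by revert k; decide

theorem Hyp.tp_add (k l : ZMod 2) : H.tp (k + l) = H.tp k * H.tp l := by
  rcases bit_cases k with rfl | rfl <;> rcases bit_cases l with rfl | rfl
  · simp [H.tp_zero]
  · simp [H.tp_zero]
  · simp [H.tp_zero]
  · rw [show (1 + 1 : ZMod 2) = 0 from rfl, H.tp_zero, H.tp_one, H.z_sq]

theorem Hyp.tp_inj {k l : ZMod 2} (h : H.tp k = H.tp l) : k = l := by
  rcases bit_cases k with rfl | rfl <;> rcases bit_cases l with rfl | rfl <;>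
    simp_all [H.tp_zero, H.tp_one, H.z_ne, eq_comm]

theorem Hyp.tp_mem (k : ZMod 2) : H.tp k ∈ H.Q := by
  rcases bit_cases k with rfl | rfl
  · rw [H.tp_zero]; exact one_mem _
  · rw [H.tp_one]; exact H.z_mem

theorem Hyp.tp_comm {g : G} (hg : g ∈ H.C) (k : ZMod 2) : Commute g (H.tp k) := by
  rcases bit_cases k with rfl | rfl
  · rw [H.tp_zero]; exact Commute.one_right g
  · rw [H.tp_one]; exact H.mem_C.1 hg

theorem Hyp.tp_comm' {g : G} (hg : g ∈ H.Q) (k : ZMod 2) : Commute g (H.tp k) := H.tp_comm (H.Q_le hg) k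

theorem Hyp.mul_eq {a b : G} (ha : a ∈ H.Q) (hb : b ∈ H.Q) : b * a = a * b * H.tp (H.kap a b) := by
  rw [Hyp.kap]
  split_ifs with h
  · rw [H.tp_zero, mul_one, h]
  · rw [H.tp_one]
    exact (H.comm_mem ha hb).resolve_left fun e => h e.symm

theorem Hyp.sq_eq {a : G} (ha : a ∈ H.Q) : a * a = H.tp (H.qf a) := by
  rw [Hyp.qf]
  split_ifs with h
  · rw [H.tp_zero, h]
  · rw [H.tp_one]
    exact (H.sq_mem ha).resolve_left h

theorem Hyp.kap_eq_zero {a b : G} : H.kap a b = 0 ↔ Commute a b := by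
  rw [Hyp.kap]
  split_ifs with h
  · exact iff_of_true rfl h
  · exact iff_of_false (by decide) h

theorem Hyp.qf_eq_zero {a : G} : H.qf a = 0 ↔ a * a = 1 := by
  rw [Hyp.qf]
  split_ifs with h
  · exact iff_of_true rfl h
  · exact iff_of_false (by decide) h

theorem Hyp.kap_eq {a b : G} (ha : a ∈ H.Q) (hb : b ∈ H.Q) {k : ZMod 2} (h : b * a = a * b * H.tp k) :
    H.kap a b = k :=
  H.tp_inj (mul_left_cancel ((H.mul_eq ha hb).symm.trans h))

theorem Hyp.qf_eq {a : G} (ha : a ∈ H.Q) {k : ZMod 2} (h : a * a = H.tp k) : H.qf a = k :=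
  H.tp_inj ((H.sq_eq ha).symm.trans h)

theorem Hyp.kap_self (a : G) : H.kap a a = 0 := if_pos rfl

theorem Hyp.kap_symm (a b : G) : H.kap a b = H.kap b a := by
  rw [Hyp.kap, Hyp.kap]
  classical exact if_congr ⟨fun h => h.symm, fun h => h.symm⟩ rfl rfl

theorem Hyp.kap_mul_right {a b c : G} (ha : a ∈ H.Q) (hb : b ∈ H.Q) (hc : c ∈ H.Q) :
    H.kap a (b * c) = H.kap a b + H.kap a c := by
  refine H.kap_eq ha (mul_mem hb hc) ?_
  calc b * c * a = b * (c * a) := mul_assoc ..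
    _ = b * (a * c * H.tp (H.kap a c)) := by rw [H.mul_eq ha hc]
    _ = b * a * c * H.tp (H.kap a c) := by simp only [mul_assoc]
    _ = a * b * (H.tp (H.kap a b) * c) * H.tp (H.kap a c) := by rw [H.mul_eq ha hb]; simp only [mul_assoc]
    _ = _ := by rw [← (H.tp_comm' hc _).eq, H.tp_add]; simp only [mul_assoc]

theorem Hyp.kap_mul_left {a b c : G} (ha : a ∈ H.Q) (hb : b ∈ H.Q) (hc : c ∈ H.Q) :
    H.kap (a * b) c = H.kap a c + H.kap b c := by
  rw [H.kap_symm, H.kap_mul_right hc ha hb, H.kap_symm c a, H.kap_symm c b]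

theorem Hyp.kap_tp {a : G} (ha : a ∈ H.Q) (k : ZMod 2) : H.kap a (H.tp k) = 0 :=
  H.kap_eq_zero.2 (H.tp_comm' ha k)

theorem Hyp.qf_mul {a b : G} (ha : a ∈ H.Q) (hb : b ∈ H.Q) : H.qf (a * b) = H.qf a + H.qf b + H.kap a b := by
  refine H.qf_eq (mul_mem ha hb) ?_
  calc a * b * (a * b) = a * (b * a) * b := by simp only [mul_assoc]
    _ = a * a * b * (H.tp (H.kap a b) * b) := by rw [H.mul_eq ha hb]; simp only [mul_assoc]
    _ = a * a * (b * b) * H.tp (H.kap a b) := by rw [← (H.tp_comm' hb _).eq]; simp only [mul_assoc]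
    _ = _ := by rw [H.sq_eq ha, H.sq_eq hb, ← H.tp_add, ← H.tp_add]

theorem Hyp.kap_conj {c a b : G} : H.kap (c * a * c⁻¹) (c * b * c⁻¹) = H.kap a b := by
  rw [Hyp.kap, Hyp.kap]
  classical exact if_congr (Commute.conj_iff c) rfl rfl

theorem Hyp.qf_conj (c a : G) : H.qf (c * a * c⁻¹) = H.qf a := by
  rw [Hyp.qf, Hyp.qf]
  classical exact if_congr (by rw [conj_mul, conj_eq_one_iff]) rfl rfl

/-- the inner automorphism of `Q` given by one of its elements -/
theorem Hyp.conj_eq {a b : G} (ha : a ∈ H.Q) (hb : b ∈ H.Q) : a * b * a⁻¹ = b * H.tp (H.kap a b) := by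
  rw [mul_inv_eq_iff_eq_mul, mul_assoc, ← (H.tp_comm' ha _).eq, ← mul_assoc]
  rw [H.kap_symm]
  exact H.mul_eq hb ha

/-! ### Change of base point -/

/-- the map which moves the centralizer back -/
def unconj (g z : G) :
    ↥(Subgroup.centralizer ({g * z * g⁻¹} : Set G)) →* ↥(Subgroup.centralizer ({z} : Set G)) where
  toFun c := ⟨g⁻¹ * c * g, by
    have h := Subgroup.mem_centralizer_singleton_iff.1 c.2
    rw [Subgroup.mem_centralizer_singleton_iff]
    calc g⁻¹ * (c : G) * g * z = g⁻¹ * ((c : G) * (g * z * g⁻¹)) * g := by group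
      _ = z * (g⁻¹ * c * g) := by rw [h]; group⟩
  map_one' := Subtype.ext (by simp)
  map_mul' a b := Subtype.ext (by simp [mul_assoc])

/-- the setting seen from a conjugate of the involution -/
def Hyp.move (g : G) : Hyp G Γ where
  z := g * H.z * g⁻¹
  Q := H.Q.map (MulAut.conj g).toMonoidHom
  π := H.π.comp (unconj g H.z)
  z_sq := by rw [conj_mul, H.z_sq, mul_one, mul_inv_cancel]
  z_ne h := H.z_ne (conj_eq_one_iff.1 h)
  Q_le := by
    rintro _ ⟨q, hq, rfl⟩
    rw [Subgroup.mem_centralizer_singleton_iff]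
    show g * q * g⁻¹ * (g * H.z * g⁻¹) = g * H.z * g⁻¹ * (g * q * g⁻¹)
    rw [conj_mul, conj_mul, (H.comm_z hq).eq]
  z_mem := ⟨H.z, H.z_mem, rfl⟩
  Q_card := by rw [Subgroup.card_map_of_injective (MulAut.conj g).injective, H.Q_card]
  ext := by
    refine ⟨fun h => H.z_ne ?_, fun a => ?_, fun a ha => ?_, fun a => ?_, fun a b => ?_⟩
    · exact conj_eq_one_iff.1 (congrArg Subtype.val h)
    · obtain ⟨q, hq, e⟩ := a.2
      have e' : g * q * g⁻¹ = (a : G) := e
      refine Subtype.ext ?_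
      show g * H.z * g⁻¹ * (a : G) = (a : G) * (g * H.z * g⁻¹)
      rw [← e', conj_mul, conj_mul, (H.comm_z hq).eq]
    · obtain ⟨q, hq, e⟩ := a.2
      have e' : g * q * g⁻¹ = (a : G) := e
      rcases H.eq_of_central hq fun b hb => (Commute.conj_iff g).1 (by
        rw [e']
        exact congrArg Subtype.val (ha ⟨g * b * g⁻¹, ⟨b, hb, rfl⟩⟩)) with h | h
      · left; exact Subtype.ext (by rw [← e', h, mul_one, mul_inv_cancel]; rfl)
      · right; exact Subtype.ext (by rw [← e', h])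
    · obtain ⟨q, hq, e⟩ := a.2
      have e' : g * q * g⁻¹ = (a : G) := e
      rcases H.sq_mem hq with h | h
      · left; exact Subtype.ext (by
          show (a : G) * a = 1
          rw [← e', conj_mul, h, mul_one, mul_inv_cancel])
      · right; exact Subtype.ext (by
          show (a : G) * a = g * H.z * g⁻¹
          rw [← e', conj_mul, h])
    · obtain ⟨q, hq, e⟩ := a.2
      obtain ⟨r, hr, f⟩ := b.2
      have e' : g * q * g⁻¹ = (a : G) := e
      have f' : g * r * g⁻¹ = (b : G) := f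
      rcases H.comm_mem hq hr with h | h
      · left; exact Subtype.ext (by
          show (b : G) * a = a * b
          rw [← e', ← f', conj_mul, conj_mul, h])
      · right; exact Subtype.ext (by
          show (b : G) * a = a * b * (g * H.z * g⁻¹)
          rw [← e', ← f', conj_mul, conj_mul, conj_mul, h])
  π_surj γ := by
    obtain ⟨c, hc⟩ := H.π_surj γ
    have hm : g * (c : G) * g⁻¹ ∈ Subgroup.centralizer ({g * H.z * g⁻¹} : Set G) := by
      rw [Subgroup.mem_centralizer_singleton_iff, conj_mul, conj_mul, (H.mem_C.1 c.2).eq]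
    refine ⟨⟨_, hm⟩, ?_⟩
    show H.π (unconj g H.z ⟨_, hm⟩) = γ
    rw [← hc]
    exact congrArg H.π (Subtype.ext (show g⁻¹ * (g * (c : G) * g⁻¹) * g = c by group))
  π_ker c := by
    show H.π (unconj g H.z c) = 1 ↔ _
    rw [H.π_ker]
    show g⁻¹ * (c : G) * g ∈ H.Q ↔ _
    constructor
    · intro h
      exact ⟨_, h, show g * (g⁻¹ * (c : G) * g) * g⁻¹ = c by group⟩
    · rintro ⟨q, hq, e⟩
      have e' : g * q * g⁻¹ = (c : G) := e
      rwa [← e', show g⁻¹ * (g * q * g⁻¹) * g = q by group]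
  self_cent a ha := by
    rcases H.self_cent (g⁻¹ * a * g) fun q hq => (Commute.conj_iff g).1 (by
      rw [show g * (g⁻¹ * a * g) * g⁻¹ = a by group]
      exact ha _ ⟨q, hq, rfl⟩) with h | h
    · left; rw [show a = g * (g⁻¹ * a * g) * g⁻¹ by group, h, mul_one, mul_inv_cancel]
    · right; rw [show a = g * (g⁻¹ * a * g) * g⁻¹ by group, h]
  trivial_mem a ha hq := by
    refine ⟨g⁻¹ * a * g, H.trivial_mem _ ?_ fun q hq' => ?_,
      show g * (g⁻¹ * a * g) * g⁻¹ = a by group⟩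
    · exact (Commute.conj_iff g).1 (by rw [show g * (g⁻¹ * a * g) * g⁻¹ = a by group]; exact ha)
    · rcases hq _ ⟨q, hq', rfl⟩ with h | h
      · left
        have h' : a * (g * q * g⁻¹) * a⁻¹ = g * q * g⁻¹ := h
        calc g⁻¹ * a * g * q * (g⁻¹ * a * g)⁻¹ = g⁻¹ * (a * (g * q * g⁻¹) * a⁻¹) * g := by group
          _ = q := by rw [h']; group
      · right
        have h' : a * (g * q * g⁻¹) * a⁻¹ = g * q * g⁻¹ * (g * H.z * g⁻¹) := h
        calc g⁻¹ * a * g * q * (g⁻¹ * a * g)⁻¹ = g⁻¹ * (a * (g * q * g⁻¹) * a⁻¹) * g := by group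
          _ = q * H.z := by rw [h']; group

theorem Hyp.move_z (g : G) : (H.move g).z = g * H.z * g⁻¹ := rfl

theorem Hyp.mem_moveQ {g a : G} : a ∈ (H.move g).Q ↔ g⁻¹ * a * g ∈ H.Q := by
  constructor
  · rintro ⟨q, hq, e⟩
    have e' : g * q * g⁻¹ = a := e
    rwa [← e', show g⁻¹ * (g * q * g⁻¹) * g = q by group]
  · intro h
    exact ⟨_, h, show g * (g⁻¹ * a * g) * g⁻¹ = a by group⟩

theorem Hyp.moveQ_eq {g g' : G} (h : g * H.z * g⁻¹ = g' * H.z * g'⁻¹) : (H.move g).Q = (H.move g').Q := by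
  have hc : g'⁻¹ * g ∈ H.C := by
    rw [H.mem_C]
    calc g'⁻¹ * g * H.z = g'⁻¹ * (g * H.z * g⁻¹) * g := by group
      _ = H.z * (g'⁻¹ * g) := by rw [h]; group
  ext a
  rw [H.mem_moveQ, H.mem_moveQ]
  constructor
  · intro ha
    have := H.conj_mem hc ha
    rwa [show g'⁻¹ * g * (g⁻¹ * a * g) * (g'⁻¹ * g)⁻¹ = g'⁻¹ * a * g' by group] at this
  · intro ha
    have := H.conj_mem' hc ha
    rwa [show (g'⁻¹ * g)⁻¹ * (g'⁻¹ * a * g') * (g'⁻¹ * g) = g⁻¹ * a * g by group] at this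

theorem Hyp.move_img {g a : G} (ha : a ∈ (H.move g).C) : (H.move g).img a = H.img (g⁻¹ * a * g) := by
  have hm : g⁻¹ * a * g ∈ H.C := by
    rw [H.mem_C]
    refine (Commute.conj_iff g).1 ?_
    rw [show g * (g⁻¹ * a * g) * g⁻¹ = a by group]
    exact (H.move g).mem_C.1 ha
  rw [Hyp.img_def _ ha, H.img_def hm]
  rfl

/-- the setting from the hypotheses of the statements -/
theorem exists_hyp {G : Type u} [Group G] [Finite G] {Γ : Type v} [Group Γ] (z : G) (hz : orderOf z = 2)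
    (P : Subgroup ↥(Subgroup.centralizer ({z} : Set G))) [hP : P.Normal]
    (hQ : Cfsg.IsExtraspecial 2 ↥P) (hQ9 : Nat.card ↥P = 2 ^ 9)
    (hcc : Subgroup.centralizer (P : Set ↥(Subgroup.centralizer ({z} : Set G))) ≤ P)
    (e : (↥(Subgroup.centralizer ({z} : Set G)) ⧸ P) ≃* Γ) :
    ∃ H : Hyp G Γ, H.z = z ∧ H.Q = P.map (Subgroup.centralizer ({z} : Set G)).subtype := by
  haveI : Fact (Nat.Prime 2) := ⟨Nat.prime_two⟩
  set Q := P.map (Subgroup.centralizer ({z} : Set G)).subtype with hQdef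
  let i : ↥P ≃* ↥Q := P.equivMapOfInjective (Subgroup.centralizer ({z} : Set G)).subtype (Subgroup.centralizer ({z} : Set G)).subtype_injective
  have hcomm : ∀ g ∈ Q, Commute g z := fun g hg => by
    obtain ⟨p, -, rfl⟩ := hg
    exact Subgroup.mem_centralizer_singleton_iff.1 p.2
  have hzC : z ∈ (Subgroup.centralizer ({z} : Set G)) := Subgroup.mem_centralizer_singleton_iff.2 rfl
  have hzP : (⟨z, hzC⟩ : ↥(Subgroup.centralizer ({z} : Set G))) ∈ P := hcc (Subgroup.mem_centralizer_iff.2 fun (a : ↥(Subgroup.centralizer ({z} : Set G))) _ =>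
    Subtype.ext (show (a : G) * z = z * (a : G) from Subgroup.mem_centralizer_singleton_iff.1 a.2))
  have hzQ : z ∈ Q := ⟨⟨z, hzC⟩, hzP, rfl⟩
  obtain ⟨w, hw⟩ := of_extraspecial hQ
  have hzsq : z * z = 1 := by rw [← pow_two, ← hz, pow_orderOf_eq_one]
  have hz1 : z ≠ 1 := fun h => by rw [h, orderOf_one] at hz; norm_num at hz
  have hwz : i w = ⟨z, hzQ⟩ := by
    obtain ⟨p, hp⟩ := i.surjective ⟨z, hzQ⟩
    have hc : ∀ r, Commute p r := fun r => by
      refine i.injective (Subtype.ext ?_)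
      rw [map_mul, map_mul, Subgroup.coe_mul, Subgroup.coe_mul, hp]
      exact ((hcomm _ (i r).2).eq).symm
    rcases hw.center p hc with rfl | rfl
    · exact absurd (congrArg Subtype.val hp).symm (by rw [map_one]; exact hz1)
    · exact hp
  have hext : Ext2 ↥Q ⟨z, hzQ⟩ := by
    rw [← hwz]
    refine ⟨fun h => hw.ne (i.injective (h.trans (map_one i).symm)), fun g => ?_, fun g hg => ?_,
      fun g => ?_, fun g h => ?_⟩
    · obtain ⟨p, rfl⟩ := i.surjective g
      exact (hw.central p).map i.toMonoidHom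
    · obtain ⟨p, rfl⟩ := i.surjective g
      rcases hw.center p (fun r => i.injective (by rw [map_mul, map_mul]; exact hg (i r))) with rfl | rfl
      · exact Or.inl (map_one i)
      · exact Or.inr rfl
    · obtain ⟨p, rfl⟩ := i.surjective g
      rcases hw.sq p with h | h
      · exact Or.inl (by rw [← map_mul, h, map_one])
      · exact Or.inr (by rw [← map_mul, h])
    · obtain ⟨p, rfl⟩ := i.surjective g
      obtain ⟨r, rfl⟩ := i.surjective h
      rcases hw.comm p r with h | h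
      · exact Or.inl (by rw [← map_mul, h, map_mul])
      · exact Or.inr (by rw [← map_mul, h, map_mul, map_mul])
  have hself : ∀ g : G, (∀ q ∈ Q, g * q = q * g) → g = 1 ∨ g = z := fun g hg => by
    have hgC : g ∈ (Subgroup.centralizer ({z} : Set G)) := Subgroup.mem_centralizer_singleton_iff.2 (hg z hzQ)
    have hgP : (⟨g, hgC⟩ : ↥(Subgroup.centralizer ({z} : Set G))) ∈ P :=
      hcc (Subgroup.mem_centralizer_iff.2 fun q hq => Subtype.ext (hg q ⟨q, hq, rfl⟩).symm)
    rcases hext.center ⟨g, ⟨_, hgP, rfl⟩⟩ (fun r => Subtype.ext (hg r r.2)) with h | h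
    · exact Or.inl (congrArg Subtype.val h)
    · exact Or.inr (congrArg Subtype.val h)
  refine ⟨⟨z, Q, e.toMonoidHom.comp (QuotientGroup.mk' P), hzsq, hz1, fun g hg =>
    Subgroup.mem_centralizer_singleton_iff.2 (hcomm g hg).eq, hzQ, ?_, hext,
    e.surjective.comp (QuotientGroup.mk'_surjective P), fun c => ?_, hself, fun g hg h => ?_⟩, rfl, rfl⟩
  · rw [← Nat.card_congr i.toEquiv, hQ9]
    norm_num
  · simp only [MonoidHom.coe_comp, MulEquiv.coe_toMonoidHom, Function.comp_apply, QuotientGroup.mk'_apply,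
      EmbeddingLike.map_eq_one_iff, QuotientGroup.eq_one_iff]
    exact ⟨fun h => ⟨c, h, rfl⟩, fun ⟨p, hp, h⟩ => Subtype.ext h ▸ hp⟩
  · -- an element acting trivially modulo the centre agrees with an inner automorphism
    have hgC : g ∈ (Subgroup.centralizer ({z} : Set G)) := Subgroup.mem_centralizer_singleton_iff.2 hg.eq
    set c : ↥(Subgroup.centralizer ({z} : Set G)) := ⟨g, hgC⟩
    let φ : ↥P ≃* ↥P := MulAut.conjNormal c
    obtain ⟨r, hr⟩ := inner_of_central hQ φ fun x => by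
      have hval : ((φ x * x⁻¹ : ↥P) : G) = g * ((x : ↥(Subgroup.centralizer ({z} : Set G))) : G) * g⁻¹ * ((x : ↥(Subgroup.centralizer ({z} : Set G))) : G)⁻¹ := by
        show ((φ x : ↥(Subgroup.centralizer ({z} : Set G))) : G) * _ = _
        rw [MulAut.conjNormal_apply]
        rfl
      rw [Subgroup.mem_center_iff]
      intro y
      rcases h _ ⟨x, x.2, rfl⟩ with hh | hh
      · have : φ x * x⁻¹ = 1 := Subtype.ext (Subtype.ext (by
          rw [hval, show (Subgroup.centralizer ({z} : Set G)).subtype (x : ↥(Subgroup.centralizer ({z} : Set G))) = ((x : ↥(Subgroup.centralizer ({z} : Set G))) : G) from rfl] at *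
          simp [hh]))
        rw [this, mul_one, one_mul]
      · refine Subtype.ext (Subtype.ext ?_)
        show ((y : ↥(Subgroup.centralizer ({z} : Set G))) : G) * ((φ x * x⁻¹ : ↥P) : G) = ((φ x * x⁻¹ : ↥P) : G) * ((y : ↥(Subgroup.centralizer ({z} : Set G))) : G)
        have hh' : g * ((x : ↥(Subgroup.centralizer ({z} : Set G))) : G) * g⁻¹ = ((x : ↥(Subgroup.centralizer ({z} : Set G))) : G) * z := hh
        have hxz : Commute ((x : ↥(Subgroup.centralizer ({z} : Set G))) : G) z := hcomm _ ⟨x, x.2, rfl⟩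
        rw [hval, hh', hxz.eq, mul_inv_cancel_right]
        exact (hcomm _ ⟨y, y.2, rfl⟩).eq
    have hc' : ((r : ↥(Subgroup.centralizer ({z} : Set G))) : G)⁻¹ * g ∈ Q := by
      refine ⟨(r : ↥(Subgroup.centralizer ({z} : Set G)))⁻¹ * c, hcc (Subgroup.mem_centralizer_iff.2 fun q hq => ?_), rfl⟩
      have e1 := congrArg (fun t : ↥P => (t : ↥(Subgroup.centralizer ({z} : Set G)))) (hr ⟨q, hq⟩)
      simp only [φ, MulAut.conjNormal_apply, Subgroup.coe_mul, InvMemClass.coe_inv] at e1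
      calc q * ((r : ↥(Subgroup.centralizer ({z} : Set G)))⁻¹ * c) = (r : ↥(Subgroup.centralizer ({z} : Set G)))⁻¹ * ((r : ↥(Subgroup.centralizer ({z} : Set G))) * q * (r : ↥(Subgroup.centralizer ({z} : Set G)))⁻¹) * c := by group
        _ = (r : ↥(Subgroup.centralizer ({z} : Set G)))⁻¹ * c * q := by rw [← e1]; group
    have hrQ : ((r : ↥(Subgroup.centralizer ({z} : Set G))) : G) ∈ Q := ⟨r, r.2, rfl⟩
    simpa using mul_mem hrQ hc'

end Cfsg.Agent.Spor.XS
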