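import Cfsg.Agent.Lib.Spor.ExtraS3A6.Model

/-!
Finite facts about the model.
-/

set_option autoImplicit false

namespace Cfsg.Agent.Spor.XS.Model

/-- a transposition of the first factor -/
def xA : El := ([0, 2, 1], [0, 1, 2, 3, 4, 5])

/-- a fixed-point-free element of order three in the second factor -/
def hD : El := ([0, 1, 2], [2, 3, 4, 5, 0, 1])

/-- a transposition of the first factor times a transvection -/
def xR : El := ([0, 2, 1], [4, 1, 2, 3, 0, 5])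

/-- a transposition of the first factor times an involution of the second type -/
def xE : El := ([0, 2, 1], [1, 0, 3, 2, 5, 4])

/-- a square in the centralizer of `xE` -/
def gE : El := ([0, 1, 2], [0, 1, 3, 2, 5, 4])

/-- a transvection of the second factor -/
def xS : El := ([0, 1, 2], [4, 1, 2, 3, 0, 5])

/-- the three-cycle of the first factor -/
def hS : El := ([1, 2, 0], [0, 1, 2, 3, 4, 5])

/-- the normal part of the stabiliser of a vector of rank one, first and third quotient -/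
def good1 (k : Fin 3) : List El :=
  if k = 0 then
  [([0, 1, 2], [0, 2, 1, 5, 4, 3]),
    ([0, 1, 2], [0, 3, 5, 1, 4, 2]),
    ([0, 1, 2], [0, 5, 3, 2, 4, 1]),
    ([0, 2, 1], [0, 1, 2, 3, 4, 5]),
    ([0, 2, 1], [0, 2, 1, 5, 4, 3]),
    ([0, 2, 1], [0, 3, 5, 1, 4, 2]),
    ([0, 2, 1], [0, 5, 3, 2, 4, 1])]
  else
  [([0, 1, 2], [0, 2, 1, 5, 4, 3]),
    ([0, 1, 2], [0, 3, 5, 1, 4, 2]),
    ([0, 1, 2], [0, 5, 3, 2, 4, 1]),
    ([0, 2, 1], [4, 1, 2, 3, 0, 5]),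
    ([0, 2, 1], [4, 2, 1, 5, 0, 3]),
    ([0, 2, 1], [4, 3, 5, 1, 0, 2]),
    ([0, 2, 1], [4, 5, 3, 2, 0, 1])]

/-- the elements whose single commutators miss the other vectors of the line -/
def badS (v : ℕ) : List El :=
  oneE :: (if v = 1 then
  [([0, 1, 2], [4, 1, 2, 3, 0, 5]),
    ([0, 2, 1], [0, 1, 2, 3, 4, 5]),
    ([0, 2, 1], [0, 2, 1, 5, 4, 3]),
    ([0, 2, 1], [0, 3, 5, 1, 4, 2]),
    ([0, 2, 1], [0, 5, 3, 2, 4, 1]),
    ([0, 2, 1], [4, 1, 2, 3, 0, 5]),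
    ([0, 2, 1], [4, 2, 1, 5, 0, 3]),
    ([0, 2, 1], [4, 3, 5, 1, 0, 2]),
    ([0, 2, 1], [4, 5, 3, 2, 0, 1])]
  else if v = 16 then
  [([0, 1, 2], [4, 1, 2, 3, 0, 5]),
    ([2, 1, 0], [0, 1, 2, 3, 4, 5]),
    ([2, 1, 0], [0, 2, 1, 5, 4, 3]),
    ([2, 1, 0], [0, 3, 5, 1, 4, 2]),
    ([2, 1, 0], [0, 5, 3, 2, 4, 1]),
    ([2, 1, 0], [4, 1, 2, 3, 0, 5]),
    ([2, 1, 0], [4, 2, 1, 5, 0, 3]),
    ([2, 1, 0], [4, 3, 5, 1, 0, 2]),
    ([2, 1, 0], [4, 5, 3, 2, 0, 1])]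
  else
  [([0, 1, 2], [4, 1, 2, 3, 0, 5]),
    ([1, 0, 2], [0, 1, 2, 3, 4, 5]),
    ([1, 0, 2], [0, 2, 1, 5, 4, 3]),
    ([1, 0, 2], [0, 3, 5, 1, 4, 2]),
    ([1, 0, 2], [0, 5, 3, 2, 4, 1]),
    ([1, 0, 2], [4, 1, 2, 3, 0, 5]),
    ([1, 0, 2], [4, 2, 1, 5, 0, 3]),
    ([1, 0, 2], [4, 3, 5, 1, 0, 2]),
    ([1, 0, 2], [4, 5, 3, 2, 0, 1])])
end Cfsg.Agent.Spor.XS.Model
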