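import Cfsg.Agent.Lib.Spor.ExtraS3A6.Elts

/-!
Finite facts used for the base points.
-/

set_option autoImplicit false

namespace Cfsg.Agent.Spor.XS.Model

theorem base_lit : inX 1 4 = false ∧ qN 4 = false ∧ pure 4 = true ∧ bN 1 4 = false ∧ qN 5 = false ∧ pure 5 = true ∧
    qN 7 = false ∧ pure 7 = true ∧ inX 1 7 = true ∧ inX 4 7 = true ∧ bN 1 7 = false ∧
    qN 10 = false ∧ pure 10 = true ∧ inX 1 10 = true ∧ inX 4 10 = true ∧ bN 1 10 = false ∧ inX 7 10 = false ∧
    qN 1 = false ∧ pure 1 = true := by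
  decide +kernel

end Cfsg.Agent.Spor.XS.Model
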