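import Cfsg.Agent.Lib.Spor.ExtraS3A6.Outer

/-!
A conjugate over the chosen involution gives a contradiction.
-/

set_option autoImplicit false
set_option linter.style.haveILetI false
set_option linter.unusedSectionVars false

namespace Cfsg.Agent.Spor.XS

open Model

universe u v

variable {k : Fin 3} {G : Type u} [Group G] [Finite G] {Γ : Type v} [Group Γ] {H : Hyp G Γ} {S : Crd k H}
  (O : Outer S)

include O

/-- the vectors of the common part -/
def Outer.L (n : ℕ) : Prop := ∃ y, Fx S y ∧ y ∈ (H.move O.g).Q ∧ S.vec y = n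

theorem Outer.L_xor {m n : ℕ} (hm : O.L m) (hn : O.L n) : O.L (m ^^^ n) := by
  obtain ⟨y, hy, hy', rfl⟩ := hm
  obtain ⟨w, hw, hw', rfl⟩ := hn
  exact ⟨y * w, O.fx_mul hy hw, mul_mem hy' hw', S.vec_mul y hy.1 w hw.1⟩

theorem Outer.L_unique {y w : G} (hy : Fx S y) (hy' : y ∈ (H.move O.g).Q) (hw : Fx S w)
    (hw' : w ∈ (H.move O.g).Q) (e : S.vec y = S.vec w) : w = y := by
  rcases S.vec_eq hy.1 hw.1 e with h | h
  · exact h
  · exfalso
    refine O.z_not ?_
    have := mul_mem (inv_mem hy') hw'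
    rwa [h, inv_mul_cancel_left] at this

theorem Outer.L_conj {c : G} (hc : c ∈ H.C) (hct : Commute c O.t) {a : G} (hfa : Fx S a)
    (ha : a ∈ (H.move O.g).Q) : Fx S (c * a * c⁻¹) ∧ c * a * c⁻¹ ∈ (H.move O.g).Q := by
  have hct' : c ∈ (H.move O.g).C := (H.move O.g).mem_C.2 hct
  refine ⟨⟨H.conj_mem hc hfa.1, (O.comm_iff (H.conj_mem hc hfa.1)).1 ?_⟩, (H.move O.g).conj_mem hct' ha⟩
  exact ((hct.mul_left ((O.comm_iff hfa.1).2 hfa.2)).mul_left hct.inv_left)

theorem Outer.L_square {e : El} (he : e ∈ elsK k) (hx : mulE e (x0 k) = mulE (x0 k) e) {n : ℕ}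
    (hn : O.L n) : O.L (gm (mulE e e) n) := by
  obtain ⟨y, hy, hy', rfl⟩ := hn
  obtain ⟨c, hc, hct, hce⟩ := O.square_lift he hx
  obtain ⟨h1, h2⟩ := O.L_conj hc hct hy hy'
  exact ⟨_, h1, h2, by rw [S.vec_conj c hc y hy.1, show S.el (H.img c) = _ from hce]⟩

/-- the rule of the three elements -/
theorem Outer.rule {y w p : G} (hy : Fx S y) (hw : Fx S w) (hp : p ∈ H.Q)
    (hpv : gm (x0 k) (S.vec p) ^^^ S.vec p = S.vec y) {P : Prop}
    (hY : InT S O.t y ↔ P) (hW : InT S O.t w ↔ P) (hYW : InT S O.t (y * w) ↔ P) :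
    bN (S.vec p) (S.vec w) = true ↔ ¬ P := by
  obtain ⟨hm, hv, he⟩ := O.comm_vec hp
  have hcase : ∀ a, Fx S a → InT S O.t a ∨ InT S O.t (a * H.z) ∧ ¬ InT S O.t a := fun a ha => by
    by_cases h : InT S O.t a
    · exact Or.inl h
    · exact Or.inr ⟨(O.inT_exists ha).resolve_left h, h⟩
  have hkap : bN (S.vec p) (S.vec w) = true ↔ H.kap p w = 1 := by
    have h1 := S.vec_b p hp w hw.1
    rcases bit_cases (H.kap p w) with e | e
    · rw [e, h1.2 (H.kap_eq_zero.1 e)]
      decide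
    · rw [e]
      refine iff_of_true ?_ rfl
      by_contra hc
      rw [Bool.not_eq_true] at hc
      rw [H.kap_eq_zero.2 (h1.1 hc)] at e
      exact absurd e (by decide)
  -- `p` carries `t` to `t y` or to `t y z`
  have hz : ∀ {a : G}, a ∈ H.Q → Commute H.z a := fun {a} ha => (H.comm_z ha).symm
  have key : ∀ a b, InT S O.t b → b ∈ H.Q → p * O.t * p⁻¹ = O.t * a →
      InT S O.t (a * b * H.tp (H.kap p b)) := fun a b hb hbQ hpa => O.inT_mul hp hbQ hpa hb
  have hkz : H.kap p (w * H.z) = H.kap p w := by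
    rw [H.kap_mul_right hp hw.1 H.z_mem, H.kap_eq_zero.2 (H.comm_z hp), add_zero]
  have hzz : ∀ a : G, a * H.z * H.z = a := fun a => by rw [mul_assoc, H.z_sq, mul_one]
  have hyw : Fx S (y * w) := O.fx_mul hy hw
  have hnot : ∀ a, Fx S a → ¬ (InT S O.t a ∧ InT S O.t (a * H.z)) := fun a ha h =>
    O.inT_unique ha h.1 h.2
  rw [hkap]
  rcases S.vec_eq hy.1 hm (hpv.symm.trans hv.symm) with e | e
  · -- then `y` is in the orbit
    have hP : P := hY.1 ⟨p, hp, by rw [he, e]⟩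
    refine iff_of_false (fun hk => ?_) (fun h => h hP)
    have h1 := key y w (hW.2 hP) hw.1 (by rw [he, e])
    rw [hk, H.tp_one] at h1
    exact hnot _ hyw ⟨hYW.2 hP, h1⟩
  · have hP : ¬ P := fun h => hnot y hy ⟨hY.2 h, ⟨p, hp, by rw [he, e]⟩⟩
    refine iff_of_true ?_ hP
    have hwz : InT S O.t (w * H.z) := (O.inT_exists hw).resolve_left fun h => hP (hW.1 h)
    have h1 := key (y * H.z) (w * H.z) hwz (mul_mem hw.1 H.z_mem) (by rw [he, e])
    rw [hkz, show y * H.z * (w * H.z) = y * w by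
      rw [mul_assoc, ← mul_assoc H.z, (hz hw.1).eq, hzz]] at h1
    rcases bit_cases (H.kap p w) with e2 | e2
    · rw [e2, H.tp_zero, mul_one] at h1
      exact absurd (hYW.1 h1) hP
    · exact e2

/-- the first quotient -/
theorem Outer.not_first (hk : k = 0) : False := by
  subst hk
  obtain ⟨a0, ha0, ha0', hne⟩ := O.exists_Y
  -- transitivity of the centralizer on the nonzero fixed vectors
  have htrans : ∀ a c : ℕ, a < 256 → c < 256 → a ≠ 0 → c ≠ 0 → gm xA a = a → gm xA c = c →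
      ∃ e ∈ elsK 0, mulE e xA = mulE xA e ∧ gm (mulE e e) a = c := by
    intro a c ha hc ha0 hc0 hfa hfc
    have hmem : ∀ v, v < 256 → gm xA v = v → v ∈ fixL xA := fun v hv hf =>
      List.mem_filter.2 ⟨List.mem_range.2 hv, beq_iff_eq.2 hf⟩
    have h1 := List.all_eq_true.1 xA_trans a (hmem a ha hfa)
    simp only [beq_eq_false_iff_ne.2 ha0, Bool.false_or] at h1
    have h2 := List.all_eq_true.1 h1 c (hmem c hc hfc)
    simp only [beq_eq_false_iff_ne.2 hc0, Bool.false_or, List.any_eq_true, Bool.and_eq_true, Bool.or_eq_true,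
      beq_iff_eq] at h2
    obtain ⟨e, he, ⟨hec, hex⟩, h3⟩ := h2
    obtain ⟨c', hc', rfl⟩ := S.exists_ei he
    have hx : ∀ d ∈ H.C, mulE (S.ei d) xA = mulE xA (S.ei d) → ∀ d' ∈ H.C,
        mulE (S.ei d') xA = mulE xA (S.ei d') → mulE (S.ei (d * d')) xA = mulE xA (S.ei (d * d')) := by
      intro d hd h d' hd' h'
      obtain ⟨xx, hxx, hxxe⟩ := S.exists_ei (x0_mem 0).1
      rw [show x0 0 = xA from rfl] at hxxe
      rw [← hxxe, ← S.ei_mul hd hxx, ← S.ei_mul hxx hd] at h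
      rw [← hxxe, ← S.ei_mul hd' hxx, ← S.ei_mul hxx hd'] at h'
      rw [← hxxe, ← S.ei_mul (mul_mem hd hd') hxx, ← S.ei_mul hxx (mul_mem hd hd')]
      calc S.ei (d * d' * xx) = mulE (S.ei d) (S.ei (d' * xx)) := by
            rw [mul_assoc, S.ei_mul hd (mul_mem hd' hxx)]
        _ = S.ei (d * xx * d') := by
            rw [h', mul_assoc d, S.ei_mul hd (mul_mem hxx hd')]
        _ = mulE (S.ei (xx * d)) (S.ei d') := by rw [S.ei_mul (mul_mem hd hxx) hd', h]
        _ = S.ei (xx * (d * d')) := by rw [← mul_assoc, S.ei_mul (mul_mem hxx hd) hd']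
    have hone : ∀ d ∈ H.C, S.ei d = oneE → S.ei (d * c') = S.ei c' := fun d hd h => by
      rw [S.ei_mul hd hc', h, ← (S.ei_eq_one (one_mem _)).2 (one_mem _), ← S.ei_mul (one_mem _) hc', one_mul]
    rcases h3 with h3 | h3
    · refine ⟨S.ei (c' * c'), S.ei_mem _, hx _ hc' hex _ hc' hex, ?_⟩
      rw [← S.ei_mul (mul_mem hc' hc') (mul_mem hc' hc'), show c' * c' * (c' * c') = c' * (c' * c') * c' by group,
        hone _ (mul_mem hc' (mul_mem hc' hc')) (by
          rw [S.ei_mul hc' (mul_mem hc' hc'), S.ei_mul hc' hc', h3])]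
      exact hec
    · refine ⟨S.ei (c' * c' * c'), S.ei_mem _, hx _ (mul_mem hc' hc') (hx _ hc' hex _ hc' hex) _ hc' hex, ?_⟩
      rw [← S.ei_mul (mul_mem (mul_mem hc' hc') hc') (mul_mem (mul_mem hc' hc') hc'),
        show c' * c' * c' * (c' * c' * c') = c' * (c' * (c' * (c' * c'))) * c' by group,
        hone _ (mul_mem hc' (mul_mem hc' (mul_mem hc' (mul_mem hc' hc')))) (by
          rw [S.ei_mul hc' (mul_mem hc' (mul_mem hc' (mul_mem hc' hc'))),
            S.ei_mul hc' (mul_mem hc' (mul_mem hc' hc')), S.ei_mul hc' (mul_mem hc' hc'), S.ei_mul hc' hc', h3])]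
      exact hec
  -- all nonzero fixed vectors have lifts in the common part, with one truth value
  have hall : ∀ n, n < 256 → n ≠ 0 → gm xA n = n → ∃ y, Fx S y ∧ y ∈ (H.move O.g).Q ∧ S.vec y = n ∧
      (InT S O.t y ↔ InT S O.t a0) := by
    intro n hn hn0 hf
    obtain ⟨e, he, hex, heq⟩ := htrans _ n (S.vec_lt a0) hn hne hn0 ha0.2 hf
    obtain ⟨c, hc, hct, hce⟩ := O.square_lift he hex
    obtain ⟨h1, h2⟩ := O.L_conj hc hct ha0 ha0'
    refine ⟨_, h1, h2, ?_, ?_, O.inT_conj hc hct⟩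
    · rw [S.vec_conj c hc a0 ha0.1, show S.el (H.img c) = _ from hce, heq]
    · intro h
      have := O.inT_conj (inv_mem hc) hct.inv_left h
      rwa [show c⁻¹ * (c * a0 * c⁻¹) * c⁻¹⁻¹ = a0 by group] at this
  obtain ⟨b1, b2, b3, b4, b5, b6⟩ := xA_beta
  obtain ⟨p, hp, hpv⟩ := S.vec_surj 16 (by norm_num)
  obtain ⟨y, hy, hy', hyv, hyP⟩ := hall 1 (by norm_num) (by norm_num) b4
  have hpy : gm (x0 0) (S.vec p) ^^^ S.vec p = S.vec y := by rw [hpv, hyv]; exact b1
  have val : ∀ n, n < 256 → n ≠ 0 → 1 ^^^ n ≠ 0 → gm xA n = n →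
      (bN 16 n = true ↔ ¬ InT S O.t a0) := by
    intro n hn hn0 hn1 hf
    obtain ⟨w, hw, hw', hwv, hwP⟩ := hall n hn hn0 hf
    have hyw := O.fx_mul hy hw
    have hv : S.vec (y * w) = 1 ^^^ n := by rw [S.vec_mul y hy.1 w hw.1, hyv, hwv]
    obtain ⟨u, hu, hu', huv, huP⟩ := hall (1 ^^^ n) (Nat.xor_lt_two_pow (n := 8) (by norm_num) hn) hn1
      (hv ▸ hyw.2)
    have heq : y * w = u := O.L_unique hu hu' hyw (mul_mem hy' hw') (huv.trans hv.symm)
    have := O.rule hy hw hp hpy hyP hwP (heq ▸ huP)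
    rwa [hpv, hwv] at this
  have h2 := (val 2 (by norm_num) (by norm_num) (by decide) b2).1 b5
  have h6 := (val 6 (by norm_num) (by norm_num) (by decide) b3).2 h2
  rw [b6] at h6
  exact Bool.noConfusion h6

/-- the third quotient when the involution has no other conjugate inside -/
theorem Outer.not_third (hk : k = 2) (hnone : ∀ t, Fus H t → t ∈ H.Q → t = H.z) : False := by
  subst hk
  have hneg : ∀ y, Fx S y → y ∈ (H.move O.g).Q → S.vec y ≠ 0 → ¬ InT S O.t y := by
    rintro y hy hy' hne ⟨p, hp, e⟩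
    have hf : Fus H (O.t * y) := e ▸ Fus.conj ⟨O.g, rfl⟩ p
    have hm : O.g⁻¹ * (O.t * y) * O.g ∈ H.Q :=
      H.mem_moveQ.1 (mul_mem (H.move O.g).z_mem hy')
    have h1 := hnone _ (by
      have := hf.conj O.g⁻¹
      rwa [inv_inv] at this) hm
    have h2 : O.t * y = O.g * H.z * O.g⁻¹ := by
      rw [← h1]; group
    exact hne (by rw [show y = 1 from mul_eq_left.1 (h2.trans rfl : O.t * y = O.t), S.vec_one])
  obtain ⟨a, ha, ha', hne⟩ := O.exists_Y
  obtain ⟨e1, e2, e3, e4⟩ := hD_sq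
  obtain ⟨eg, hegm, heg1, heg2⟩ := gE_facts
  have hLh : ∀ n, O.L n → O.L (gm hD n) := fun n hn => by
    have := O.L_square e3 e4 hn
    rwa [e1] at this
  have hLg : ∀ n, O.L n → O.L (gm gE n) := fun n hn => by
    have := O.L_square hegm heg1 hn
    rwa [heg2] at this
  have hhm := (x0_mem 2).2.1
  set v := S.vec a with hv
  set w := gm hD v with hw
  have hLv : O.L v := ⟨a, ha, ha', rfl⟩
  have hLw : O.L w := hLh v hLv
  have hwne : w ≠ v := fun h => hne (S.fix_h0 (S.vec_lt a) h)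
  have hw0 : w ≠ 0 := fun h => by
    obtain ⟨c, hc, hce⟩ := S.exists_ei hhm
    have h1 : S.vec (c * a * c⁻¹) = 0 := by
      rw [S.vec_conj c hc a ha.1, show S.el (H.img c) = _ from hce]; exact h
    have h2 : S.vec a = 0 := by
      rcases (S.vec_zero _ (H.conj_mem hc ha.1)).1 h1 with e | e
      · rw [show a = c⁻¹ * (c * a * c⁻¹) * c by group, e, mul_one, inv_mul_cancel, S.vec_one]
      · rw [show a = c⁻¹ * (c * a * c⁻¹) * c by group, e, mul_assoc, ← (H.mem_C.1 hc).eq, inv_mul_cancel_left,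
          S.vec_z]
    exact hne h2
  -- every polar value in `L` is one
  have hone : ∀ m n, O.L m → O.L n → m ≠ 0 → n ≠ 0 → m ≠ n → ∀ p < 256, gm xE p ^^^ p = m →
      bN p n = true := by
    rintro m n ⟨y, hy, hy', rfl⟩ ⟨u, hu, hu', rfl⟩ hm hn hmn p hp hpm
    obtain ⟨q, hq, rfl⟩ := S.vec_surj p hp
    have hyu : S.vec (y * u) ≠ 0 := by
      rw [S.vec_mul y hy.1 u hu.1, Ne, Nat.xor_eq_zero_iff]; exact hmn
    exact (O.rule (P := False) hy hu hq hpm (iff_false_intro (hneg y hy hy' hm)) (iff_false_intro (hneg u hu hu' hn))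
      (iff_false_intro (hneg _ (O.fx_mul hy hu) (mul_mem hy' hu') hyu))).2 not_false
  obtain ⟨-, p, hp, hpv⟩ := x0_fix_facts 2 (by decide) (S.vec_lt a) ha.2
  obtain ⟨q, hq, rfl⟩ := S.vec_surj p hp
  have hplane : ∀ u, O.L u → u = 0 ∨ u = v ∨ u = w ∨ u = v ^^^ w := by
    intro u hu
    by_contra hc
    simp only [not_or] at hc
    obtain ⟨h0, h1, h2, h3⟩ := hc
    have hwu : w ^^^ u ≠ v := fun e => h3 (by rw [← e, Nat.xor_comm w u, Nat.xor_assoc, Nat.xor_self, Nat.xor_zero])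
    have hwu0 : w ^^^ u ≠ 0 := fun e => h2 (Nat.xor_eq_zero_iff.1 e).symm
    have k1 := hone v w hLv hLw hne hw0 hwne.symm _ hp hpv
    have k2 := hone v u hLv hu hne h0 (Ne.symm h1) _ hp hpv
    have k3 := hone v (w ^^^ u) hLv (O.L_xor hLw hu) hne hwu0 hwu.symm _ hp hpv
    obtain ⟨yw, hyw, -, hyw'⟩ := hLw
    obtain ⟨yu, hyu, -, hyu'⟩ := hu
    have hb := fun {d : G} (hd : d ∈ H.Q) => S.vec_b q hq d hd
    have hk : ∀ d ∈ H.Q, bN (S.vec q) (S.vec d) = true → H.kap q d = 1 := fun d hd h =>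
      (bit_cases _).resolve_left fun e => by
        rw [(hb hd).2 (H.kap_eq_zero.1 e)] at h
        exact Bool.noConfusion h
    have := hk (yw * yu) (mul_mem hyw.1 hyu.1) (by rw [S.vec_mul yw hyw.1 yu hyu.1, hyw', hyu']; exact k3)
    rw [H.kap_mul_right hq hyw.1 hyu.1, hk yw hyw.1 (by rw [hyw']; exact k1),
      hk yu hyu.1 (by rw [hyu']; exact k2)] at this
    exact absurd this (by decide)
  have hLfix : ∀ n, O.L n → n ∈ fixL xE := by
    rintro n ⟨y, hy, -, rfl⟩
    exact List.mem_filter.2 ⟨List.mem_range.2 (S.vec_lt y), beq_iff_eq.2 hy.2⟩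
  have hin : ∀ e, (∀ n, O.L n → O.L (gm e n)) → e ∈ [hD, gE] → ∀ n, O.L n → n ≠ 0 →
      gm e n ∈ [v, w, v ^^^ w] := by
    intro e he hemem n hn hn0
    rcases hplane _ (he n hn) with e0 | e0 | e0 | e0
    · exfalso
      have hek : e ∈ elsK 2 := by
        rcases List.mem_cons.1 hemem with rfl | h
        · exact hhm
        · rw [List.mem_singleton] at h
          subst h
          obtain ⟨c, hc, -, hce⟩ := O.square_lift hegm heg1
          rw [← heg2, ← hce]
          exact S.ei_mem _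
      obtain ⟨y, hy, -, rfl⟩ := hn
      obtain ⟨c, hc, rfl⟩ := S.exists_ei hek
      have h1 : S.vec (c * y * c⁻¹) = 0 := by rw [S.vec_conj c hc y hy.1]; exact e0
      refine hn0 ?_
      rcases (S.vec_zero _ (H.conj_mem hc hy.1)).1 h1 with e | e
      · rw [show y = c⁻¹ * (c * y * c⁻¹) * c by group, e, mul_one, inv_mul_cancel, S.vec_one]
      · rw [show y = c⁻¹ * (c * y * c⁻¹) * c by group, e, mul_assoc, ← (H.mem_C.1 hc).eq, inv_mul_cancel_left,
          S.vec_z]
    all_goals simp [e0]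
  have hpl := List.all_eq_true.1 (List.all_eq_true.1 xE_planes v (hLfix v hLv)) w (hLfix w hLw)
  simp only [beq_eq_false_iff_ne.2 hne, beq_eq_false_iff_ne.2 hw0, beq_eq_false_iff_ne.2 hwne.symm,
    Bool.false_or, Bool.or_eq_true, Bool.not_eq_true'] at hpl
  rcases hpl with hpl | hpl
  · rw [List.all_eq_false] at hpl
    obtain ⟨e, he, hne'⟩ := hpl
    refine hne' ?_
    have hL : ∀ n, O.L n → O.L (gm e n) := by
      rcases List.mem_cons.1 he with rfl | h
      · exact hLh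
      · rw [List.mem_singleton] at h
        subst h
        exact hLg
    rw [Bool.and_eq_true]
    exact ⟨List.contains_iff_mem.2 (hin e hL he v hLv hne), List.contains_iff_mem.2 (hin e hL he w hLw hw0)⟩
  · have h1 := List.all_eq_true.1 hpl (S.vec q) (List.mem_range.2 hp)
    rw [show (gm xE (S.vec q) ^^^ S.vec q != v) = false from bne_eq_false_iff_eq.2 hpv,
      hone v w hLv hLw hne hw0 hwne.symm _ hp hpv] at h1
    exact Bool.noConfusion h1

end Cfsg.Agent.Spor.XS
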