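import Cfsg.Agent.Lib.Spor.ExtraS3A6.Crd
import Cfsg.Agent.Lib.Spor.ExtraS3A6.FactsStab
import Cfsg.Agent.Lib.Spor.ExtraS3A6.ModelList

/-!
Conjugates of the involution inside its extraspecial group.
-/

set_option autoImplicit false
set_option linter.style.haveILetI false
set_option linter.unusedSectionVars false

namespace Cfsg.Agent.Spor.XS

open Model

universe u v

variable {k : Fin 3} {G : Type u} [Group G] [Finite G] {Γ : Type v} [Group Γ] {H : Hyp G Γ}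

/-- a conjugate of the involution -/
def Fus (H : Hyp G Γ) (t : G) : Prop := ∃ g, g * H.z * g⁻¹ = t

theorem Fus.sq {t : G} (h : Fus H t) : t * t = 1 := by
  obtain ⟨g, rfl⟩ := h
  exact (H.move g).z_sq

theorem Fus.ne {t : G} (h : Fus H t) : t ≠ 1 := by
  obtain ⟨g, rfl⟩ := h
  exact (H.move g).z_ne

theorem Fus.conj {t : G} (h : Fus H t) (c : G) : Fus H (c * t * c⁻¹) := by
  obtain ⟨g, rfl⟩ := h
  exact ⟨c * g, by group⟩

theorem fus_move {g t : G} : Fus (H.move g) t ↔ Fus H t := by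
  constructor
  · rintro ⟨a, rfl⟩
    exact ⟨a * g, by show _ = a * (g * H.z * g⁻¹) * a⁻¹; group⟩
  · rintro ⟨a, rfl⟩
    exact ⟨a * g⁻¹, by show a * g⁻¹ * (g * H.z * g⁻¹) * (a * g⁻¹)⁻¹ = _; group⟩

variable (S : Crd k H)

include S

theorem Crd.fus_q {t : G} (h : Fus H t) (ht : t ∈ H.Q) : qN (S.vec t) = false := (S.vec_q t ht).2 h.sq

theorem Crd.vec_ne_zero {t : G} (h : Fus H t) (ht : t ∈ H.Q) (hne : t ≠ H.z) : S.vec t ≠ 0 := fun e =>
  ((S.vec_zero t ht).1 e).elim h.ne hne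

theorem Crd.z_mem_of_fus {g : G} (ht : g * H.z * g⁻¹ ∈ H.Q) : H.z ∈ (H.move g).Q := H.z_mem_move S.no128 ht

theorem Crd.mem_of_z_mem {g : G} (h : H.z ∈ (H.move g).Q) : g * H.z * g⁻¹ ∈ H.Q := by
  have h1 : g⁻¹ * (H.move g).z * g⁻¹⁻¹ = H.z := by
    rw [H.move_z]
    group
  have h2 := (S.move g).z_mem_of_fus (g := g⁻¹) (by rw [h1]; exact h)
  rw [Hyp.mem_moveQ, Hyp.mem_moveQ, H.move_z] at h2
  rwa [show g⁻¹ * (g⁻¹⁻¹ * (g * H.z * g⁻¹) * g⁻¹) * g = g * H.z * g⁻¹ by group] at h2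

/-- the two lifts of a nonzero vector are conjugate -/
theorem Crd.lifts_conj {t : G} (ht : t ∈ H.Q) (hv : S.vec t ≠ 0) : ∃ p ∈ H.Q, p * t * p⁻¹ = t * H.z := by
  obtain ⟨p, hp, e⟩ := H.exists_noncommute ht (fun e => hv (by rw [e, S.vec_one]))
    (fun e => hv (by rw [e, S.vec_z]))
  refine ⟨p, hp, ?_⟩
  rw [e, mul_assoc t p H.z, (H.comm_z hp).eq, ← mul_assoc, mul_inv_cancel_right]

theorem Crd.fus_of_vec {t s : G} (h : Fus H t) (ht : t ∈ H.Q) (hs : s ∈ H.Q) (hv : S.vec t ≠ 0)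
    (e : S.vec t = S.vec s) : Fus H s := by
  rcases S.vec_eq ht hs e with rfl | rfl
  · exact h
  · obtain ⟨p, -, hp⟩ := S.lifts_conj ht hv
    exact hp ▸ h.conj p

theorem Crd.fus_gm {t : G} (h : Fus H t) (ht : t ∈ H.Q) {e : El} (he : e ∈ elsK k) :
    ∃ c ∈ H.C, S.ei c = e ∧ Fus H (c * t * c⁻¹) ∧ c * t * c⁻¹ ∈ H.Q ∧
      S.vec (c * t * c⁻¹) = gm e (S.vec t) := by
  obtain ⟨c, hc, hce⟩ := S.exists_ei he
  exact ⟨c, hc, hce, h.conj c, H.conj_mem hc ht, by rw [S.vec_conj c hc t ht]; exact congrArg (fun x => gm x _) hce⟩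

/-- an element of the stabiliser of the vector can be chosen in the centralizer -/
theorem Crd.exists_stab {t : G} (ht : t ∈ H.Q) (hv : S.vec t ≠ 0) {e : El} (he : e ∈ stab k (S.vec t)) :
    ∃ c ∈ H.C, S.ei c = e ∧ Commute c t := by
  obtain ⟨he1, he2⟩ := List.mem_filter.1 he
  obtain ⟨c, hc, rfl⟩ := S.exists_ei he1
  have h1 : S.vec t = S.vec (c * t * c⁻¹) := by
    rw [S.vec_conj c hc t ht]; exact (beq_iff_eq.1 he2).symm
  rcases S.vec_eq ht (H.conj_mem hc ht) h1 with e | e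
  · exact ⟨c, hc, rfl, mul_inv_eq_iff_eq_mul.1 e⟩
  · obtain ⟨p, hp, hpt⟩ := S.lifts_conj ht hv
    refine ⟨c * p, mul_mem hc (H.Q_le hp), S.ei_mul_mem hc hp, ?_⟩
    refine mul_inv_eq_iff_eq_mul.1 (?_ : c * p * t * (c * p)⁻¹ = t)
    calc c * p * t * (c * p)⁻¹ = c * (p * t * p⁻¹) * c⁻¹ := by group
      _ = c * t * c⁻¹ * (c * H.z * c⁻¹) := by rw [hpt]; group
      _ = t := by rw [e, (H.mem_C.1 hc).eq, mul_inv_cancel_right, mul_assoc, H.z_sq, mul_one]

theorem Crd.imgR_good {g : G} (ht : g * H.z * g⁻¹ ∈ H.Q) (hne : g * H.z * g⁻¹ ≠ H.z)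
    {γ : Γ} (hγ : γ ∈ H.imgR g) (h1 : γ ≠ 1) : S.el γ ∈ good k (S.vec (g * H.z * g⁻¹)) := by
  have hel : ∀ a b, a ∈ H.imgR g → b ∈ H.imgR g → mulE (S.el a) (S.el b) = mulE (S.el b) (S.el a) :=
    fun a b ha hb => by rw [← S.el_mul, ← S.el_mul, ((H.imgR_elem ht a ha).2 b hb).eq]
  have hsq := (H.imgR_elem ht γ hγ).1
  have hv := S.vec_ne_zero ⟨g, rfl⟩ ht hne
  obtain ⟨r, hr, hrz, rfl⟩ := H.mem_imgR.1 hγ
  have hrC : r ∈ H.C := H.mem_C.2 hrz
  have hrt : Commute r (g * H.z * g⁻¹) := (H.move g).comm_z hr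
  simp only [good, List.mem_filter]
  refine ⟨⟨List.mem_filter.2 ⟨S.el_mem _, beq_iff_eq.2 (S.vec_conj' hrC ht hrt)⟩, ?_⟩, ?_⟩
  · simp only [Bool.and_eq_true, bne_iff_ne, beq_iff_eq]
    exact ⟨fun e => h1 (S.el_inj (e.trans S.el_one.symm)), by rw [← S.el_mul, hsq, S.el_one]⟩
  · refine List.all_eq_true.2 fun e he => beq_iff_eq.2 ?_
    obtain ⟨c, hc, rfl, hct⟩ := S.exists_stab ht hv he
    have hcinv : invE (S.ei c) = S.ei c⁻¹ := by
      have hid : ∀ f ∈ els, ∀ f' ∈ els, mulE f f' = oneE → invE f = f' := invE_unique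
      refine hid _ (List.mem_of_mem_filter (S.ei_mem c)) _ (List.mem_of_mem_filter (S.ei_mem c⁻¹)) ?_
      rw [← S.ei_mul hc (inv_mem hc), mul_inv_cancel]
      exact (S.ei_eq_one (one_mem _)).2 (one_mem _)
    have hm : H.img (c * r * c⁻¹) ∈ H.imgR g := H.mem_imgR.2 ⟨_, (H.move g).conj_mem ((H.move g).mem_C.2 hct) hr,
      ((H.mem_C.1 hc).mul_left hrz).mul_left (H.mem_C.1 hc).inv_left, rfl⟩
    have hx : mulE (mulE (S.ei c) (S.el (H.img r))) (invE (S.ei c)) = S.el (H.img (c * r * c⁻¹)) := by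
      rw [hcinv]
      show _ = S.ei (c * r * c⁻¹)
      rw [S.ei_mul (mul_mem hc hrC) (inv_mem hc), S.ei_mul hc hrC]
      rfl
    simp only [hx]
    exact hel _ _ hm hγ

theorem Crd.imgR_ge {g : G} (ht : g * H.z * g⁻¹ ∈ H.Q) (hne : g * H.z * g⁻¹ ≠ H.z) :
    8 ≤ Nat.card (H.imgR g) ∧ Nat.card (H.Q ⊓ (H.move g).Q : Subgroup G) ≤ 32 := by
  have h1 := H.card_imgR S.no128 ht hne
  have h2 := H.abelian_le (H.Q ⊓ (H.move g).Q) inf_le_left
    (fun a ha b hb => (H.inter_elem hne a ha.1 ha.2).2 b hb.1 hb.2)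
  refine ⟨?_, h2⟩
  by_contra hlt
  have : Nat.card (H.imgR g) * Nat.card (H.Q ⊓ (H.move g).Q : Subgroup G) ≤ 7 * 32 :=
    Nat.mul_le_mul (by omega) h2
  omega

/-- a subgroup whose codes lie in a list is no larger than the list -/
theorem Crd.card_le_length (R : Subgroup Γ) (L : List El) (h : ∀ γ ∈ R, S.el γ ∈ L) :
    Nat.card R ≤ L.toFinset.card := by
  rw [← Nat.card_eq_finsetCard]
  exact Nat.card_le_card_of_injective (fun γ => (⟨S.el γ, List.mem_toFinset.2 (h γ γ.2)⟩ : L.toFinset))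
    fun a b e => Subtype.ext (S.el_inj (congrArg Subtype.val e))

/-- conjugates inside have rank one -/
theorem Crd.fus_pure (hk : k ≠ 1) {t : G} (h : Fus H t) (ht : t ∈ H.Q) (hne : t ≠ H.z) :
    pure (S.vec t) = true := by
  by_contra hp
  have h1 := List.all_eq_true.1 ((mixed_orbit k).resolve_left hk) (S.vec t)
    (List.mem_range.2 (S.vec_lt t))
  simp only [beq_eq_false_iff_ne.2 (S.vec_ne_zero h ht hne), S.fus_q h ht, Bool.false_or,
    Bool.not_eq_true] at h1 hp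
  rw [hp, Bool.false_or, List.any_eq_true] at h1
  obtain ⟨e, he, he22⟩ := h1
  obtain ⟨c, hc, -, hf, hm, hvec⟩ := S.fus_gm h ht he
  rw [beq_iff_eq.1 he22] at hvec
  have hne' : c * t * c⁻¹ ≠ H.z := fun e => by
    rw [e, S.vec_z] at hvec
    norm_num at hvec
  obtain ⟨g, hg⟩ := hf
  rw [← hg] at hm hne' hvec
  have h8 := (S.imgR_ge hm hne').1
  have hle := S.card_le_length (H.imgR g) (oneE :: good k 22) fun γ hγ => by
    by_cases h1 : γ = 1
    · rw [h1, S.el_one]; exact List.mem_cons_self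
    · exact List.mem_cons_of_mem _ (hvec ▸ S.imgR_good hm hne' hγ h1)
  have := (good_mixed k).resolve_left hk
  have h3 := List.toFinset_card_le (oneE :: good k 22)
  simp only [List.length_cons] at h3
  omega

/-- all the good elements of a vector of rank one are images -/
theorem Crd.good_imgR (hk : k ≠ 1) {g : G} (ht : g * H.z * g⁻¹ ∈ H.Q) (hne : g * H.z * g⁻¹ ≠ H.z)
    (hv : S.vec (g * H.z * g⁻¹) = 1) {e : El} (he : e ∈ good1 k) :
    ∃ r ∈ (H.move g).Q, Commute r H.z ∧ S.ei r = e := by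
  haveI : Finite Γ := Finite.of_surjective _ H.π_surj
  set L := (oneE :: good1 k).toFinset
  have hsub : ∀ γ ∈ H.imgR g, S.el γ ∈ L := fun γ hγ => by
    rw [List.mem_toFinset]
    by_cases h1 : γ = 1
    · rw [h1, S.el_one]; exact List.mem_cons_self
    · exact List.mem_cons_of_mem _ (List.contains_iff_mem.1 (List.all_eq_true.1
        ((good_one k).resolve_left hk) _ (hv ▸ S.imgR_good ht hne hγ h1)))
  letI := Fintype.ofFinite (H.imgR g)
  set M := (Finset.univ : Finset (H.imgR g)).image fun γ : ↥(H.imgR g) => S.el (γ : Γ)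
  have hML : M = L := by
    refine Finset.eq_of_subset_of_card_le (fun x hx => ?_) ?_
    · obtain ⟨γ, -, rfl⟩ := Finset.mem_image.1 hx
      exact hsub γ γ.2
    · rw [Finset.card_image_of_injective _ fun a b e => Subtype.ext (S.el_inj e), Finset.card_univ,
        ← Nat.card_eq_fintype_card]
      have h3 := List.toFinset_card_le (oneE :: good1 k)
      have := (S.imgR_ge ht hne).1
      have := good_one_len k
      simp only [List.length_cons] at h3
      show (oneE :: good1 k).toFinset.card ≤ _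
      omega
  have : e ∈ M := by rw [hML, List.mem_toFinset]; exact List.mem_cons_of_mem _ he
  obtain ⟨γ, -, hγ⟩ := Finset.mem_image.1 this
  obtain ⟨r, hr, hrz, hrγ⟩ := H.mem_imgR.1 γ.2
  exact ⟨r, hr, hrz, by rw [Crd.ei, hrγ, hγ]⟩

theorem Crd.mem_inter_one (hk : k ≠ 1) {g : G} (ht : g * H.z * g⁻¹ ∈ H.Q) (hne : g * H.z * g⁻¹ ≠ H.z)
    (hv : S.vec (g * H.z * g⁻¹) = 1) {a : G} (ha : a ∈ H.Q) :
    a ∈ (H.move g).Q ↔ inX 1 (S.vec a) = true := by
  set X : Subgroup G := H.Q ⊓ (H.move g).Q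
  set t := g * H.z * g⁻¹
  have hz : H.z ∈ X := ⟨H.z_mem, S.z_mem_of_fus ht⟩
  let P : Set ℕ := {n | ∃ d ∈ X, S.vec d = n}
  have hlift : ∀ n ∈ P, ∀ b ∈ H.Q, S.vec b = n → b ∈ X := by
    rintro n ⟨d, hd, rfl⟩ b hb e
    rcases S.vec_eq hd.1 hb e.symm with rfl | rfl
    exacts [hd, mul_mem hd hz]
  have hxor : ∀ m ∈ P, ∀ n ∈ P, m ^^^ n ∈ P := by
    rintro m ⟨d, hd, rfl⟩ n ⟨d', hd', rfl⟩
    exact ⟨d * d', mul_mem hd hd', S.vec_mul _ hd.1 _ hd'.1⟩
  have hbasis : ∀ b ∈ [6, 10, 16], b ∈ P := by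
    intro b hb
    have h1 := List.all_eq_true.1 ((good_span k).resolve_left hk) b hb
    obtain ⟨e, he, h2⟩ := List.any_eq_true.1 h1
    obtain ⟨r, hr, hrz, rfl⟩ := S.good_imgR hk ht hne hv he
    obtain ⟨n, hn, h3⟩ := List.any_eq_true.1 h2
    rw [Bool.and_eq_true, beq_iff_eq] at h3
    obtain ⟨p, hp, rfl⟩ := S.vec_surj n (List.mem_range.1 hn)
    have hpt : Commute p t := (S.vec_b p hp t ht).1 (by rw [hv]; simpa using h3.1)
    obtain ⟨hd1, hd2⟩ := H.comm_inter hr hrz hp hpt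
    refine ⟨_, ⟨hd1, hd2⟩, ?_⟩
    rw [S.vec_mul _ (H.conj_mem (H.mem_C.2 hrz) hp) _ (inv_mem hp), S.vec_inv hp,
      S.vec_conj r (H.mem_C.2 hrz) p hp]
    exact h3.2
  have h1P : 1 ∈ P := ⟨t, ⟨ht, (H.move g).z_mem⟩, hv⟩
  have h0P : 0 ∈ P := ⟨1, one_mem _, S.vec_one⟩
  let B : List ℕ := [0, 1, 6, 7, 10, 11, 12, 13, 16, 17, 22, 23, 26, 27, 28, 29]
  have hB : ∀ n ∈ B, n ∈ P := by
    intro n hn
    have h6 := hbasis 6 (by simp)
    have h10 := hbasis 10 (by simp)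
    have h16 := hbasis 16 (by simp)
    simp only [B, List.mem_cons, List.not_mem_nil, or_false] at hn
    rcases hn with rfl | rfl | rfl | rfl | rfl | rfl | rfl | rfl | rfl | rfl | rfl | rfl | rfl | rfl | rfl | rfl
    exacts [h0P, h1P, h6, hxor 6 h6 1 h1P, h10, hxor 10 h10 1 h1P, hxor 6 h6 10 h10,
      hxor _ (hxor 6 h6 10 h10) 1 h1P, h16, hxor 16 h16 1 h1P, hxor 16 h16 6 h6,
      hxor _ (hxor 16 h16 6 h6) 1 h1P, hxor 16 h16 10 h10, hxor _ (hxor 16 h16 10 h10) 1 h1P,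
      hxor _ (hxor 16 h16 6 h6) 10 h10, hxor _ (hxor _ (hxor 16 h16 6 h6) 10 h10) 1 h1P]
  have hspan : ∀ n < 256, inX 1 n = true ↔ n ∈ B := fun n hn => by
    have h := beq_iff_eq.1 (List.all_eq_true.1 X_one_span n (List.mem_range.2 hn))
    rw [h]
    exact List.contains_iff_mem
  constructor
  · intro haX
    by_contra hna
    -- the common part would be too large
    rw [hspan _ (S.vec_lt a)] at hna
    letI := Fintype.ofFinite X
    have hsub : (insert (S.vec a) B.toFinset) ⊆ (Finset.univ : Finset X).image fun d : ↥X => S.vec (d : G) := by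
      intro n hn
      rcases Finset.mem_insert.1 hn with rfl | hn
      · exact Finset.mem_image.2 ⟨⟨a, ha, haX⟩, Finset.mem_univ _, rfl⟩
      · obtain ⟨d, hd, e⟩ := hB n (List.mem_toFinset.1 hn)
        exact Finset.mem_image.2 ⟨⟨d, hd⟩, Finset.mem_univ _, e⟩
    have h17 := Finset.card_le_card hsub
    rw [Finset.card_insert_of_notMem (by rwa [List.mem_toFinset]), List.toFinset_card_of_nodup (l := B) (by decide +kernel), show B.length = 16 from rfl] at h17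
    have hfib : ∀ n ∈ (Finset.univ : Finset X).image fun d : ↥X => S.vec (d : G),
        2 ≤ ((Finset.univ : Finset X).filter fun d : ↥X => S.vec (d : G) = n).card := by
      intro n hn
      obtain ⟨d, -, rfl⟩ := Finset.mem_image.1 hn
      refine Finset.one_lt_card.2 ⟨d, by simp, d * ⟨H.z, hz⟩, ?_, fun e => H.z_ne ?_⟩
      · simp only [Finset.mem_filter, Finset.mem_univ, true_and, Subgroup.coe_mul]
        rw [S.vec_mul _ d.2.1 _ H.z_mem, S.vec_z, Nat.xor_zero]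
      · exact congrArg Subtype.val (left_eq_mul.1 e : (⟨H.z, hz⟩ : X) = 1)
    have h34 := Finset.mul_card_image_le_card (f := fun d : ↥X => S.vec (d : G)) (Finset.univ : Finset X) 2 hfib
    rw [Finset.card_univ, ← Nat.card_eq_fintype_card] at h34
    have h32 : Nat.card ↥X ≤ 32 := (S.imgR_ge ht hne).2
    omega
  · intro hi
    exact (hlift _ (hB _ ((hspan _ (S.vec_lt a)).1 hi)) a ha rfl).2

theorem Crd.mem_inter (hk : k ≠ 1) {g : G} (ht : g * H.z * g⁻¹ ∈ H.Q) (hne : g * H.z * g⁻¹ ≠ H.z)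
    {a : G} (ha : a ∈ H.Q) : a ∈ (H.move g).Q ↔ inX (S.vec (g * H.z * g⁻¹)) (S.vec a) = true := by
  set t := g * H.z * g⁻¹ with htdef
  have hf : Fus H t := ⟨g, rfl⟩
  have h1 := List.all_eq_true.1 ((pure_orbit k).resolve_left hk) (S.vec t) (List.mem_range.2 (S.vec_lt t))
  simp only [beq_eq_false_iff_ne.2 (S.vec_ne_zero hf ht hne), S.fus_q hf ht, S.fus_pure hk hf ht hne,
    Bool.not_true, Bool.false_or, Bool.or_false, List.any_eq_true, Bool.and_eq_true, beq_iff_eq,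
    List.all_eq_true, List.mem_range] at h1
  obtain ⟨e, he, hev, hX⟩ := h1
  obtain ⟨c, hc, hce, -, hm, hvec⟩ := S.fus_gm hf ht he
  rw [hev] at hvec
  have hcg : c * g * H.z * (c * g)⁻¹ = c * t * c⁻¹ := by rw [htdef]; group
  have hne' : c * t * c⁻¹ ≠ H.z := fun e => by
    rw [e, S.vec_z] at hvec
    norm_num at hvec
  have h2 := S.mem_inter_one hk (g := c * g) (by rw [hcg]; exact hm) (by rw [hcg]; exact hne')
    (by rw [hcg]; exact hvec) (H.conj_mem hc ha)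
  rw [H.mem_moveQ, show (c * g)⁻¹ * (c * a * c⁻¹) * (c * g) = g⁻¹ * a * g by group, S.vec_conj c hc a ha,
    show S.el (H.img c) = e from hce] at h2
  rw [H.mem_moveQ, h2, hX _ (S.vec_lt a)]

/-- all lifts of vectors of rank one are conjugates once one conjugate lies inside -/
theorem Crd.fus_all (hk : k ≠ 1) {t s : G} (h : Fus H t) (ht : t ∈ H.Q) (hne : t ≠ H.z) (hs : s ∈ H.Q)
    (hq : qN (S.vec s) = false) (hp : pure (S.vec s) = true) (h0 : S.vec s ≠ 0) : Fus H s := by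
  have key : ∀ u ∈ H.Q, qN (S.vec u) = false → pure (S.vec u) = true → S.vec u ≠ 0 →
      ∃ c ∈ H.C, S.vec (c * u * c⁻¹) = 1 := by
    intro u hu hq hp h0
    have h1 := List.all_eq_true.1 ((pure_orbit k).resolve_left hk) (S.vec u) (List.mem_range.2 (S.vec_lt u))
    simp only [beq_eq_false_iff_ne.2 h0, hq, hp, Bool.not_true, Bool.false_or, Bool.or_false,
      List.any_eq_true, Bool.and_eq_true, beq_iff_eq] at h1
    obtain ⟨e, he, hev, -⟩ := h1
    obtain ⟨c, hc, rfl⟩ := S.exists_ei he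
    exact ⟨c, hc, by rw [S.vec_conj c hc u hu]; exact hev⟩
  obtain ⟨c, hc, hct⟩ := key t ht (S.fus_q h ht) (S.fus_pure hk h ht hne) (S.vec_ne_zero h ht hne)
  obtain ⟨d, hd, hds⟩ := key s hs hq hp h0
  have h1 := S.fus_of_vec (h.conj c) (H.conj_mem hc ht) (H.conj_mem hd hs) (by rw [hct]; decide)
    (hct.trans hds.symm)
  have := h1.conj d⁻¹
  rwa [show d⁻¹ * (d * s * d⁻¹) * d⁻¹⁻¹ = s by group] at this

/-- in the middle quotient a conjugate on the line brings the whole line into the common part -/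
theorem Crd.line_inter (hk : k = 1) {g : G} (ht : g * H.z * g⁻¹ ∈ H.Q) (hne : g * H.z * g⁻¹ ≠ H.z)
    (hv : S.vec (g * H.z * g⁻¹) ∈ lineS) {a : G} (ha : a ∈ H.Q) (hl : S.vec a ∈ lineS ∨ S.vec a = 0) :
    a ∈ (H.move g).Q := by
  subst hk
  set t := g * H.z * g⁻¹ with htdef
  have hz : H.z ∈ (H.move g).Q := S.z_mem_of_fus ht
  suffices h : ∃ d ∈ H.Q, d ∈ (H.move g).Q ∧ S.vec d ∈ lineS ∧ S.vec d ≠ S.vec t by
    obtain ⟨d, hd, hd', hdl, hdne⟩ := h
    have hlift : ∀ b ∈ H.Q, b ∈ (H.move g).Q → S.vec b = S.vec a → a ∈ (H.move g).Q := fun b hb hb' e => by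
      rcases S.vec_eq hb ha e with rfl | rfl
      exacts [hb', mul_mem hb' hz]
    have hline : ∀ x ∈ lineS, ∀ y ∈ lineS, y ≠ x → ∀ w ∈ 0 :: lineS,
        w = 0 ∨ w = x ∨ w = y ∨ w = x ^^^ y := by
      decide
    rcases hline _ hv _ hdl hdne _ (List.mem_cons.2 hl.symm) with e | e | e | e
    · exact hlift 1 (one_mem _) (one_mem _) (by rw [S.vec_one, e])
    · exact hlift t ht (H.move g).z_mem e.symm
    · exact hlift d hd hd' e.symm
    · exact hlift (t * d) (mul_mem ht hd) (mul_mem (H.move g).z_mem hd') (by rw [S.vec_mul _ ht _ hd, e])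
  by_contra hno
  have hbad : ∀ γ ∈ H.imgR g, S.el γ ∈ badS (S.vec t) := by
    intro γ hγ
    by_cases h1 : γ = 1
    · rw [h1, S.el_one]; exact List.mem_cons_self
    have h2 := List.all_eq_true.1 (List.all_eq_true.1 badS_ok _ hv) _ (S.imgR_good ht hne hγ h1)
    rw [Bool.or_eq_true] at h2
    rcases h2 with h3 | h3
    · exact List.contains_iff_mem.1 h3
    exfalso
    obtain ⟨w, hw, h4⟩ := List.any_eq_true.1 h3
    rw [Bool.and_eq_true, bne_iff_ne, List.any_eq_true] at h4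
    obtain ⟨hwv, n, hn, h5⟩ := h4
    rw [Bool.and_eq_true, beq_iff_eq] at h5
    obtain ⟨r, hr, hrz, rfl⟩ := H.mem_imgR.1 hγ
    obtain ⟨p, hp, rfl⟩ := S.vec_surj n (List.mem_range.1 hn)
    have hpt : Commute p t := (S.vec_b p hp t ht).1 (by simpa using h5.1)
    obtain ⟨hd1, hd2⟩ := H.comm_inter hr hrz hp hpt
    refine hno ⟨_, hd1, hd2, ?_⟩
    rw [S.vec_mul _ (H.conj_mem (H.mem_C.2 hrz) hp) _ (inv_mem hp), S.vec_inv hp,
      S.vec_conj r (H.mem_C.2 hrz) p hp, h5.2]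
    exact ⟨hw, hwv⟩
  have h8 := (S.imgR_ge ht hne).1
  set L := ((badS (S.vec t)).filter fun r =>
    decide (8 ≤ (badS (S.vec t)).countP fun s => (badS (S.vec t)).contains (mulE r s))) with hL
  have hle := S.card_le_length (H.imgR g) L fun γ hγ => by
    refine List.mem_filter.2 ⟨hbad γ hγ, decide_eq_true ?_⟩
    have h1 := S.card_le_length (H.imgR g)
      ((badS (S.vec t)).filter fun s => (badS (S.vec t)).contains (mulE (S.el γ) s)) fun δ hδ =>
        List.mem_filter.2 ⟨hbad δ hδ, List.contains_iff_mem.2 (by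
          rw [← S.el_mul]; exact hbad _ (mul_mem hγ hδ))⟩
    refine le_trans h8 (le_trans h1 (le_trans (List.toFinset_card_le _) ?_))
    rw [List.countP_eq_length_filter]
  have h2 := of_decide_eq_true (List.all_eq_true.1 badS_small _ hv)
  have := List.toFinset_card_le L
  rw [← hL] at h2
  omega

end Cfsg.Agent.Spor.XS
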