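import Cfsg.Agent.Lib.Spor.ExtraS3A6.AlphaCore

/-!
A conjugate over the chosen involution in the first and third quotient.
-/

set_option autoImplicit false
set_option linter.style.haveILetI false
set_option linter.unusedSectionVars false

namespace Cfsg.Agent.Spor.XS

open Model

universe u v

variable {k : Fin 3} {G : Type u} [Group G] [Finite G] {Γ : Type v} [Group Γ] {H : Hyp G Γ}

theorem x0_fix_facts (k : Fin 3) (hk : k ≠ 1) {v : ℕ} (hv : v < 256) (h : gm (x0 k) v = v) :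
    qN v = false ∧ ∃ p < 256, gm (x0 k) p ^^^ p = v := by
  have key : ((List.range 256).all fun v => gm (x0 k) v != v ||
      (!qN v && (List.range 256).any fun p => gm (x0 k) p ^^^ p == v)) = true := by
    fin_cases k
    · exact xA_fix
    · exact absurd rfl hk
    · exact xE_fix
  have h1 := List.all_eq_true.1 key v (List.mem_range.2 hv)
  simp only [h, bne_self_eq_false, Bool.false_or, Bool.and_eq_true, Bool.not_eq_true', List.any_eq_true,
    beq_iff_eq, List.mem_range] at h1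
  exact h1

/-- a conjugate over the chosen involution -/
structure Outer (S : Crd k H) where
  hk : k ≠ 1
  g : G
  hC : g * H.z * g⁻¹ ∈ H.C
  he : S.ei (g * H.z * g⁻¹) = x0 k

variable {S : Crd k H} (O : Outer S)

/-- the conjugate -/
def Outer.t : G := O.g * H.z * O.g⁻¹

theorem Outer.tC : O.t ∈ H.C := O.hC

theorem Outer.te : S.ei O.t = x0 k := O.he

/-- fixed by the chosen involution -/
def Fx (S : Crd k H) (a : G) : Prop := a ∈ H.Q ∧ gm (x0 k) (S.vec a) = S.vec a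

include O

theorem Outer.fx_sq {a : G} (h : Fx S a) : a * a = 1 :=
  (S.vec_q a h.1).1 (x0_fix_facts k O.hk (S.vec_lt a) h.2).1

theorem Outer.fx_mul {a b : G} (ha : Fx S a) (hb : Fx S b) : Fx S (a * b) := by
  refine ⟨mul_mem ha.1 hb.1, ?_⟩
  rw [S.vec_mul a ha.1 b hb.1, S.gm_xor (x0_mem k).1 (S.vec_lt _) (S.vec_lt _), ha.2, hb.2]

theorem Outer.fx_comm {a b : G} (ha : Fx S a) (hb : Fx S b) : Commute a b := by
  have h := O.fx_sq (O.fx_mul ha hb)
  calc a * b = a * b * (b * a * (b * a)) := by rw [O.fx_sq (O.fx_mul hb ha), mul_one]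
    _ = a * (b * b) * a * b * a := by group
    _ = a * a * b * a := by rw [O.fx_sq hb, mul_one]
    _ = b * a := by rw [O.fx_sq ha, one_mul]

theorem Outer.comm_iff {a : G} (ha : a ∈ H.Q) : Commute a O.t ↔ gm (x0 k) (S.vec a) = S.vec a := by
  constructor
  · intro h
    rw [← O.te]
    exact S.vec_conj' O.tC ha h.symm
  · intro h
    obtain ⟨L⟩ := S.exists_lift
    obtain ⟨hq, hqx⟩ := L.split O.tC O.te (H.move O.g).z_sq
    have h1 := ((L.comm_iff ha).2 h).mul_right (O.fx_comm ⟨ha, h⟩ ⟨hq, (L.comm_iff hq).1 hqx⟩)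
    rwa [mul_inv_cancel_left] at h1

theorem Outer.z_not : H.z ∉ (H.move O.g).Q := fun h => by
  have h1 := (H.img_eq_one O.tC).2 (S.mem_of_z_mem h)
  have h2 : S.ei O.t = oneE := (S.ei_eq_one O.tC).2 (S.mem_of_z_mem h)
  exact (x0_mem k).2.2.2.2.2 (O.te.symm.trans h2)

theorem Outer.t_sq : O.t * O.t = 1 := (H.move O.g).z_sq

/-- `t a` is a conjugate of `t` under `Q` -/
def InT (S : Crd k H) (t a : G) : Prop := ∃ p ∈ H.Q, p * t * p⁻¹ = t * a

/-- the commutator with an element of `Q` -/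
theorem Outer.comm_vec {p : G} (hp : p ∈ H.Q) :
    O.t * p * O.t * p⁻¹ ∈ H.Q ∧ S.vec (O.t * p * O.t * p⁻¹) = gm (x0 k) (S.vec p) ^^^ S.vec p ∧
      p * O.t * p⁻¹ = O.t * (O.t * p * O.t * p⁻¹) := by
  have hinv : O.t⁻¹ = O.t := inv_eq_of_mul_eq_one_right O.t_sq
  have hc : O.t * p * O.t⁻¹ ∈ H.Q := H.conj_mem O.tC hp
  have hv := S.vec_conj O.t O.tC p hp
  rw [hinv] at hc hv
  refine ⟨mul_mem hc (inv_mem hp), ?_, ?_⟩
  · rw [S.vec_mul _ hc _ (inv_mem hp), hv, S.vec_inv hp, show S.el (H.img O.t) = x0 k from O.te]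
  · calc p * O.t * p⁻¹ = (O.t * O.t) * (p * O.t * p⁻¹) := by rw [O.t_sq, one_mul]
      _ = _ := by group

theorem Outer.inT_exists {a : G} (h : Fx S a) : InT S O.t a ∨ InT S O.t (a * H.z) := by
  obtain ⟨-, n, hn, e⟩ := x0_fix_facts k O.hk (S.vec_lt a) h.2
  obtain ⟨p, hp, rfl⟩ := S.vec_surj n hn
  obtain ⟨hm, hv, he⟩ := O.comm_vec hp
  rcases S.vec_eq h.1 hm (e.symm.trans hv.symm) with e1 | e1
  · exact Or.inl ⟨p, hp, by rw [he, e1]⟩
  · exact Or.inr ⟨p, hp, by rw [he, e1]⟩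

theorem Outer.inT_fx {a : G} (h : InT S O.t a) (ha : a ∈ H.Q) : Fx S a := by
  obtain ⟨p, hp, e⟩ := h
  refine ⟨ha, (O.comm_iff ha).1 ?_⟩
  have h2 : O.t * a * (O.t * a) = 1 := by
    rw [← e, conj_mul, O.t_sq, mul_one, mul_inv_cancel]
  rcases H.sq_mem ha with e1 | e1
  · have h3 := inv_eq_of_mul_eq_one_right h2
    rw [mul_inv_rev, inv_eq_of_mul_eq_one_right e1, inv_eq_of_mul_eq_one_right O.t_sq] at h3
    exact h3
  · exfalso
    -- the element would be fixed, hence an involution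
    have hfx : gm (x0 k) (S.vec a) = S.vec a := by
      rw [← O.te, Crd.ei, ← S.vec_conj O.t O.tC a ha]
      have e2 : O.t * a * O.t⁻¹ = a⁻¹ := by
        rw [inv_eq_of_mul_eq_one_right O.t_sq]
        exact eq_inv_of_mul_eq_one_left (by rw [← h2]; group)
      rw [e2, S.vec_inv ha]
    exact H.z_ne (e1.symm.trans (O.fx_sq ⟨ha, hfx⟩))

theorem Outer.inT_unique {a : G} (ha : Fx S a) (h : InT S O.t a) : ¬ InT S O.t (a * H.z) := by
  rintro ⟨p', hp', e'⟩
  obtain ⟨p, hp, e⟩ := h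
  obtain ⟨-, hv, he⟩ := O.comm_vec hp
  obtain ⟨-, hv', he'⟩ := O.comm_vec hp'
  have h1 : a = O.t * p * O.t * p⁻¹ := mul_left_cancel (e.symm.trans he)
  have h2 : a * H.z = O.t * p' * O.t * p'⁻¹ := mul_left_cancel (e'.symm.trans he')
  have hxm := (x0_mem k).1
  have hfix : gm (x0 k) (S.vec (p⁻¹ * p')) = S.vec (p⁻¹ * p') := by
    rw [S.vec_mul _ (inv_mem hp) _ hp', S.vec_inv hp, S.gm_xor hxm (S.vec_lt _) (S.vec_lt _),
      ← Nat.xor_eq_zero_iff]
    have h3 : S.vec a = S.vec (a * H.z) := by rw [S.vec_mul a ha.1 H.z H.z_mem, S.vec_z, Nat.xor_zero]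
    rw [h2, hv', h1, hv, ← Nat.xor_eq_zero_iff] at h3
    rw [← h3]
    ac_rfl
  have hc := (O.comm_iff (mul_mem (inv_mem hp) hp')).2 hfix
  refine H.z_ne ?_
  have h4 : O.t * (a * H.z) = O.t * a := by
    rw [← e', ← e]
    calc p' * O.t * p'⁻¹ = p * ((p⁻¹ * p') * O.t) * p'⁻¹ := by group
      _ = p * (O.t * (p⁻¹ * p')) * p'⁻¹ := by rw [hc.eq]
      _ = _ := by group
  exact mul_eq_left.1 (mul_left_cancel h4)

/-- the product rule -/
theorem Outer.inT_mul {p1 a b : G} (hp1 : p1 ∈ H.Q) (hb : b ∈ H.Q) (h1 : p1 * O.t * p1⁻¹ = O.t * a)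
    (h2 : InT S O.t b) : InT S O.t (a * b * H.tp (H.kap p1 b)) := by
  obtain ⟨p2, hp2, e⟩ := h2
  refine ⟨p1 * p2, mul_mem hp1 hp2, ?_⟩
  calc p1 * p2 * O.t * (p1 * p2)⁻¹ = p1 * (p2 * O.t * p2⁻¹) * p1⁻¹ := by group
    _ = (p1 * O.t * p1⁻¹) * (p1 * b * p1⁻¹) := by rw [e]; group
    _ = _ := by rw [h1, H.conj_eq hp1 hb]; group

theorem Outer.inT_conj {c a : G} (hc : c ∈ H.C) (hct : Commute c O.t) (h : InT S O.t a) :
    InT S O.t (c * a * c⁻¹) := by
  obtain ⟨p, hp, e⟩ := h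
  refine ⟨c * p * c⁻¹, H.conj_mem hc hp, ?_⟩
  calc c * p * c⁻¹ * O.t * (c * p * c⁻¹)⁻¹ = c * p * (c⁻¹ * O.t * c) * p⁻¹ * c⁻¹ := by group
    _ = c * (p * O.t * p⁻¹) * c⁻¹ := by rw [mul_assoc c⁻¹, ← hct.eq, inv_mul_cancel_left]; group
    _ = c * O.t * c⁻¹ * (c * a * c⁻¹) := by rw [e]; group
    _ = _ := by rw [hct.eq, mul_inv_cancel_right]

/-- squares of elements commuting with the chosen involution lift to the centralizer of `t` -/
theorem Outer.square_lift {e : El} (he : e ∈ elsK k) (hx : mulE e (x0 k) = mulE (x0 k) e) :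
    ∃ c ∈ H.C, Commute c O.t ∧ S.ei c = mulE e e := by
  obtain ⟨c, hc, rfl⟩ := S.exists_ei he
  have ht1 : c * O.t * c⁻¹ ∈ H.C := mul_mem (mul_mem hc O.tC) (inv_mem hc)
  set q := O.t * (c * O.t * c⁻¹) with hq
  have hqQ : q ∈ H.Q := by
    have h1 : S.ei O.t = S.ei (c * O.t * c⁻¹) := by
      rw [O.te, S.ei_mul (mul_mem hc O.tC) (inv_mem hc), S.ei_mul hc O.tC, O.te, hx, ← O.te,
        ← S.ei_mul O.tC hc, ← S.ei_mul (mul_mem O.tC hc) (inv_mem hc), mul_inv_cancel_right]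
    have := (S.ei_eq_iff O.tC ht1).1 h1
    rwa [inv_eq_of_mul_eq_one_right O.t_sq] at this
  have hct : c * O.t * c⁻¹ = O.t * q := by rw [hq, ← mul_assoc, O.t_sq, one_mul]
  have hqz : Commute (c * q * c⁻¹) H.z := H.comm_z (H.conj_mem hc hqQ)
  have hfq : Fx S q := by
    refine ⟨hqQ, ?_⟩
    rw [← O.te, Crd.ei, ← S.vec_conj O.t O.tC q hqQ, inv_eq_of_mul_eq_one_right O.t_sq]
    have e2 : O.t * q * O.t = q⁻¹ := eq_inv_of_mul_eq_one_left (by
      rw [show O.t * q * O.t * q = O.t * q * (O.t * q) by group, ← hct, conj_mul, O.t_sq, mul_one,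
        mul_inv_cancel])
    rw [e2, S.vec_inv hqQ]
  rcases O.inT_exists hfq with ⟨p, hp, e⟩ | ⟨p, hp, e⟩
  · -- already centralised
    have hm : p⁻¹ * c ∈ H.C := mul_mem (inv_mem (H.Q_le hp)) hc
    have hcm : Commute (p⁻¹ * c) O.t := by
      have e3 : c * O.t * c⁻¹ = p * O.t * p⁻¹ := hct.trans e.symm
      calc p⁻¹ * c * O.t = p⁻¹ * (c * O.t * c⁻¹) * c := by group
        _ = O.t * (p⁻¹ * c) := by rw [e3]; group
    have hei : S.ei (p⁻¹ * c) = S.ei c := by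
      refine (S.ei_eq_iff hm hc).2 ?_
      rw [show (p⁻¹ * c)⁻¹ * c = c⁻¹ * p * c by group]
      exact H.conj_mem' hc hp
    exact ⟨_, mul_mem hm hm, hcm.mul_left hcm, by rw [S.ei_mul hm hm, hei]⟩
  · have hm : c⁻¹ * p⁻¹ * c ∈ H.Q := H.conj_mem' hc (inv_mem hp)
    refine ⟨p⁻¹ * c * (p⁻¹ * c), mul_mem (mul_mem (inv_mem (H.Q_le hp)) hc)
      (mul_mem (inv_mem (H.Q_le hp)) hc), ?_, ?_⟩
    · have hz : ∀ a ∈ H.C, Commute H.z a := fun a ha => (H.mem_C.1 ha).symm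
      have e3 : p⁻¹ * c * O.t * (p⁻¹ * c)⁻¹ = O.t * H.z := by
        calc p⁻¹ * c * O.t * (p⁻¹ * c)⁻¹ = p⁻¹ * (c * O.t * c⁻¹) * p := by group
          _ = p⁻¹ * (O.t * (q * (H.z * H.z))) * p := by rw [hct, H.z_sq, mul_one]
          _ = p⁻¹ * (O.t * (q * H.z)) * (H.z * p) := by group
          _ = p⁻¹ * (p * O.t * p⁻¹) * (p * H.z) := by rw [e, (H.comm_z hp).eq]
          _ = O.t * H.z := by group
      refine mul_inv_eq_iff_eq_mul.1 ?_
      calc p⁻¹ * c * (p⁻¹ * c) * O.t * (p⁻¹ * c * (p⁻¹ * c))⁻¹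
          = p⁻¹ * c * (p⁻¹ * c * O.t * (p⁻¹ * c)⁻¹) * (p⁻¹ * c)⁻¹ := by group
        _ = p⁻¹ * c * (O.t * H.z) * (p⁻¹ * c)⁻¹ := by rw [e3]
        _ = (p⁻¹ * c * O.t * (p⁻¹ * c)⁻¹) * (p⁻¹ * c * H.z * (p⁻¹ * c)⁻¹) := by group
        _ = O.t := by
          rw [e3, ← (hz _ (mul_mem (inv_mem (H.Q_le hp)) hc)).eq, mul_inv_cancel_right, mul_assoc, H.z_sq,
            mul_one]
    · have hm' : p⁻¹ * c ∈ H.C := mul_mem (inv_mem (H.Q_le hp)) hc
      have hei : S.ei (p⁻¹ * c) = S.ei c := by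
        refine (S.ei_eq_iff hm' hc).2 ?_
        rw [show (p⁻¹ * c)⁻¹ * c = c⁻¹ * p * c by group]
        exact H.conj_mem' hc hp
      rw [S.ei_mul hm' hm', hei]

/-- the common part is not central -/
theorem Outer.exists_Y : ∃ a, Fx S a ∧ a ∈ (H.move O.g).Q ∧ S.vec a ≠ 0 := by
  classical
  by_contra hno
  push Not at hno
  let D : Subgroup G := H.centQ O.t
  have hD : D ≤ (H.move O.g).C := fun a ha => (H.move O.g).mem_C.2 (H.mem_centQ.1 ha).2
  let f : ↥D →* Γ := (H.move O.g).π.comp (Subgroup.inclusion hD)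
  have hinj : Function.Injective f := (injective_iff_map_eq_one f).2 fun a ha => by
    obtain ⟨h1, h2⟩ := H.mem_centQ.1 a.2
    have haQ : (a : G) ∈ (H.move O.g).Q := ((H.move O.g).π_ker _).1 ha
    have := hno a ⟨h1, (O.comm_iff h1).1 h2⟩ haQ
    rcases (S.vec_zero _ h1).1 this with e | e
    · exact Subtype.ext e
    · exact absurd (e ▸ haQ) O.z_not
  haveI : Finite Γ := Finite.of_surjective _ H.π_surj
  have hdvd : Nat.card D ∣ Nat.card Γ := by
    rw [← Nat.card_congr (MonoidHom.ofInjective hinj).toEquiv.symm]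
    exact Subgroup.card_subgroup_dvd_card f.range
  haveI : Fact (Nat.Prime 2) := ⟨Nat.prime_two⟩
  have hp : IsPGroup 2 D :=
    IsPGroup.to_le (IsPGroup.of_card (n := 9) (by rw [H.Q_card]; norm_num)) inf_le_left
  obtain ⟨n, hn⟩ := IsPGroup.iff_card.1 hp
  choose lift hlift using fun v : Fin 256 => S.vec_surj v v.2
  have h32 : 32 ≤ Nat.card D := by
    have hl : ∀ v : {v : Fin 256 // gm (x0 k) v == (v : ℕ)}, ∀ b : Bool,
        (if b then lift v.1 * H.z else lift v.1) ∈ D := by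
      intro v b
      have h1 : lift v.1 ∈ D := H.mem_centQ.2 ⟨(hlift v.1).1, (O.comm_iff (hlift v.1).1).2 (by
        rw [(hlift v.1).2]; exact beq_iff_eq.1 v.2)⟩
      cases b
      · exact h1
      · exact mul_mem h1 (H.z_mem_centQ (H.mem_C.1 O.tC).symm)
    have h16 : Nat.card ({v : Fin 256 // gm (x0 k) v == (v : ℕ)} × Bool) = 32 := by
      rw [Nat.card_prod, Nat.card_eq_fintype_card, Nat.card_eq_fintype_card, Fintype.card_bool,
        fixed_sixteen k O.hk]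
    rw [← h16]
    refine Nat.card_le_card_of_injective (fun x => (⟨_, hl x.1 x.2⟩ : D)) ?_
    rintro ⟨v, b⟩ ⟨w, c⟩ h
    have h1 : (if b then lift v.1 * H.z else lift v.1) = if c then lift w.1 * H.z else lift w.1 :=
      congrArg Subtype.val h
    have hvec : ∀ (u : Fin 256) (d : Bool), S.vec (if d then lift u * H.z else lift u) = u := by
      intro u d
      cases d
      · exact (hlift u).2
      · rw [if_pos rfl, S.vec_mul _ (hlift u).1 _ H.z_mem, S.vec_z, Nat.xor_zero, (hlift u).2]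
    have hvw : v = w := Subtype.ext (Fin.ext (by rw [← hvec v.1 b, h1, hvec]))
    subst hvw
    cases b <;> cases c
    · rfl
    · exact absurd (left_eq_mul.1 h1) H.z_ne
    · exact absurd (mul_eq_left.1 h1) H.z_ne
    · rfl
  have h5 : 5 ≤ n := by
    by_contra h5
    rw [hn] at h32
    have : 2 ^ n ≤ 2 ^ 4 := Nat.pow_le_pow_right (by norm_num) (by omega)
    omega
  have h2160 := ((pow_dvd_pow 2 h5).trans (hn ▸ hdvd)).trans (S.card_dvd' O.hk)
  norm_num at h2160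

end Cfsg.Agent.Spor.XS
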