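import Cfsg.Agent.Lib.Spor.ExtraS3A6.Finish
import Cfsg.Agent.Lib.Spor.ExtraS3A6.FactsBase

/-!
A second conjugate inside the extraspecial group, first and third quotient.
-/

set_option autoImplicit false
set_option linter.style.haveILetI false
set_option linter.unusedSectionVars false

namespace Cfsg.Agent.Spor.XS

open Model

universe u v

variable {k : Fin 3} {G : Type u} [Group G] [Finite G] {Γ : Type v} [Group Γ] {H : Hyp G Γ}

theorem Crd.sym (S : Crd k H) {a b : G} (h : a * H.z * a⁻¹ ∈ (H.move b).Q) :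
    b * H.z * b⁻¹ ∈ (H.move a).Q := by
  rw [H.mem_moveQ] at h
  have h1 := S.z_mem_of_fus (g := b⁻¹ * a) (by
    rwa [show b⁻¹ * a * H.z * (b⁻¹ * a)⁻¹ = b⁻¹ * (a * H.z * a⁻¹) * b by group])
  rw [H.mem_moveQ] at h1 ⊢
  rwa [show a⁻¹ * (b * H.z * b⁻¹) * a = (b⁻¹ * a)⁻¹ * H.z * (b⁻¹ * a) by group]

theorem Hyp.mem_move_move {g b a : G} : a ∈ ((H.move g).move b).Q ↔ a ∈ (H.move (b * g)).Q := by
  rw [Hyp.mem_moveQ, Hyp.mem_moveQ, Hyp.mem_moveQ,
    show g⁻¹ * (b⁻¹ * a * b) * g = (b * g)⁻¹ * a * (b * g) by group]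

theorem Hyp.mem_move_back {g a : G} : a ∈ ((H.move g).move g⁻¹).Q ↔ a ∈ H.Q := by
  rw [Hyp.mem_move_move, inv_mul_cancel, Hyp.mem_moveQ, inv_one, one_mul, mul_one]

theorem Hyp.back_z (g : G) : g⁻¹ * (H.move g).z * g⁻¹⁻¹ = H.z := by
  rw [H.move_z]; group

variable (S : Crd k H)

/-- a pair of points: a conjugate inside with the involution in first position in both views -/
theorem Crd.exists_pair (hk : k ≠ 1) (h : ∃ t, Fus H t ∧ t ∈ H.Q ∧ t ≠ H.z) :
    ∃ g, g * H.z * g⁻¹ ∈ H.Q ∧ g * H.z * g⁻¹ ≠ H.z ∧ S.vec (g * H.z * g⁻¹) = 1 ∧ (S.move g).vec H.z = 1 := by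
  obtain ⟨t, ht, htQ, hne⟩ := h
  obtain ⟨a, ha, hav⟩ := S.vec_surj 1 (by norm_num)
  obtain ⟨-, -, -, -, -, -, -, -, -, -, -, -, -, -, -, -, -, hq1, hp1⟩ := base_lit
  obtain ⟨g, hg⟩ := S.fus_all hk ht htQ hne ha (by rw [hav]; exact hq1) (by rw [hav]; exact hp1)
    (by rw [hav]; decide)
  subst hg
  have hne' : g * H.z * g⁻¹ ≠ H.z := fun e => by
    rw [e, S.vec_z] at hav
    exact absurd hav (by decide)
  have hzQ := S.z_mem_of_fus ha
  have hzf : Fus (H.move g) H.z := ⟨g⁻¹, H.back_z g⟩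
  have hzne : H.z ≠ (H.move g).z := fun e => hne' e.symm
  have h1 := List.all_eq_true.1 ((pure_orbit k).resolve_left hk) ((S.move g).vec H.z)
    (List.mem_range.2 ((S.move g).vec_lt _))
  simp only [beq_eq_false_iff_ne.2 ((S.move g).vec_ne_zero hzf hzQ hzne), (S.move g).fus_q hzf hzQ,
    (S.move g).fus_pure hk hzf hzQ hzne, Bool.not_true, Bool.false_or, Bool.or_false, List.any_eq_true,
    Bool.and_eq_true, beq_iff_eq] at h1
  obtain ⟨e, he, hev, -⟩ := h1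
  obtain ⟨d, hd, hde⟩ := (S.move g).exists_ei he
  have hgd : d⁻¹ * g * H.z * (d⁻¹ * g)⁻¹ = g * H.z * g⁻¹ := by
    have h2 : Commute d (g * H.z * g⁻¹) := (H.move g).mem_C.1 hd
    calc d⁻¹ * g * H.z * (d⁻¹ * g)⁻¹ = d⁻¹ * (g * H.z * g⁻¹ * d) := by group
      _ = g * H.z * g⁻¹ := by rw [← h2.eq, inv_mul_cancel_left]
  refine ⟨d⁻¹ * g, by rw [hgd]; exact ha, by rw [hgd]; exact hne', by rw [hgd]; exact hav, ?_⟩
  show S.vec ((d⁻¹ * g)⁻¹ * H.z * (d⁻¹ * g)) = 1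
  rw [show (d⁻¹ * g)⁻¹ * H.z * (d⁻¹ * g) = g⁻¹ * (d * H.z * d⁻¹) * g by group]
  show (S.move g).vec (d * H.z * d⁻¹) = 1
  rw [(S.move g).vec_conj d hd H.z hzQ, ← hev, ← hde]
  rfl

variable {g : G} (ht : g * H.z * g⁻¹ ∈ H.Q) (hne : g * H.z * g⁻¹ ≠ H.z)
  (hv : S.vec (g * H.z * g⁻¹) = 1) (hv' : (S.move g).vec H.z = 1)

include ht hne hv'

theorem Crd.moved_inter (hk : k ≠ 1) {a : G} (ha : a ∈ (H.move g).Q) :
    a ∈ H.Q ↔ inX 1 ((S.move g).vec a) = true := by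
  have hb := H.back_z g
  have h1 := (S.move g).mem_inter hk (g := g⁻¹) (by rw [hb]; exact S.z_mem_of_fus ht)
    (by rw [hb]; exact fun e => hne e.symm) ha
  rw [hb, hv', Hyp.mem_move_back] at h1
  exact h1

include hv

/-- the element in the fixed coset -/
theorem Crd.exists_four (hk : k ≠ 1) : ∃ r, r ∈ (H.move g).Q ∧ (S.move g).vec r = 4 ∧ Fus H r ∧
    Commute r H.z ∧ r ∈ H.C ∧ r ∉ H.Q ∧ S.ei r = (if k = 0 then xA else xR) := by
  obtain ⟨l1, l2, l3, l4, -⟩ := base_lit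
  have hzQ := S.z_mem_of_fus ht
  obtain ⟨r, hr, hrv⟩ := (S.move g).vec_surj 4 (by norm_num)
  have hrz : Commute r H.z := ((S.move g).vec_b H.z hzQ r hr).1 (by rw [hv', hrv]; exact l4) |>.symm
  have hrf : Fus H r := by
    refine (fus_move (g := g)).1 ((S.move g).fus_all hk (t := H.z) ⟨g⁻¹, H.back_z g⟩ hzQ
      (fun e => hne e.symm) hr ?_ ?_ ?_) <;> rw [hrv]
    · exact l2
    · exact l3
    · decide
  have hrQ : r ∉ H.Q := fun h => by
    have := (S.moved_inter ht hne hv' hk hr).1 h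
    rw [hrv, l1] at this
    exact Bool.noConfusion this
  have hrC : r ∈ H.C := H.mem_C.2 hrz
  refine ⟨r, hr, hrv, hrf, hrz, hrC, hrQ, ?_⟩
  have hh := List.all_eq_true.1 ((centre_stab k).resolve_left hk) _ (S.ei_mem r)
  have h1 : (S.ei r == oneE) = false := beq_eq_false_iff_ne.2 fun e => hrQ ((S.ei_eq_one hrC).1 e)
  have h2 : (mulE (S.ei r) (S.ei r) != oneE) = false := bne_eq_false_iff_eq.2 (by
    rw [← S.ei_mul hrC hrC, hrf.sq]; exact (S.ei_eq_one (one_mem _)).2 (one_mem _))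
  have h3 : (gm (S.ei r) 1 != 1) = false := bne_eq_false_iff_eq.2 (by
    have := S.vec_conj' hrC ht ((H.move g).comm_z hr)
    rwa [hv] at this)
  have h4 : ((stab k 1).all fun e => mulE (S.ei r) e == mulE e (S.ei r)) = true := by
    refine List.all_eq_true.2 fun e he => beq_iff_eq.2 ?_
    obtain ⟨c, hc, rfl, hct⟩ := S.exists_stab ht (by rw [hv]; decide) (by rw [hv]; exact he)
    have hcM : c ∈ (H.move g).C := (H.move g).mem_C.2 hct
    have hst : (S.move g).ei c ∈ stab k 1 := List.mem_filter.2 ⟨(S.move g).ei_mem c, beq_iff_eq.2 (by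
      have := (S.move g).vec_conj' hcM hzQ (H.mem_C.1 hc)
      rwa [hv'] at this)⟩
    have hd : c * r * c⁻¹ * r⁻¹ ∈ (H.move g).Q :=
      mul_mem ((H.move g).conj_mem hcM hr) (inv_mem hr)
    have hdQ : c * r * c⁻¹ * r⁻¹ ∈ H.Q := by
      refine (S.moved_inter ht hne hv' hk hd).2 ?_
      rw [(S.move g).vec_mul _ ((H.move g).conj_mem hcM hr) _ (inv_mem hr), (S.move g).vec_inv hr,
        (S.move g).vec_conj c hcM r hr, hrv]
      exact List.all_eq_true.1 ((coset_fixed k).resolve_left hk) _ hst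
    have heq : S.ei (c * r * c⁻¹ * r⁻¹ * (r * c)) = S.ei (r * c) := by
      have hrc : r * c ∈ H.C := mul_mem hrC hc
      rw [show c * r * c⁻¹ * r⁻¹ * (r * c) = r * c * ((r * c)⁻¹ * (c * r * c⁻¹ * r⁻¹) * (r * c)) by group]
      exact S.ei_mul_mem hrc (H.conj_mem' hrc hdQ)
    rw [show c * r * c⁻¹ * r⁻¹ * (r * c) = c * r by group, S.ei_mul hc hrC, S.ei_mul hrC hc] at heq
    exact heq.symm
  rw [h1, h2, h3, h4] at hh
  simpa using hh

omit ht hne hv hv'

include S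

/-- the common part of the two outer points lies at the base -/
theorem Crd.base (hk : k = 2) {g a : G} (ht : g * H.z * g⁻¹ ∈ H.Q) (hne : g * H.z * g⁻¹ ≠ H.z)
    (hr : a * H.z * a⁻¹ ∈ (H.move g).Q) (hrQ : a * H.z * a⁻¹ ∉ H.Q)
    (hrz : Commute (a * H.z * a⁻¹) H.z) (hrf : Fus H (H.z * (a * H.z * a⁻¹))) {d : G} (hd : d ∈ H.Q)
    (hd' : d ∈ (H.move a).Q) : d ∈ (H.move g).Q := by
  subst hk
  have hk : (2 : Fin 3) ≠ 1 := by decide
  set y := g * H.z * g⁻¹ with hy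
  set r := a * H.z * a⁻¹ with hrdef
  -- move the base to first position
  obtain ⟨-, -, -, -, -, -, -, -, -, -, -, -, -, -, -, -, -, hq1, hp1⟩ := base_lit
  have h1 := List.all_eq_true.1 ((pure_orbit 2).resolve_left hk) (S.vec y) (List.mem_range.2 (S.vec_lt y))
  have hyf : Fus H y := ⟨g, rfl⟩
  simp only [beq_eq_false_iff_ne.2 (S.vec_ne_zero hyf ht hne), S.fus_q hyf ht,
    S.fus_pure hk hyf ht hne, Bool.not_true, Bool.false_or, Bool.or_false, List.any_eq_true,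
    Bool.and_eq_true, beq_iff_eq] at h1
  obtain ⟨e, he, hev, -⟩ := h1
  obtain ⟨c, hc, hce⟩ := S.exists_ei he
  -- and the involution to first position seen from there
  have hzQ := S.z_mem_of_fus ht
  have hzne : H.z ≠ y := fun e => hne e.symm
  have hzf : Fus (H.move g) H.z := ⟨g⁻¹, H.back_z g⟩
  set g1 := c * g
  have hg1 : g1 * H.z * g1⁻¹ = c * y * c⁻¹ := by simp only [g1, hy]; group
  have ht1 : g1 * H.z * g1⁻¹ ∈ H.Q := by rw [hg1]; exact H.conj_mem hc ht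
  have hne1 : g1 * H.z * g1⁻¹ ≠ H.z := fun e => hne (by
    rw [hg1] at e
    rw [show y = c⁻¹ * (c * y * c⁻¹) * c by group, e, mul_assoc, ← (H.mem_C.1 hc).eq, inv_mul_cancel_left])
  have hv1 : S.vec (g1 * H.z * g1⁻¹) = 1 := by
    rw [hg1, S.vec_conj c hc y ht, show S.el (H.img c) = e from hce, hev]
  have hz1 := S.z_mem_of_fus ht1
  have hzf1 : Fus (H.move g1) H.z := ⟨g1⁻¹, H.back_z g1⟩
  have hzne1 : H.z ≠ (H.move g1).z := fun e => hne1 e.symm
  have h2 := List.all_eq_true.1 ((pure_orbit 2).resolve_left hk) ((S.move g1).vec H.z)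
    (List.mem_range.2 ((S.move g1).vec_lt _))
  simp only [beq_eq_false_iff_ne.2 ((S.move g1).vec_ne_zero hzf1 hz1 hzne1), (S.move g1).fus_q hzf1 hz1,
    (S.move g1).fus_pure hk hzf1 hz1 hzne1, Bool.not_true, Bool.false_or, Bool.or_false, List.any_eq_true,
    Bool.and_eq_true, beq_iff_eq] at h2
  obtain ⟨e2, he2, hev2, -⟩ := h2
  obtain ⟨f, hf, hfe⟩ := (S.move g1).exists_ei he2
  set g2 := f⁻¹ * g1 with hg2def
  have hfc : Commute f (g1 * H.z * g1⁻¹) := (H.move g1).mem_C.1 hf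
  have hg2 : g2 * H.z * g2⁻¹ = g1 * H.z * g1⁻¹ := by
    calc g2 * H.z * g2⁻¹ = f⁻¹ * (g1 * H.z * g1⁻¹ * f) := by rw [hg2def]; group
      _ = _ := by rw [← hfc.eq, inv_mul_cancel_left]
  have hQ12 : (H.move g2).Q = (H.move g1).Q := H.moveQ_eq hg2
  have ht2 : g2 * H.z * g2⁻¹ ∈ H.Q := by rw [hg2]; exact ht1
  have hne2 : g2 * H.z * g2⁻¹ ≠ H.z := by rw [hg2]; exact hne1
  have hv2 : S.vec (g2 * H.z * g2⁻¹) = 1 := by rw [hg2]; exact hv1
  have hv2' : (S.move g2).vec H.z = 1 := by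
    show S.vec (g2⁻¹ * H.z * g2) = 1
    rw [hg2def, show (f⁻¹ * g1)⁻¹ * H.z * (f⁻¹ * g1) = g1⁻¹ * (f * H.z * f⁻¹) * g1 by group]
    show (S.move g1).vec (f * H.z * f⁻¹) = 1
    rw [(S.move g1).vec_conj f hf H.z hz1, ← hev2, ← hfe]
    rfl
  -- everything conjugated by `c`
  have hconj : ∀ x, x ∈ (H.move g).Q ↔ c * x * c⁻¹ ∈ (H.move g2).Q := fun x => by
    rw [hQ12, H.mem_moveQ, H.mem_moveQ, show g1⁻¹ * (c * x * c⁻¹) * g1 = g⁻¹ * x * g by simp only [g1]; group]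
  set r1 := c * r * c⁻¹ with hr1
  have hr1Q : r1 ∈ (H.move g2).Q := (hconj r).1 hr
  have hr1n : r1 ∉ H.Q := fun h => hrQ (by
    have := H.conj_mem' hc h
    rwa [show c⁻¹ * r1 * c = r by rw [hr1]; group] at this)
  have hr1z : Commute r1 H.z := by
    have h := H.mem_C.1 hc
    exact (h.mul_left hrz).mul_left h.inv_left
  have hz2 := S.z_mem_of_fus ht2
  have hzf2 : Fus (H.move g2) H.z := ⟨g2⁻¹, H.back_z g2⟩
  have hzne2 : H.z ≠ (H.move g2).z := fun e => hne2 e.symm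
  have hr1f : Fus (H.move g2) r1 := fus_move.2 ⟨c * a, by rw [hr1, hrdef]; group⟩
  have hr1ne : r1 ≠ (H.move g2).z := fun e => hr1n (e ▸ ht2)
  have hzr : Fus (H.move g2) (H.z * r1) := by
    refine fus_move.2 ?_
    have h := hrf.conj c
    rwa [show c * (H.z * r) * c⁻¹ = (c * H.z * c⁻¹) * (c * r * c⁻¹) by group, (H.mem_C.1 hc).eq,
      mul_inv_cancel_right, ← hr1] at h
  have hzrQ : H.z * r1 ∈ (H.move g2).Q := mul_mem hz2 hr1Q
  have hzrne : H.z * r1 ≠ (H.move g2).z := fun e => hr1n (by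
    rw [show r1 = H.z * (H.z * r1) by rw [← mul_assoc, H.z_sq, one_mul], e]
    exact mul_mem H.z_mem ht2)
  -- the vector of `r1` lies in the coset of `4`
  set n := (S.move g2).vec r1
  have hb := List.all_eq_true.1 base_pairs n (List.mem_range.2 ((S.move g2).vec_lt _))
  have hbN : bN 1 n = false := by
    rw [← hv2']
    exact ((S.move g2).vec_b H.z hz2 r1 hr1Q).2 hr1z.symm
  have hnX : inX 1 n = false := by
    rw [← Bool.not_eq_true]
    exact fun h => hr1n ((S.moved_inter ht2 hne2 hv2' hk hr1Q).2 h)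
  have hpp : Model.pure (1 ^^^ n) = true := by
    rw [← hv2', ← (S.move g2).vec_mul H.z hz2 r1 hr1Q]
    exact (S.move g2).fus_pure hk hzr hzrQ hzrne
  simp only [beq_eq_false_iff_ne.2 ((S.move g2).vec_ne_zero hr1f hr1Q hr1ne), (S.move g2).fus_q hr1f hr1Q, n,
    (S.move g2).fus_pure hk hr1f hr1Q hr1ne, Bool.not_true, Bool.false_or, Bool.or_false] at hb
  simp only [n] at hbN hnX hpp
  rw [hbN, hnX, hpp, Bool.not_true, Bool.false_or, Bool.false_or, Bool.false_or, Bool.and_eq_true] at hb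
  obtain ⟨r4, hr4, hr4v, -, -, hr4C, -, hr4e⟩ := S.exists_four ht2 hne2 hv2 hv2' hk
  have hdiff : r4⁻¹ * r1 ∈ H.Q := by
    refine (S.moved_inter ht2 hne2 hv2' hk (mul_mem (inv_mem hr4) hr1Q)).2 ?_
    rw [(S.move g2).vec_mul _ (inv_mem hr4) _ hr1Q, (S.move g2).vec_inv hr4, hr4v, Nat.xor_comm]
    exact hb.1
  have hr1C : r1 ∈ H.C := H.mem_C.2 hr1z
  have her1 : S.ei r1 = xR := by
    rw [← (S.ei_eq_iff hr4C hr1C).2 hdiff, hr4e]
    exact if_neg (by decide)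
  -- the element
  set d1 := c * d * c⁻¹
  have hd1 : d1 ∈ H.Q := H.conj_mem hc hd
  have hd1' : d1 ∈ (H.move (c * a)).Q := by
    rw [H.mem_moveQ, show (c * a)⁻¹ * d1 * (c * a) = a⁻¹ * d * a by simp only [d1]; group]
    exact H.mem_moveQ.1 hd'
  have hca : c * a * H.z * (c * a)⁻¹ = r1 := by rw [hr1, hrdef]; group
  have hcane : c * a * H.z * (c * a)⁻¹ ≠ H.z := fun e => hr1n (by rw [← hca, e]; exact H.z_mem)
  have hsq := (H.inter_elem hcane d1 hd1 hd1').1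
  have hcomm : Commute d1 r1 := hca ▸ (H.move (c * a)).comm_z hd1'
  have hfix := S.vec_conj' hr1C hd1 hcomm.symm
  rw [her1] at hfix
  have hR := List.all_eq_true.1 xR_fix (S.vec d1) (List.mem_range.2 (S.vec_lt _))
  simp only [hfix, bne_self_eq_false, Bool.false_or, Bool.and_eq_true, (S.vec_q d1 hd1).2 hsq] at hR
  refine (hconj d).2 ((S.mem_inter hk ht2 hne2 hd1).2 ?_)
  rw [hv2]
  exact hR.1

/-- in the third quotient no other conjugate lies inside -/
theorem Crd.no_inner (hk : k = 2) : ∀ t, Fus H t → t ∈ H.Q → t = H.z := by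
  by_contra hcon
  push Not at hcon
  subst hk
  have hk : (2 : Fin 3) ≠ 1 := by decide
  obtain ⟨g, ht, hne, hv, hv'⟩ := S.exists_pair hk hcon
  obtain ⟨-, -, -, -, l5, l5p, l7q, l7p, l7X, l47, -, l10q, l10p, l10X, l410, -, l710, -⟩ := base_lit
  obtain ⟨r, hr, hrv, hrf, hrz, hrC, hrQ, -⟩ := S.exists_four ht hne hv hv' hk
  obtain ⟨a, ha⟩ := hrf
  have hzQ := S.z_mem_of_fus ht
  have hzf : Fus (H.move g) H.z := ⟨g⁻¹, H.back_z g⟩
  have hzne : H.z ≠ (H.move g).z := fun e => hne e.symm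
  have mkFus : ∀ {x : G}, x ∈ (H.move g).Q → qN ((S.move g).vec x) = false → pure ((S.move g).vec x) = true →
      (S.move g).vec x ≠ 0 → Fus H x := fun {x} hx h1 h2 h3 =>
    (fus_move (g := g)).1 ((S.move g).fus_all hk hzf hzQ hzne hx h1 h2 h3)
  obtain ⟨c, hc, hcv⟩ := (S.move g).vec_surj 7 (by norm_num)
  obtain ⟨d, hd, hdv⟩ := (S.move g).vec_surj 10 (by norm_num)
  obtain ⟨b, hb⟩ := mkFus hc (by rw [hcv]; exact l7q) (by rw [hcv]; exact l7p) (by rw [hcv]; decide)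
  have hcQ : c ∈ H.Q := (S.moved_inter ht hne hv' hk hc).2 (by rw [hcv]; exact l7X)
  have hdQ : d ∈ H.Q := (S.moved_inter ht hne hv' hk hd).2 (by rw [hdv]; exact l10X)
  have hra : a * g⁻¹ * (H.move g).z * (a * g⁻¹)⁻¹ = r := by rw [← ha, H.move_z]; group
  have hag : ∀ {x : G}, x ∈ ((H.move g).move (a * g⁻¹)).Q ↔ x ∈ (H.move a).Q := fun {x} => by
    rw [Hyp.mem_move_move, inv_mul_cancel_right]
  have hrne : a * g⁻¹ * (H.move g).z * (a * g⁻¹)⁻¹ ≠ (H.move g).z := fun e => hrQ (by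
    rw [← hra, e]; exact ht)
  have hin : ∀ {x : G} {n : ℕ}, x ∈ (H.move g).Q → (S.move g).vec x = n → inX 4 n = true → x ∈ (H.move a).Q := by
    intro x n hx hn h
    refine hag.1 (((S.move g).mem_inter hk (by rw [hra]; exact hr) hrne hx).2 ?_)
    rw [hra, hrv, hn]
    exact h
  have hcne : c ≠ H.z := fun e => by
    rw [e, hv'] at hcv
    exact absurd hcv (by decide)
  have hbase : d ∈ (H.move b).Q := by
    refine S.base rfl (a := a) (by rw [hb]; exact hcQ) (by rw [hb]; exact hcne) ?_ (by rw [ha]; exact hrQ)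
      (by rw [ha]; exact hrz) ?_ hdQ (hin hd hdv l410)
    · exact S.sym (by rw [hb]; exact hin hc hcv l47)
    · rw [ha]
      have h5 : (S.move g).vec (H.z * r) = 5 := by rw [(S.move g).vec_mul _ hzQ _ hr, hv', hrv]; rfl
      exact mkFus (mul_mem hzQ hr) (by rw [h5]; exact l5) (by rw [h5]; exact l5p) (by rw [h5]; decide)
  have hbg : ∀ {x : G}, x ∈ ((H.move g).move (b * g⁻¹)).Q ↔ x ∈ (H.move b).Q := fun {x} => by
    rw [Hyp.mem_move_move, inv_mul_cancel_right]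
  have hcb : b * g⁻¹ * (H.move g).z * (b * g⁻¹)⁻¹ = c := by rw [← hb, H.move_z]; group
  have hcny : c ≠ (H.move g).z := fun e => by
    rw [e, (S.move g).vec_z] at hcv
    exact absurd hcv (by decide)
  have := ((S.move g).mem_inter hk (g := b * g⁻¹) (by rw [hcb]; exact hc) (by rw [hcb]; exact hcny) hd).1
    (hbg.2 hbase)
  rw [hcb, hcv, hdv, l710] at this
  exact Bool.noConfusion this

/-- first and third quotient -/
theorem alpha_outer [IsSimpleGroup G] (hG : ¬ IsMulCommutative G) (hk : k ≠ 1) : False := by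
  have hfin : ∀ O : Outer S, False := fun O => by
    rcases (show k = 0 ∨ k = 2 by omega) with h | h
    · exact O.not_first h
    · exact O.not_third h (S.no_inner h)
  have hnone : ∀ t, Fus H t → t ∈ H.Q → t = H.z := by
    rcases (show k = 0 ∨ k = 2 by omega) with h | h
    · by_contra hcon
      push Not at hcon
      obtain ⟨g, ht, hne, hv, hv'⟩ := S.exists_pair hk hcon
      obtain ⟨r, -, -, ⟨a, ha⟩, -, hrC, -, hre⟩ := S.exists_four ht hne hv hv' hk
      refine hfin ⟨hk, a, by rw [ha]; exact hrC, ?_⟩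
      rw [ha, hre, h]
      rfl
    · exact S.no_inner h
  obtain ⟨L⟩ := S.exists_lift
  obtain ⟨w, ⟨g, hg⟩, hne, hwC, -, -, hei⟩ := L.exists_other hG
  rcases hei with hei | hei
  · exact hne (hnone w ⟨g, hg⟩ ((S.ei_eq_one hwC).1 hei))
  · exact hfin ⟨hk, g, by rw [hg]; exact hwC, by rw [hg]; exact hei⟩

end Cfsg.Agent.Spor.XS
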