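import Cfsg.Agent.Lib.Spor.ExtraS3A6.Base
import Cfsg.Agent.Lib.Spor.OmegaEightCent.Space

/-!
The symplectic space `Q / Z(Q)` with its quadratic form, and the faithful action of the centralizer on it.
-/

set_option autoImplicit false
set_option linter.style.haveILetI false
set_option linter.unusedSectionVars false

namespace Cfsg.Agent.Spor.XS

open Cfsg.Agent.Solv.ExtTwo

universe u v

variable {G : Type u} [Group G] {Γ : Type v} [Group Γ] (H : Hyp G Γ)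

/-- the centre -/
def Hyp.Zc : Subgroup ↥H.Q := Subgroup.zpowers ⟨H.z, H.z_mem⟩

theorem Hyp.mem_Zc {a : ↥H.Q} : a ∈ H.Zc ↔ (a : G) = 1 ∨ (a : G) = H.z := by
  rw [Hyp.Zc, Subgroup.mem_zpowers_iff]
  constructor
  · rintro ⟨k, rfl⟩
    rcases Int.even_or_odd' k with ⟨m, rfl | rfl⟩
    · left
      rw [zpow_mul, zpow_ofNat, pow_two, H.ext.zz, one_zpow]
      rfl
    · right
      rw [zpow_add, zpow_mul, zpow_ofNat, pow_two, H.ext.zz, one_zpow, one_mul, zpow_one]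
  · rintro (h | h)
    · exact ⟨0, by rw [zpow_zero]; exact Subtype.ext h.symm⟩
    · exact ⟨1, by rw [zpow_one]; exact Subtype.ext h.symm⟩

instance Hyp.Zc_normal : H.Zc.Normal :=
  ⟨fun a ha g => by
    rcases H.mem_Zc.1 ha with h | h <;> refine H.mem_Zc.2 ?_ <;> push_cast <;> rw [h]
    · left; group
    · right
      rw [(H.comm_z g.2).eq, mul_inv_cancel_right]⟩

/-- the quotient -/
abbrev Hyp.Vq : Type u := ↥H.Q ⧸ H.Zc

noncomputable instance Hyp.commGroup : CommGroup H.Vq :=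
  { (inferInstance : Group (↥H.Q ⧸ H.Zc)) with
    mul_comm := by
      intro a b
      obtain ⟨a, rfl⟩ := QuotientGroup.mk_surjective a
      obtain ⟨b, rfl⟩ := QuotientGroup.mk_surjective b
      show ((a * b : ↥H.Q) : ↥H.Q ⧸ H.Zc) = ((b * a : ↥H.Q) : ↥H.Q ⧸ H.Zc)
      rw [QuotientGroup.eq, H.mem_Zc]
      rcases H.ext.comm a b with h | h <;> rw [h]
      · left; rw [inv_mul_cancel]; rfl
      · right
        rw [← mul_assoc, inv_mul_cancel, one_mul] }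

/-- the projection -/
noncomputable def Hyp.mkV : ↥H.Q →* H.Vq := QuotientGroup.mk' H.Zc

theorem Hyp.mkV_surj (v : H.Vq) : ∃ a : ↥H.Q, H.mkV a = v := QuotientGroup.mk_surjective v

theorem Hyp.mkV_eq_iff {a b : ↥H.Q} : H.mkV a = H.mkV b ↔ ∃ k, (b : G) = (a : G) * H.tp k := by
  show (a : ↥H.Q ⧸ H.Zc) = (b : ↥H.Q ⧸ H.Zc) ↔ _
  rw [QuotientGroup.eq, H.mem_Zc]
  push_cast
  constructor
  · rintro (h | h)
    · exact ⟨0, by rw [H.tp_zero, mul_one, inv_mul_eq_one.1 h]⟩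
    · exact ⟨1, by rw [H.tp_one]; exact inv_mul_eq_iff_eq_mul.1 h⟩
  · rintro ⟨k, hk⟩
    rw [hk, inv_mul_cancel_left]
    rcases bit_cases k with rfl | rfl
    · exact Or.inl H.tp_zero
    · exact Or.inr H.tp_one

theorem Hyp.mkV_eq_one_iff {a : ↥H.Q} : H.mkV a = 1 ↔ (a : G) = 1 ∨ (a : G) = H.z :=
  (QuotientGroup.eq_one_iff a).trans H.mem_Zc

/-- the form -/
noncomputable def Hyp.bf (v w : H.Vq) : ZMod 2 :=
  H.kap ((Classical.choose (H.mkV_surj v) : ↥H.Q) : G) ((Classical.choose (H.mkV_surj w) : ↥H.Q) : G)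

theorem Hyp.bf_mk (a b : ↥H.Q) : H.bf (H.mkV a) (H.mkV b) = H.kap (a : G) b := by
  obtain ⟨k, hk⟩ := H.mkV_eq_iff.1 (Classical.choose_spec (H.mkV_surj (H.mkV a)))
  obtain ⟨l, hl⟩ := H.mkV_eq_iff.1 (Classical.choose_spec (H.mkV_surj (H.mkV b)))
  rw [Hyp.bf]
  set a' := (Classical.choose (H.mkV_surj (H.mkV a)) : ↥H.Q)
  set b' := (Classical.choose (H.mkV_surj (H.mkV b)) : ↥H.Q)
  rw [hk, hl, H.kap_mul_left a'.2 (H.tp_mem k) (mul_mem b'.2 (H.tp_mem l)),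
    H.kap_mul_right a'.2 b'.2 (H.tp_mem l), H.kap_tp a'.2, H.kap_symm (H.tp k),
    H.kap_tp (mul_mem b'.2 (H.tp_mem l)), add_zero, add_zero]

/-- the space -/
noncomputable def Hyp.sp : OmegaEightCent.Sp H.Vq where
  B := H.bf
  sq v := by
    obtain ⟨a, rfl⟩ := H.mkV_surj v
    rw [← map_mul, H.mkV_eq_one_iff]
    exact H.sq_mem a.2
  symm v w := by
    obtain ⟨a, rfl⟩ := H.mkV_surj v
    obtain ⟨b, rfl⟩ := H.mkV_surj w
    rw [H.bf_mk, H.bf_mk, H.kap_symm]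
  self v := by
    obtain ⟨a, rfl⟩ := H.mkV_surj v
    rw [H.bf_mk, H.kap_self]
  mul_right u v w := by
    obtain ⟨a, rfl⟩ := H.mkV_surj u
    obtain ⟨b, rfl⟩ := H.mkV_surj v
    obtain ⟨c, rfl⟩ := H.mkV_surj w
    rw [← map_mul, H.bf_mk, H.bf_mk, H.bf_mk]
    exact H.kap_mul_right a.2 b.2 c.2
  nondeg v hv := by
    obtain ⟨a, rfl⟩ := H.mkV_surj v
    rw [H.mkV_eq_one_iff]
    by_contra hne
    simp only [not_or] at hne
    obtain ⟨r, hr, hra⟩ := H.exists_noncommute a.2 hne.1 hne.2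
    have h := hv (H.mkV ⟨r, hr⟩)
    rw [H.bf_mk, H.kap_eq_zero] at h
    exact H.z_ne (mul_left_cancel (a := (a : G) * r) (by rw [← hra, mul_one, h.eq]))
  card := by
    have h := H.Zc.card_mul_index
    rw [H.Q_card, Hyp.Zc, Nat.card_zpowers, (orderOf_eq_prime_iff (p := 2) (hp := ⟨Nat.prime_two⟩)).2 ⟨?_, ?_⟩, Subgroup.index_eq_card] at h
    · show Nat.card (↥H.Q ⧸ Subgroup.zpowers (⟨H.z, H.z_mem⟩ : ↥H.Q)) = 256
      omega
    · rw [pow_two, H.ext.zz]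
    · exact H.ext.ne

/-- conjugation by an element of the centralizer on `Q` -/
def Hyp.cjQ (c : ↥H.C) : ↥H.Q →* ↥H.Q where
  toFun a := ⟨(c : G) * a * (c : G)⁻¹, H.conj_mem c.2 a.2⟩
  map_one' := Subtype.ext (by simp)
  map_mul' a b := Subtype.ext (by simp [mul_assoc])

/-- the action on the space -/
noncomputable def Hyp.act (c : ↥H.C) : H.Vq →* H.Vq :=
  QuotientGroup.lift H.Zc (H.mkV.comp (H.cjQ c)) fun a ha => by
    rw [MonoidHom.mem_ker, MonoidHom.comp_apply, H.mkV_eq_one_iff]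
    rcases H.mem_Zc.1 ha with h | h
    · left; simp [Hyp.cjQ, h]
    · right
      show (c : G) * a * (c : G)⁻¹ = H.z
      rw [h, (H.mem_C.1 c.2).eq, mul_inv_cancel_right]

theorem Hyp.act_mk (c : ↥H.C) (a : ↥H.Q) : H.act c (H.mkV a) = H.mkV (H.cjQ c a) := rfl

theorem Hyp.act_mul (c d : ↥H.C) (v : H.Vq) : H.act (c * d) v = H.act c (H.act d v) := by
  obtain ⟨a, rfl⟩ := H.mkV_surj v
  rw [H.act_mk, H.act_mk, H.act_mk]
  exact congrArg H.mkV (Subtype.ext (by simp [Hyp.cjQ, mul_assoc]))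

theorem Hyp.act_one (v : H.Vq) : H.act 1 v = v := by
  obtain ⟨a, rfl⟩ := H.mkV_surj v
  rw [H.act_mk]
  exact congrArg H.mkV (Subtype.ext (by simp [Hyp.cjQ]))

theorem Hyp.act_bf (c : ↥H.C) (v w : H.Vq) : H.bf (H.act c v) (H.act c w) = H.bf v w := by
  obtain ⟨a, rfl⟩ := H.mkV_surj v
  obtain ⟨b, rfl⟩ := H.mkV_surj w
  rw [H.act_mk, H.act_mk, H.bf_mk, H.bf_mk]
  exact H.kap_conj

/-- the quadratic form -/
noncomputable def Hyp.qv (v : H.Vq) : ZMod 2 :=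
  H.qf ((Classical.choose (H.mkV_surj v) : ↥H.Q) : G)

theorem Hyp.qv_mk (a : ↥H.Q) : H.qv (H.mkV a) = H.qf (a : G) := by
  obtain ⟨k, hk⟩ := H.mkV_eq_iff.1 (Classical.choose_spec (H.mkV_surj (H.mkV a)))
  rw [Hyp.qv]
  set a' := (Classical.choose (H.mkV_surj (H.mkV a)) : ↥H.Q)
  have hz : H.qf (H.tp k) = 0 := H.qf_eq_zero.2 (by
    rcases bit_cases k with rfl | rfl
    · rw [H.tp_zero, one_mul]
    · rw [H.tp_one, H.z_sq])
  rw [hk, H.qf_mul a'.2 (H.tp_mem k), hz, H.kap_tp a'.2, add_zero, add_zero]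

theorem Hyp.qv_one : H.qv 1 = 0 := by
  rw [← map_one H.mkV, H.qv_mk]
  exact H.qf_eq_zero.2 (by simp)

theorem Hyp.qv_mul (v w : H.Vq) : H.qv (v * w) = H.qv v + H.qv w + H.bf v w := by
  obtain ⟨a, rfl⟩ := H.mkV_surj v
  obtain ⟨b, rfl⟩ := H.mkV_surj w
  rw [← map_mul, H.qv_mk, H.qv_mk, H.qv_mk, H.bf_mk]
  exact H.qf_mul a.2 b.2

theorem Hyp.act_qv (c : ↥H.C) (v : H.Vq) : H.qv (H.act c v) = H.qv v := by
  obtain ⟨a, rfl⟩ := H.mkV_surj v
  rw [H.act_mk, H.qv_mk, H.qv_mk]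
  exact H.qf_conj _ _

theorem Hyp.act_of_mem {c : ↥H.C} (hc : (c : G) ∈ H.Q) (v : H.Vq) : H.act c v = v := by
  obtain ⟨a, rfl⟩ := H.mkV_surj v
  rw [H.act_mk, H.mkV_eq_iff]
  refine ⟨H.kap (c : G) a, ?_⟩
  show (a : G) = (c : G) * a * (c : G)⁻¹ * H.tp (H.kap (c : G) a)
  rw [H.conj_eq hc a.2, mul_assoc, ← H.tp_add, CharTwo.add_self_eq_zero, H.tp_zero, mul_one]

theorem Hyp.mem_of_act_trivial {c : ↥H.C} (h : ∀ v, H.act c v = v) : (c : G) ∈ H.Q := by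
  refine H.trivial_mem _ (H.mem_C.1 c.2) fun q hq => ?_
  have h1 := h (H.mkV ⟨q, hq⟩)
  rw [H.act_mk] at h1
  obtain ⟨k, hk⟩ := H.mkV_eq_iff.1 h1.symm
  have hk' : (c : G) * q * (c : G)⁻¹ = q * H.tp k := hk
  rcases bit_cases k with rfl | rfl
  · left; rwa [H.tp_zero, mul_one] at hk'
  · right; rwa [H.tp_one] at hk'

theorem Hyp.act_congr {c d : ↥H.C} (h : H.π c = H.π d) (v : H.Vq) : H.act c v = H.act d v := by
  have hq : (c : G)⁻¹ * d ∈ H.Q := by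
    have h' := H.π_ker (c⁻¹ * d)
    rw [map_mul, map_inv, inv_mul_eq_one] at h'
    exact h'.1 h
  conv_rhs => rw [show d = c * (c⁻¹ * d) by group]
  rw [H.act_mul, H.act_of_mem (c := c⁻¹ * d) hq]

/-- the action of the quotient on the space -/
noncomputable def Hyp.gam (γ : Γ) : H.Vq →* H.Vq := H.act (Function.surjInv H.π_surj γ)

theorem Hyp.gam_π (c : ↥H.C) (v : H.Vq) : H.gam (H.π c) v = H.act c v :=
  H.act_congr (Function.surjInv_eq H.π_surj (H.π c)) v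

theorem Hyp.gam_mul (γ δ : Γ) (v : H.Vq) : H.gam (γ * δ) v = H.gam γ (H.gam δ v) := by
  obtain ⟨c, rfl⟩ := H.π_surj γ
  obtain ⟨d, rfl⟩ := H.π_surj δ
  rw [← map_mul, H.gam_π, H.gam_π, H.gam_π, H.act_mul]

theorem Hyp.gam_one (v : H.Vq) : H.gam 1 v = v := by
  rw [← map_one H.π, H.gam_π, H.act_one]

theorem Hyp.gam_bf (γ : Γ) (v w : H.Vq) : H.bf (H.gam γ v) (H.gam γ w) = H.bf v w := H.act_bf _ v w

theorem Hyp.gam_qv (γ : Γ) (v : H.Vq) : H.qv (H.gam γ v) = H.qv v := H.act_qv _ v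

theorem Hyp.gam_faithful {γ : Γ} (h : ∀ v, H.gam γ v = v) : γ = 1 := by
  obtain ⟨c, rfl⟩ := H.π_surj γ
  exact (H.π_ker c).2 (H.mem_of_act_trivial fun v => (H.gam_π c v).symm.trans (h v))

end Cfsg.Agent.Spor.XS
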